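import Cfsg.Agent.HSD.Pc

/-! Partial automorphisms of table groups realized by conjugation; transport lemmas. -/

set_option autoImplicit false

namespace Cfsg.Agent.HSD.Pc

open Cfsg.Agent.Comp Cfsg.Agent.X32

variable {G : Type*} [Group G] {T : Tab} [Fact T.OK]

/-- `g` acts on the subgroup `{k | p k}` generated by `gs` by the map `O` (e.g. `lkE C`) -/
theorem act_tab (φ : TG T →* G) (g : G) (p : TG T → Prop) (O : TG T → TG T) (gs : List (TG T))
    (hg : ∀ s ∈ gs, Cj g (φ s) (φ (O s)))
    (hcl : ∀ k, p k → (k = 1 ∧ O k = 1) ∨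
      ∃ s ∈ gs, p (s * k) ∧ (s * k).v < k.v ∧ O (s * k) = O s * O k) (k : TG T) (hk : p k) :
    Cj g (φ k) (φ (O k)) := by
  induction hn : k.v using Nat.strong_induction_on generalizing k with
  | _ n ih =>
    rcases hcl k hk with ⟨rfl, e⟩ | ⟨s, hs, a, b, c⟩
    · rw [e, map_one]; exact Cj.one g
    · have := (hg s hs).inv.mul (ih _ (hn ▸ b) _ a rfl)
      rwa [c, map_mul, map_mul, inv_mul_cancel_left, inv_mul_cancel_left] at this

theorem map_cj {K : Type*} [Group K] (φ : K →* G) {g x y : K} (h : Cj g x y) :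
    Cj (φ g) (φ x) (φ y) := by
  rw [← (h : _ = _), map_mul, map_mul, map_inv]; rfl

theorem card_map {K : Type*} [Group K] {φ : K →* G} (hφ : Function.Injective φ) (H : Subgroup K) :
    Nat.card (H.map φ) = Nat.card H := (Nat.card_congr (H.equivMapOfInjective φ hφ).toEquiv).symm

theorem card_range {K : Type*} [Group K] {φ : K →* G} (hφ : Function.Injective φ) :
    Nat.card φ.range = Nat.card K := (Nat.card_congr (MonoidHom.ofInjective hφ).toEquiv).symm

/-- the subgroup given by a predicate -/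
def predSub (p : TG T → Prop) (h1 : p 1) (h2 : ∀ a b, p a → p b → p (a * b)) : Subgroup (TG T) :=
  Subgroup.ofDiv {k | p k} ⟨1, h1⟩ fun a ha b hb => by
    have : ∀ n, p (b ^ n) := fun n => by
      induction n with
      | zero => simpa using h1
      | succ n ih => rw [pow_succ]; exact h2 _ _ ih hb
    have e : b⁻¹ = b ^ (orderOf b - 1) := by
      rw [inv_eq_iff_mul_eq_one, ← pow_succ', Nat.sub_add_cancel (orderOf_pos b), pow_orderOf_eq_one]
    exact h2 _ _ ha (e ▸ this _)

theorem mem_predSub {p : TG T → Prop} {h1 : p 1} {h2 : ∀ a b, p a → p b → p (a * b)} {k : TG T} :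
    k ∈ predSub p h1 h2 ↔ p k := Iff.rfl

/-- an index two subgroup given by a predicate which is multiplicative on generators -/
theorem exists_index_two (gs : List (TG T)) (p : TG T → Prop) (h1 : p 1)
    (hg : ∀ k : TG T, k = 1 ∨ ∃ g ∈ gs, (g * k).v < k.v)
    (h : ∀ g ∈ gs, ∀ k, p (g * k) ↔ (p g ↔ p k)) {x : TG T} (hx : ¬ p x) :
    ∃ M : Subgroup (TG T), M.index = 2 ∧ ∀ k, k ∈ M ↔ p k := by
  classical
  obtain ⟨χ, hχ⟩ := exists_chi (A := ℤˣ) gs (fun k => if p k then 1 else -1) (if_pos h1) hg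
    fun g a k => by
      have := h g a k
      by_cases b : p g <;> by_cases c : p k <;> simp_all
  have e : ∀ k, k ∈ χ.ker ↔ p k := fun k => by
    rw [MonoidHom.mem_ker, hχ]; by_cases c : p k <;> simp [c]
  refine ⟨χ.ker, ?_, e⟩
  rw [Subgroup.index_ker, MonoidHom.range_eq_top.2, Subgroup.card_top]
  · simp
  · intro y
    rcases Int.units_eq_one_or y with rfl | rfl
    · exact ⟨1, map_one _⟩
    · exact ⟨x, by rw [hχ, if_neg hx]⟩

theorem relIndex_map_range {K : Type*} [Group K] {φ : K →* G} (hφ : Function.Injective φ)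
    (M : Subgroup K) : (M.map φ).relIndex φ.range = M.index := by
  rw [MonoidHom.range_eq_map, Subgroup.relIndex_map_map_of_injective _ _ hφ, Subgroup.relIndex_top_right]

end Cfsg.Agent.HSD.Pc
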