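import Cfsg.Agent.HSD.C2T
import Cfsg.Agent.HSD.LayT

/-! Type (II, II): the group `S₁ = ⟨z,u,a,b,t,r,h⟩` and actions on it. -/

set_option autoImplicit false
set_option linter.unusedSectionVars false
set_option linter.unusedVariables false
set_option linter.unusedSimpArgs false
set_option maxRecDepth 100000
set_option synthInstance.maxHeartbeats 400000
set_option synthInstance.maxSize 4096

namespace Cfsg.Agent.HSD.C2

open Cfsg Subgroup Cfsg.Agent.PLocal Cfsg.Agent.PLocal.Amb Cfsg.Agent.MacW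
open Cfsg.Agent.Comp Cfsg.Agent.X32 Pc I1

instance evBpC {T : Tab} [Fact T.OK] (g : TG T) (i : Bool) {m : ℕ} [TG.EV g m] :
    TG.EV (bp g i) (cond i m 0) := ⟨by cases i; exacts [rfl, TG.EV.h (a := g)]⟩

instance bdBool {p : Bool → Prop} {f : Bool → Bool} [∀ b, BD (p b) (f b)] :
    BD (∀ b, p b) (and' (f false) (f true)) :=
  ⟨by rw [and'_eq_true, Bool.forall_bool, (inferInstance : BD (p false) _).h,
    (inferInstance : BD (p true) _).h]⟩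

instance bdBeq (i j : Bool) : BD (i = j) (i == j) := ⟨by simp⟩

variable {G : Type*} [Group G] [Finite G] {d : Dat G}

theorem map_bp {K : Type*} [Group K] (φ : K →* G) (x : K) (i : Bool) : φ (bp x i) = bp (φ x) i := by
  cases i
  · exact map_one φ
  · rfl

theorem cj_inj {K : Type*} [Group K] {φ : K →* G} (hφ : Function.Injective φ) {g x y : K}
    (h : Cj (φ g) (φ x) (φ y)) : Cj g x y := hφ (by rw [map_mul, map_mul, map_inv]; exact h)

theorem cj_iff {K : Type*} [Group K] {φ : K →* G} (hφ : Function.Injective φ) {g x y : K} :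
    Cj (φ g) (φ x) (φ y) ↔ Cj g x y := ⟨cj_inj hφ, map_cj φ⟩

theorem cj_from {g x x' y : G} (h : Cj g x y) (e : x = x') : Cj g x' y := e ▸ h

theorem cj_odd {g x y : G} (h1 : Cj g x y) (h2 : Cj g y x) {m : ℕ} (hm : Odd m) : Cj (g ^ m) x y := by
  obtain ⟨n, rfl⟩ := hm
  induction n with
  | zero => simpa using h1
  | succ n ih =>
    have := (h1.comp h2).comp ih
    rwa [← sq, ← pow_add, show 2 * n + 1 + 2 = 2 * (n + 1) + 1 by ring] at this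

theorem act_cj {K : Type*} [Group K] {ψ : K →* G} {g : G} {O : K → K} (h : Act ψ g O) {x y : G} {a : K}
    (h1 : x = ψ a) (e : ψ (O a) = y) : Cj g x y := h1 ▸ e ▸ h a

theorem layII_tr {d' : Dat G} {r s k ρ r' s' k' ρ' g : G} {μ ν : Bool} (L : d.LayII r s k ρ μ ν)
    (ht : Cj g d.t d'.t) (hu : Cj g d.u d'.u) (ha : Cj g d.a d'.a) (hb : Cj g d.b d'.b)
    (hz : Cj g d.z d'.z) (hr : Cj g r r') (hs : Cj g s s') (hk : Cj g k k') (hρ : Cj g ρ ρ') :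
    d'.LayII r' s' k' ρ' μ ν :=
  ⟨⟨L.acr.t.tr hr ht ((ht.mul hu).mul hz), L.acr.u.tr hr hu hu, L.acr.a.tr hr ha (ha.mul hu),
      L.acr.b.tr hr hb hb⟩,
    (hr.mul hr).unique (by rw [L.rr]; exact Cj.one g),
    L.st.tr hs ht ((ht.mul ha).mul hu), L.su.tr hs hu hu, L.sz.tr hs hz (hz.mul hu), L.sa.tr hs ha ha,
    L.sb.tr hs hb (hr.mul hb), (hs.mul hs).unique (by rw [L.ss]; exact Cj.one g), L.sr.tr hs hr hr,
    ⟨L.ach.t.tr hk ht (ht.mul hu), L.ach.u.tr hk hu hu, L.ach.a.tr hk ha ha,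
      L.ach.b.tr hk hb (hb.mul (hu.bp ν))⟩,
    L.hr.tr hk hr hr, L.hs.tr hk hs hs, (hk.mul hk).unique (by rw [L.hh]; exact hu.bp μ),
    L.pt.tr hρ ht ht, L.pu.tr hρ hu hu, L.pz.tr hρ hz ha, L.pa.tr hρ ha (ha.mul hz),
    L.pr.tr hρ hr hs, L.ps.tr hρ hs (hr.mul hs), L.ph.tr hρ hk hk,
    (((hb.mul hρ).mul hb).mul hρ).unique (by rw [L.bp']; exact Cj.one g),
    by rw [← hρ.eq, orderOf_conj']; exact L.odd⟩

theorem layII_mul (h : d.Cfg) {r s k ρ : G} {μ ν : Bool} (L : d.LayII r s k ρ μ ν) (p : Bool) :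
    d.LayII r s (k * bp d.u p) ρ μ ν :=
  { L with
    ach := h.el_bu p ▸ h.acmZ L.ach false p false
    hr := (L.acr.u.bp p).flip.comp L.hr
    hs := (L.su.bp p).flip.comp L.hs
    hh := by
      rw [mul_assoc, ← mul_assoc (bp d.u p), ← (L.ach.u.bp p).comm, mul_assoc k, ← mul_assoc k, L.hh]
      cases p <;> simp [h.uu]
    ph := L.ph.mul (L.pu.bp p) }

theorem ac_z (h : d.Cfg) {g t' : G} {i j : Bool} (c : d.Ac g t' d.u (d.a * bp d.u i) (d.b * bp d.u j)) :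
    Cj g d.z d.z :=
  (h.cz c.a c.b).to (by
    rw [h.el_u, h.el_a, h.el_b, h.el_z]
    simp only [h.bp_el, h.el_mul, h.el_eq_iff]
    cases i <;> cases j <;> decide)

theorem r_z (h : d.Cfg) {g t' : G} (c : d.Ac g t' d.u (d.a * d.u) d.b) : Cj g d.z d.z :=
  ac_z h (i := true) (j := false) (by simpa using c)

theorem k_z (h : d.Cfg) {g t' : G} {ν : Bool} (c : d.Ac g t' d.u d.a (d.b * bp d.u ν)) : Cj g d.z d.z :=
  ac_z h (i := false) (j := ν) (by simpa using c)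

theorem b_a (h : d.Cfg) : Cj d.b d.a (d.a * d.z) := by
  rw [Cj, h.ba, mul_assoc d.a, ← h.zb]; group

theorem a_b (h : d.Cfg) : Cj d.a d.b (d.b * d.z) := b_a h.sw

section S
open C2S

/-- `S₁ = S₀⟨r, k⟩` -/
structure SH (d : Dat G) (ψ : K →* G) (r k : G) : Prop where
  inj : Function.Injective ψ
  all : d.z = ψ gz ∧ d.u = ψ gu ∧ d.a = ψ ga ∧ d.b = ψ gb ∧ d.t = ψ gt ∧ r = ψ gr ∧ k = ψ gh
  le : ∀ H : Subgroup G, d.z ∈ H → d.u ∈ H → d.a ∈ H → d.b ∈ H → d.t ∈ H → r ∈ H → k ∈ H →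
    ψ.range ≤ H

theorem shom (h : d.Cfg) {r s k ρ : G} (L : d.LayII r s k ρ true true) : ∃ ψ, SH d ψ r k := by
  obtain ⟨φ, p1, p2, p3, p4, p5, p6, p7, p8⟩ := C2S.hom (z := d.z) (u := d.u) (a := d.a) (b := d.b)
    (t := d.t) (r := r) (h := k) h.zz h.uu (.of_comm h.zu.symm) h.aa (.of_comm h.za.symm)
    (.of_comm h.au) h.bb (.of_comm h.zb.symm) (.of_comm h.bu) (b_a h) h.tt (.of_comm h.zt.symm)
    (.of_comm h.ut.symm) (.of_comm h.at'.symm) (.of_comm h.bt.symm) L.rr (r_z h L.acr) L.acr.u L.acr.a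
    L.acr.b L.acr.t L.hh (k_z h L.ach) L.ach.u L.ach.a L.ach.b L.ach.t L.hr
  refine ⟨φ, Pc.inj C2S.hc φ gs [gz, gu, gz * gu] (BD.of (by decide +kernel)) ?_,
    ⟨p1.symm, p2.symm, p3.symm, p4.symm, p5.symm, p6.symm, p7.symm⟩, p8⟩
  simp only [List.forall_mem_cons, List.not_mem_nil, false_imp_iff, implies_true, and_true, map_mul,
    p1, p2]
  simp only [h.el_u, h.el_z, h.el_one, h.el_mul, ne_eq, h.el_eq_iff]
  decide

variable {ψ : K →* G} {r s k ρ : G}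

theorem SH.act (S : SH d ψ r k) (C : ℕ) {g z' u' a' b' t' r' k' : G} (h1 : Cj g d.z z') (h2 : Cj g d.u u')
    (h3 : Cj g d.a a') (h4 : Cj g d.b b') (h5 : Cj g d.t t') (h6 : Cj g r r') (h7 : Cj g k k')
    (h : (z' = ψ (lkE C gz) ∧ u' = ψ (lkE C gu) ∧ a' = ψ (lkE C ga) ∧ b' = ψ (lkE C gb) ∧
      t' = ψ (lkE C gt) ∧ r' = ψ (lkE C gr) ∧ k' = ψ (lkE C gh)) ∧ ∀ k : K, (k = 1 ∧ lkE C k = 1) ∨
      ∃ s ∈ gs, True ∧ (s * k).v < k.v ∧ lkE C (s * k) = lkE C s * lkE C k) : Act ψ g (lkE C) := by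
  obtain ⟨⟨rfl, rfl, rfl, rfl, rfl, rfl, rfl⟩, h⟩ := h
  obtain ⟨p1, p2, p3, p4, p5, p6, p7⟩ := S.all
  refine act_gs ψ C gs ?_ h
  simp only [List.forall_mem_cons, List.not_mem_nil, false_imp_iff, implies_true, and_true]
  exact ⟨p1 ▸ h1, p2 ▸ h2, p3 ▸ h3, p4 ▸ h4, p5 ▸ h5, p6 ▸ h6, p7 ▸ h7⟩

theorem SH.card (S : SH d ψ r k) : Nat.card ψ.range = 128 := (card_range S.inj).trans C2S.card
theorem SH.pgrp (S : SH d ψ r k) : IsPGroup 2 ψ.range := .of_card (n := 7) S.card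
theorem SH.S0 (S : SH d ψ r k) : d.S0 ≤ ψ.range := (closure_le _).2 (by
  obtain ⟨p1, p2, p3, p4, p5, p6, p7⟩ := S.all
  rintro _ (rfl | rfl | rfl | rfl)
  exacts [⟨_, p5.symm⟩, ⟨_, p2.symm⟩, ⟨_, p3.symm⟩, ⟨_, p4.symm⟩])

theorem SH.Z0 (h : d.Cfg) (S : SH d ψ r k) {x : G} (hx : x ∈ d.Z0) :
    ∃ i j m, x = ψ (bp gt i * bp gu j * bp gz m) := by
  obtain ⟨i, j, m, rfl⟩ := h.mem_Z0.1 hx
  exact ⟨i, j, m, by simp [Dat.el, S.all, map_bp]⟩

theorem s_cen : ∀ n : K, (∀ g ∈ gs, g * n = n * g) → n ∈ [1, gz, gu, gz * gu] :=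
  BD.of (by decide +kernel)

theorem SH.cen (S : SH d ψ r k) {n : G} (h1 : n ∈ ψ.range) (h2 : n ∈ 𝐂[ψ.range]) :
    ∃ n' ∈ [1, gz, gu, gz * gu], n = ψ n' := by
  obtain ⟨n, rfl⟩ := h1
  exact ⟨n, s_cen n fun g _ => S.inj (by rw [map_mul, map_mul]; exact h2 _ ⟨g, rfl⟩), rfl⟩

theorem SH.actS (S : SH d ψ r k) (L : d.LayII r s k ρ true true) : Act ψ s (lkE sS) :=
  S.act sS L.sz L.su L.sa L.sb L.st L.sr L.hs.flip (by
    simp only [S.all, ← map_mul, S.inj.eq_iff]; exact BD.of (by decide +kernel))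

theorem SH.actT (h : d.Cfg) (S : SH d ψ r k) {s₂ ρ₂ : G} {κ κ' : Bool}
    (L : d.sw.LayII (k * d.a * d.t * bp d.z κ') s₂ (r * d.b * d.t * bp d.u κ) ρ₂ true true) :
    Act ψ s₂ (lkE (sT κ κ')) := by
  have z : Cj s₂ d.z _ := L.sz
  have u : Cj s₂ d.u _ := cj_from (L.su.mul L.sz) h.u_sw.symm
  have a : Cj s₂ d.a _ := L.sb
  have b : Cj s₂ d.b _ := L.sa
  have t : Cj s₂ d.t _ := L.st
  exact S.act _ z u a b t (cj_from (((L.hs.flip.mul (u.bp κ).inv).mul t.inv).mul b.inv) (by group))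
    (cj_from (((L.sr.mul (z.bp κ').inv).mul t.inv).mul a.inv) (by group)) (by
      simp only [Dat.sw, S.all, ← map_mul, ← map_inv, ← map_bp, S.inj.eq_iff]
      cases κ <;> cases κ' <;> exact BD.of (by decide +kernel))

theorem SH.no_out (h : d.Cfg) (ε : d.Eps) (S : SH d ψ r k) {g : G} {O : K → K} (A : Act ψ g O)
    (e : O gt = gt ∧ O gu = gu ∧ O ga = ga ∧ O gb = gb ∧ O gr = gr ∧ O gh = gu * gh ∧
      O (gu * gh) = gh) : False := by
  obtain ⟨p1, p2, p3, p4, p5, p6, p7⟩ := S.all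
  obtain ⟨e1, e2, e3, e4, e5, e6, e7⟩ := e
  obtain ⟨m, n, hm, hn⟩ := exists_two_part g
  have f : ∀ {x : K}, O x = x → Cj (g ^ m) (ψ x) (ψ x) := fun e =>
    cj_odd (A.cj rfl rfl e) (A.cj rfl rfl e) hm
  obtain ⟨i, j, l, e⟩ := S.Z0 h (h.regZ ε (two_sup S.pgrp (pow_mem A.norm m) hn)
    (S.S0.trans le_sup_left) (mem_sup_right (mem_zpowers _))
    ⟨p5 ▸ f e1, p2 ▸ f e2, p3 ▸ f e3, p4 ▸ f e4⟩)
  have a := f e5
  have b := cj_odd (A.cj rfl rfl e6) (A.cj rfl rfl e7) hm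
  rw [e, cj_iff S.inj] at a b
  revert i j l
  have : ∀ i j l : Bool, Cj (bp gt i * bp gu j * bp gz l) gr gr →
    Cj (bp gt i * bp gu j * bp gz l) gh (gu * gh) → False := BD.of (by decide +kernel)
  exact fun i j l _ => this i j l

theorem SH.kappa (h : d.Cfg) (ε : d.Eps) (S : SH d ψ r k) (L : d.LayII r s k ρ true true)
    {s₂ ρ₂ : G} {κ κ' : Bool}
    (L2 : d.sw.LayII (k * d.a * d.t * bp d.z κ') s₂ (r * d.b * d.t * bp d.u κ) ρ₂ true true) :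
    κ' = κ := by
  have A := (S.actT h L2).comp (S.actS L)
  have A3 := A.comp (A.comp A)
  cases κ <;> cases κ'
  · rfl
  · exact (S.no_out h ε ((Act.inner ψ (ga * gh)).comp A3) (BD.of (by decide +kernel))).elim
  · exact (S.no_out h ε ((Act.inner ψ gr).comp A3) (BD.of (by decide +kernel))).elim
  · rfl

end S

/-- the comparison of the two sides -/
theorem side (h : d.Cfg) {r s k ρ r₂ k₂ : G} {μ μ₂ : Bool} (L : d.LayII r s k ρ μ true)
    (h1 : (k * d.a)⁻¹ * r₂ ∈ d.Z0) (h2 : (r * d.b)⁻¹ * k₂ ∈ d.Z0) (rr : r₂ * r₂ = 1)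
    (kk : k₂ * k₂ = bp (d.u * d.z) μ₂) (kr : Cj k₂ r₂ r₂) :
    μ = true ∧ μ₂ = true ∧ ∃ j m j' m', r₂ = k * bp d.u j * d.a * d.t * bp d.z m ∧
      k₂ * bp (d.u * d.z) m' = r * d.b * d.t * bp d.u j' := by
  cases μ
  · exfalso
    obtain ⟨φ, p1, p2, p3, p4, p5, p6, p7, p8⟩ := C2O.hom (z := d.z) (u := d.u) (a := d.a) (b := d.b)
      (t := d.t) (r := r) (h := k) h.zz h.uu (.of_comm h.zu.symm) h.aa (.of_comm h.za.symm)
      (.of_comm h.au) h.bb (.of_comm h.zb.symm) (.of_comm h.bu) (b_a h) h.tt (.of_comm h.zt.symm)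
      (.of_comm h.ut.symm) (.of_comm h.at'.symm) (.of_comm h.bt.symm) L.rr (r_z h L.acr) L.acr.u
      L.acr.a L.acr.b L.acr.t L.hh (k_z h L.ach) L.ach.u L.ach.a L.ach.b L.ach.t L.hr
    have inj : Function.Injective φ := Pc.inj C2O.hc φ C2O.gs [C2O.gz, C2O.gu, C2O.gz * C2O.gu]
      (BD.of (by decide +kernel)) (by
        simp only [List.forall_mem_cons, List.not_mem_nil, false_imp_iff, implies_true, and_true,
          map_mul, p1, p2]
        simp only [h.el_u, h.el_z, h.el_one, h.el_mul, ne_eq, h.el_eq_iff]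
        decide)
    obtain ⟨i, j, m, e1⟩ := h.mem_Z0.1 h1
    obtain ⟨i', j', m', e2⟩ := h.mem_Z0.1 h2
    rw [inv_mul_eq_iff_eq_mul] at e1 e2
    rw [e1] at rr kr
    rw [e2] at kr
    simp only [Dat.el, bp_false, mul_one, ← p1, ← p2, ← p3, ← p4, ← p5, ← p6, ← p7, ← map_bp,
      ← map_mul, cj_iff inj, map_eq_one_iff φ inj] at rr kr
    clear e1 e2
    revert i j m i' j' m'
    exact BD.of (by decide +kernel)
  · obtain ⟨ψ, S⟩ := shom h L
    obtain ⟨i, j, m, e1⟩ := S.Z0 h h1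
    obtain ⟨i', j', m', e2⟩ := S.Z0 h h2
    rw [inv_mul_eq_iff_eq_mul] at e1 e2
    subst e1 e2
    simp only [S.all, ← map_bp, ← map_mul, cj_iff S.inj, map_eq_one_iff ψ S.inj, S.inj.eq_iff] at rr kr kk
    refine ⟨rfl, ?_⟩
    suffices μ₂ = true ∧ _ ∧ _ from ⟨this.1, j, m, j' ^^ m', m', this.2⟩
    simp only [S.all, ← map_bp, ← map_mul, S.inj.eq_iff]
    clear h1 h2
    revert i j m i' j' m'
    cases μ₂ <;> exact BD.of (by decide +kernel)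

end Cfsg.Agent.HSD.C2
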