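import Mathlib
import Cfsg.Agent.HSD.Basic

/-! General lemmas for `HSD/N0`: subgroups of table groups, the final transfer. -/

set_option autoImplicit false
set_option linter.unusedSectionVars false
set_option linter.unusedVariables false

namespace Cfsg.Agent.HSD.N0

open Cfsg Subgroup Cfsg.Agent.PLocal Cfsg.Agent.PLocal.Amb Cfsg.Agent.MacW
open Cfsg.Agent.Comp Cfsg.Agent.X32 Pc

variable {G : Type*} [Group G] [Finite G]

theorem burnside {S B : Subgroup G} (hS : IsSyl 2 S ⊤) (hBS : B ≤ S)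
    (hW : ∀ g, cj(g, B) ≤ S → g ∈ 𝐍[B]) {b b' g : G} (hb : ∀ x ∈ B, x * b = b * x)
    (c : Cj g b b') (hb' : ∀ x ∈ B, x * b' = b' * x) : ∃ n ∈ 𝐍[B], Cj n b b' := by
  have hB : IsPGroup 2 B := hS.pgrp.to_le hBS
  have h1 : B ≤ centralizer {b'} := fun x hx => mem_centralizer_singleton_iff.2 (hb' x hx)
  obtain ⟨S1, hS1, hBS1⟩ := exists_isSyl_ge hB h1
  have h2 : cj(g, B) ≤ centralizer {b'} := by
    rw [← (c : _ = _), centralizer_singleton_conj]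
    exact cj_mono _ fun x hx => mem_centralizer_singleton_iff.2 (hb x hx)
  obtain ⟨k, hc, hc'⟩ := hS1.exists_cj_le (isPGroup_cj _ hB) h2
  obtain ⟨v, -, hv⟩ := hS.exists_cj_le hS1.pgrp le_top
  have e1 := hW v ((cj_mono _ hBS1).trans hv)
  have e2 := hW (v * (k * g)) (by rw [cj_mul, cj_mul]; exact (cj_mono _ hc').trans hv)
  exact ⟨k * g, (mul_mem_cancel_left e1).1 e2, c.comp (rg_mem'.1 hc)⟩

/-- commutators modulo a normal subgroup -/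
theorem cm_of {W0 H : Subgroup G} {S : Set G} (hS : ∀ s ∈ S, s ∈ 𝐍[W0])
    (hc : ∀ p ∈ S, ∀ q ∈ S, p * q * p⁻¹ * q⁻¹ ∈ W0) (hH : H ≤ closure ((W0 : Set G) ∪ S)) :
    ∀ p ∈ H, ∀ q ∈ H, p * q * p⁻¹ * q⁻¹ ∈ W0 := by
  have n : closure ((W0 : Set G) ∪ S) ≤ 𝐍[W0] :=
    (closure_le _).2 fun x hx => hx.elim (fun c => le_normalizer c) (hS x)
  have key : ∀ q ∈ 𝐍[W0], (∀ p ∈ S, p * q * p⁻¹ * q⁻¹ ∈ W0) →
      ∀ p ∈ closure ((W0 : Set G) ∪ S), p * q * p⁻¹ * q⁻¹ ∈ W0 := by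
    intro q hq h p hp
    induction hp using closure_induction with
    | mem x hx =>
      rcases hx with hx | hx
      · have := mul_mem hx (conj_mem_of_mem_normalizer hq (inv_mem hx))
        simpa only [mul_assoc] using this
      · exact h x hx
    | one => simp
    | mul x y hx hy a b =>
      have := mul_mem (conj_mem_of_mem_normalizer (n hx) b) a
      convert this using 1; group
    | inv x hx a =>
      have := inv_mem (conj_mem_of_mem_normalizer (inv_mem (n hx)) a)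
      convert this using 1; group
  intro p hp q hq
  refine key q (n (hH hq)) (fun s hs => ?_) p (hH hp)
  have := inv_mem (key s (hS s hs) (fun r hr => hc r hr s hs) q (hH hq))
  convert this using 1; group

theorem relIndex_two {M P : Subgroup G} (hle : M ≤ P) (h : Nat.card P = 2 * Nat.card M) :
    M.relIndex P = 2 := by
  have := Grp.card_mul_relIndex hle
  have p : 0 < Nat.card M := Nat.card_pos
  rw [h, mul_comm 2] at this
  exact Nat.eq_of_mul_eq_mul_left p this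

theorem card_two {F H : Subgroup G} {x : G} (hx : x ∈ F) (h : ∀ f ∈ F, f ∈ H ∨ x⁻¹ * f ∈ H) :
    Nat.card F ≤ 2 * Nat.card ↥(F ⊓ H) := by
  let f : Bool × ↥(F ⊓ H) → F := fun a => ⟨bp x a.1 * a.2, mul_mem (bp_mem hx _) a.2.2.1⟩
  have : Function.Surjective f := fun y => by
    rcases h y y.2 with c | c
    · exact ⟨(false, ⟨y, y.2, c⟩), Subtype.ext (by simp [f])⟩
    · exact ⟨(true, ⟨x⁻¹ * y, mem_inf.2 ⟨mul_mem (inv_mem hx) y.2, c⟩⟩), Subtype.ext (by simp [f])⟩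
  simpa using Nat.card_le_card_of_surjective f this

theorem cj_eq {g : G} {A B : Subgroup G} (h : cj(g, A) ≤ B) (c : Nat.card B ≤ Nat.card A) :
    cj(g, A) = B := eq_of_le_of_card_ge h (by rwa [card_cj])

theorem sq_cj {g : G} {A : Subgroup G} (h : ∀ x ∈ A, x * x = 1) : ∀ x ∈ cj(g, A), x * x = 1 := by
  intro x hx
  have := h _ (mem_cj.1 hx)
  have e : x * x = g * (g⁻¹ * x * g * (g⁻¹ * x * g)) * g⁻¹ := by group
  rw [e, this]; group

theorem comm_of_sq {A : Subgroup G} (h : ∀ x ∈ A, x * x = 1) {x y : G} (hx : x ∈ A) (hy : y ∈ A) :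
    x * y = y * x := by
  have e : x * y = (x * y)⁻¹ := (inv_eq_of_mul_eq_one_right (h _ (mul_mem hx hy))).symm
  rw [e, mul_inv_rev, inv_eq_of_mul_eq_one_right (h _ hx), inv_eq_of_mul_eq_one_right (h _ hy)]

/-- the final transfer -/
theorem fin {d : Dat G} (h : d.Cfg) {Y W W0 : Subgroup G} (hY : IsSyl 2 Y d.X) (hW : W ≤ Y)
    (hu : d.u ∈ W) (uc : ∀ r ∈ W, r * d.u = d.u * r) (u0 : d.u ∉ W0)
    (wc : ∀ g, cj(g, W) ≤ Y → g ∈ 𝐍[W]) (sq : ∀ p ∈ W, p * p ∈ W0)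
    (zz : ∀ y ∈ W, (∀ r ∈ W, r * y = y * r) → (∃ p ∈ W, p * p = y) ∨
      ∃ p ∈ W, ∃ q ∈ W, y = d.u * (p * q * p⁻¹ * q⁻¹))
    (cm : ∀ p ∈ Y, ∀ q ∈ Y, p * q * p⁻¹ * q⁻¹ ∈ W0) : False := by
  have := xfer h.perf hY (Abelianization.of (G := Y)) (hY.le (hW hu)) h.uu (hY.pgrp.to_le hW)
    (hW.trans hY.le) uc (Abelianization.of ⟨d.u, hW hu⟩) fun g _ hg l => by
      have n := wc g l
      rcases zz _ (conj_mem_of_mem_normalizer n hu) (fun r hr => by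
        have := uc _ (inv_conj_mem_of_mem_normalizer n hr)
        calc r * (g * d.u * g⁻¹) = g * (g⁻¹ * r * g * d.u) * g⁻¹ := by group
          _ = _ := by rw [this]; group) with ⟨p, hp, e⟩ | ⟨p, hp, q, hq, e⟩
      · have := sq _ (inv_conj_mem_of_mem_normalizer n hp)
        have e' : g⁻¹ * p * g * (g⁻¹ * p * g) = d.u := by
          calc _ = g⁻¹ * (p * p) * g := by group
            _ = _ := by rw [e]; group
        exact absurd (e' ▸ this) u0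
      · have e' : (⟨_, hg⟩ : Y) = ⟨d.u, hW hu⟩ * ((⟨p, hW hp⟩ : Y) * ⟨q, hW hq⟩ * (⟨p, hW hp⟩ : Y)⁻¹ *
            (⟨q, hW hq⟩ : Y)⁻¹) := Subtype.ext e
        rw [e']
        simp only [map_mul, map_inv]
        rw [mul_comm (Abelianization.of (⟨p, hW hp⟩ : Y)), mul_inv_cancel_right, mul_inv_cancel, mul_one]
  have m : (⟨d.u, hW hu⟩ : Y) ∈ commutator Y := by
    rw [← Abelianization.ker_of]; exact this
  have l : commutator Y ≤ W0.subgroupOf Y := by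
    rw [commutator_def, commutator_le]
    exact fun p _ q _ => cm p p.2 q q.2
  exact u0 (l m)

section Tab

variable {T : Tab} [Fact T.OK]

instance bdCard (p : TG T → Prop) {f : TG T → Bool} [∀ k, BD (p k) (f k)] (n : ℕ) :
    BD (Nat.card {k // p k} < n) (Nat.blt (cntLT T.n fun i => f (TG.e i)) n) :=
  ⟨by rw [TG.card_eq p, blt_iff]⟩

instance bdCardE (p : TG T → Prop) {f : TG T → Bool} [∀ k, BD (p k) (f k)] (n : ℕ) :
    BD (Nat.card {k // p k} = n) (Nat.beq (cntLT T.n fun i => f (TG.e i)) n) :=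
  ⟨by rw [TG.card_eq p, beq_iff]⟩

/-- `p` describes the subgroup generated by `gs` -/
abbrev Ch (gs : List (TG T)) (p : TG T → Prop) : Prop :=
  p 1 ∧ ∀ k, p k → (∀ g ∈ gs, p (g * k)) ∧ (k = 1 ∨ ∃ g ∈ gs, (g * k).v < k.v)

variable (φ : TG T →* G)

def sb (gs : List (TG T)) : Subgroup G := (closure {g | g ∈ gs}).map φ

variable {φ} {gs : List (TG T)} {p : TG T → Prop}

theorem mem_sb (c : Ch gs p) {x : G} : x ∈ sb φ gs ↔ ∃ k, p k ∧ φ k = x := by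
  simp only [sb, mem_map, mem_closure_iff gs p c.1 c.2]

theorem ex (c : Ch gs p) {x : G} (h : x ∈ sb φ gs) : ∃ k, p k ∧ φ k = x := (mem_sb c).1 h

theorem mks (c : Ch gs p) {k : TG T} (h : p k) : φ k ∈ sb φ gs := (mem_sb c).2 ⟨k, h, rfl⟩

theorem un (hφ : Function.Injective φ) (c : Ch gs p) {k : TG T} (h : φ k ∈ sb φ gs) : p k := by
  obtain ⟨l, hl, e⟩ := ex c h
  exact hφ e ▸ hl

theorem gen_mem {g : TG T} (h : g ∈ gs) : φ g ∈ sb φ gs := mem_map_of_mem _ (subset_closure h)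

theorem card_sb (hφ : Function.Injective φ) (c : Ch gs p) :
    Nat.card (sb φ gs) = Nat.card {k // p k} := by
  rw [sb, card_map hφ]
  exact Nat.card_congr (Equiv.subtypeEquivRight (mem_closure_iff gs p c.1 c.2))

theorem sb_le {H : Subgroup G} (h : ∀ g ∈ gs, φ g ∈ H) : sb φ gs ≤ H := by
  rw [sb, map_le_iff_le_comap, closure_le]; exact h

theorem sb_range : sb φ gs ≤ φ.range := sb_le fun g _ => ⟨g, rfl⟩

theorem cj_sb {y : G} {H : Subgroup G} (h : ∀ g ∈ gs, y * φ g * y⁻¹ ∈ H) : cj(y, sb φ gs) ≤ H := by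
  rw [cj_le_iff]
  exact sb_le fun g hg => mem_cj.2 (by simpa using h g hg)

theorem cj_tab {gs' : List (TG T)} (c : Ch gs' p) {k : TG T} (h : ∀ g ∈ gs, p (k * g * k⁻¹)) :
    cj(φ k, sb φ gs) ≤ sb φ gs' :=
  cj_sb fun g hg => by simpa only [map_mul, map_inv] using mks (φ := φ) c (h g hg)

theorem norm_tab (c : Ch gs p) {k : TG T} (h : ∀ g ∈ gs, p (k * g * k⁻¹)) : φ k ∈ 𝐍[sb φ gs] :=
  mem_normalizer_of_cj_le (cj_tab c h)

theorem card_le_tab {F : Subgroup G} (q : TG T → Prop) (h : ∀ x ∈ F, ∃ k, q k ∧ φ k = x) :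
    Nat.card F ≤ Nat.card {k // q k} :=
  rg_card (fun k : {k // q k} => φ k) fun x hx => by
    obtain ⟨k, hk, e⟩ := h x hx; exact ⟨⟨k, hk⟩, e.symm⟩

theorem sq1 (hφ : Function.Injective φ) {k : TG T} (h : φ k * φ k = 1) : k * k = 1 :=
  hφ (by rw [map_mul, h, map_one])

theorem cm1 (hφ : Function.Injective φ) {k l : TG T} (h : φ k * φ l = φ l * φ k) : k * l = l * k :=
  hφ (by rw [map_mul, h, map_mul])

theorem cm2 {k l : TG T} (h : k * l = l * k) : φ k * φ l = φ l * φ k := by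
  rw [← map_mul, h, map_mul]

theorem sq2 {k : TG T} (h : k * k = 1) : φ k * φ k = 1 := by rw [← map_mul, h, map_one]

theorem prange (hK : IsPGroup 2 (TG T)) : IsPGroup 2 φ.range :=
  hK.of_surjective φ.rangeRestrict φ.rangeRestrict_surjective

/-- `parity` for a table group -/
theorem par {d : Dat G} (h : d.Cfg) (hX : d.t ∈ d.X) (hφ : Function.Injective φ)
    (hK : IsPGroup 2 (TG T)) (c : Ch gs p) (hc : T.n = 2 * Nat.card {k // p k}) (q : TG T → Prop)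
    (h1 : ∀ k, ¬ p k → k * k = 1 → (d.T (φ k) ↔ q k)) :
    2 * T.n ∣ Nat.card d.S * Nat.card {k // ¬ p k ∧ k * k = 1 ∧ q k} := by
  have := h.parity hX (prange hK) (sb_range (gs := gs)) (relIndex_two sb_range (by
    rw [card_range hφ, TG.card, card_sb hφ c, hc]))
  rw [card_sb hφ c] at this
  have e : {y | y ∈ φ.range ∧ y ∉ sb φ gs ∧ d.T y} = φ '' {k | ¬ p k ∧ k * k = 1 ∧ q k} := by
    ext y
    constructor
    · rintro ⟨⟨k, rfl⟩, a, b⟩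
      have n : ¬ p k := fun c' => a (mks c c')
      have s : k * k = 1 := sq1 hφ (by
        obtain ⟨g, e⟩ := b.exists
        exact ((e.mul e).unique (h.tt ▸ Cj.one g)))
      exact ⟨k, ⟨n, s, (h1 k n s).1 b⟩, rfl⟩
    · rintro ⟨k, ⟨a, b, c'⟩, rfl⟩
      exact ⟨⟨k, rfl⟩, fun m => a (un hφ c m), (h1 k a b).2 c'⟩
  rw [e, Set.ncard_image_of_injective _ hφ] at this
  rw [hc, ← mul_assoc]
  exact this

noncomputable abbrev kz : TG T := gn 0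
noncomputable abbrev ku : TG T := gn 1
noncomputable abbrev ke : TG T := gn 2
noncomputable abbrev ka : TG T := gn 3
noncomputable abbrev kf : TG T := gn 4
noncomputable abbrev kb : TG T := gn 5
noncomputable abbrev kg : TG T := gn 6
noncomputable abbrev kt : TG T := gn 7
noncomputable abbrev kw : TG T := gn 8
noncomputable abbrev gW : List (TG T) := [kz, ku, ke, ka, kf, kb, kg]
noncomputable abbrev g0 : List (TG T) := [kz, ke, ka, kf, kb, kg]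
noncomputable abbrev gT : List (TG T) := [kz, ku, ke, ka, kf, kb, kg, kt]
noncomputable abbrev gM : List (TG T) := [kz, ku, ke, ka, kf, kb, kg, kt * kw]
noncomputable abbrev gK : List (TG T) := [kz, ku, ke, ka, kf, kb, kg, kt, kw]
noncomputable abbrev g1 : List (TG T) := [kz, ku, ke, ka, kf]
noncomputable abbrev g2 : List (TG T) := [kz, ku, ke, kb, kg]
noncomputable abbrev g3 : List (TG T) := [kz, ku, ke, kf, kb * kg]
noncomputable abbrev g4 : List (TG T) := [kz, ku, ke, kg, ka * kf]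
abbrev pW (k : TG T) : Prop := Msk 384 k
abbrev p0 (k : TG T) : Prop := Msk 386 k
abbrev pT (k : TG T) : Prop := Msk 256 k
abbrev pU (k : TG T) : Prop := Msk 128 k
abbrev pM (k : TG T) : Prop := Evn 384 k
abbrev pZ (k : TG T) : Prop := Msk 504 k
abbrev p1 (k : TG T) : Prop := Msk 480 k
abbrev p2 (k : TG T) : Prop := Msk 408 k
abbrev p3 (k : TG T) : Prop := Msk 392 k ∧ Evn 96 k
abbrev p4 (k : TG T) : Prop := Msk 416 k ∧ Evn 24 k
abbrev pQ (k : TG T) : Prop :=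
  (p1 k ∧ (Msk 8 k ∨ ¬ Msk 16 k)) ∨ (p2 k ∧ (Msk 32 k ∨ ¬ Msk 64 k))

variable (T)

/-- facts true in all tables -/
structure FB : Prop where
  ctr : ∀ k : TG T, (∀ g ∈ gK, k * g = g * k) → k * k = 1 → k = 1 ∨ k ∈ [kz, ku, ku * kz]
  cW : Ch (T := T) gW pW
  c1 : Ch (T := T) g1 p1
  c2 : Ch (T := T) g2 p2
  n1 : Nat.card {k : TG T // p1 k} = 32
  n2 : Nat.card {k : TG T // p2 k} = 32
  s12 : ∀ k : TG T, p1 k ∨ p2 k → pW k ∧ k * k = 1
  cos : ∀ k : TG T, pT k → pW k ∨ pW (k * kt⁻¹)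

/-- facts on `W = ⟨u⟩ × W₀` -/
structure F0 : Prop where
  c0 : Ch (T := T) g0 p0
  u0 : ¬ p0 (ku : TG T)
  uc : ∀ m : TG T, pW m → m * ku = ku * m ∧ p0 (m * m) ∧ (p0 m ∨ p0 (m * ku⁻¹)) ∧
    ((∀ g ∈ gW, g * m = m * g) → pZ m)
  zz : ∀ m : TG T, pZ m → m * m = 1 ∧ (∀ r, pW r → r * m = m * r) ∧
    (p0 m → ∃ p ∈ [1, ka * kb, kf * kb, ka * kf * kb], pW p ∧ p * p = m) ∧
    (p0 m ∨ ∃ p ∈ [1, ka, kf, ka * kf], pW p ∧ m = ku * (p * kb * p⁻¹ * kb⁻¹))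
  nrm : ∀ k : TG T, (∀ g ∈ gW, pW (k * g * k⁻¹)) ∧ (∀ g ∈ g0, p0 (k * g * k⁻¹)) ∧
    p0 (k * ku * k⁻¹ * ku⁻¹)

/-- facts for case (a) -/
structure FA (κ : Bool) (Pt Rt : ℕ) : Prop extends FB T where
  n : T.n = 256
  nW : Nat.card {k : TG T // pW k} = 128
  all : ∀ k : TG T, pT k
  cls : ∀ k : TG T, ¬ pW k → k * k = 1 →
    Cj (lkE Pt k) (lkE Rt k) k ∧ (lkE Rt k = kt ∨ lkE Rt k = kt * ku)
  nt : Nat.card {k : TG T // ¬ pW k ∧ k * k = 1 ∧ lkE Rt k = kt} = 8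
  two : κ = true → ∀ m : TG T, pW m → (m * m = 1 → p1 m ∨ p2 m) ∧
    ∃ q ∈ [1, kb, kg, kb * kg], p2 q ∧ p1 (m * q⁻¹)

/-- facts for cases (a'), (c0) -/
structure FW (s j : Bool) (Pt Rt : ℕ) : Prop extends FB T, F0 T where
  n : T.n = 512
  wT : ¬ pT (kw : TG T)
  cT : Ch (T := T) gT pT
  cM : Ch (T := T) gM pM
  c3 : Ch (T := T) g3 p3
  c4 : Ch (T := T) g4 p4
  nT : Nat.card {k : TG T // pT k} = 256
  nM : Nat.card {k : TG T // pM k} = 256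
  n3 : Nat.card {k : TG T // p3 k} = 32
  n4 : Nat.card {k : TG T // p4 k} = 32
  nZ : Nat.card {k : TG T // pZ k} = 8
  bits : ∀ k : TG T, (pT k ∨ pM k ∨ pU k) ∧ (pT k → pM k → pW k) ∧ (pW k → pT k ∧ pM k ∧ pU k) ∧
    (pT k ∨ pT (k * kw⁻¹)) ∧ (pM k → pW k ∨ k * ku ≠ ku * k) ∧ (pT k → pU k → pW k) ∧
    (pM k → pU k → pW k)
  cls : ∀ k : TG T, ¬ pM k → k * k = 1 → Cj (lkE Pt k) (lkE Rt k) k ∧
    (lkE Rt k = kt ∨ (¬ s = true ∧ (lkE Rt k = kt * ku ∨ (lkE Rt k = kw ∧ ¬ pT k))))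
  nt : Nat.card {k : TG T // ¬ pM k ∧ k * k = 1 ∧ lkE Rt k = kt} = cond s 16 8
  ntw : s = true ∨ Nat.card {k : TG T // ¬ pM k ∧ k * k = 1 ∧ lkE Rt k ≠ kt * ku} = 24
  nE : ∀ k : TG T, (pT k → ∀ g ∈ g1, p1 (k * g * k⁻¹)) ∧ (p1 (k * kf * k⁻¹) → pT k) ∧
    (∀ g ∈ gT, pT (k * g * k⁻¹))
  w2 : ∀ g ∈ (g2 : List (TG T)), p1 (kw * g * kw⁻¹)
  w3 : ∀ g ∈ (g3 : List (TG T)), p4 (kw * g * kw⁻¹)
  w4 : ∀ g ∈ (g4 : List (TG T)), p3 (kw * g * kw⁻¹)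
  d1 : ∀ p : TG T, pW p → p * p = 1 → pQ p ∨ (∀ r, pW r → r * p = p * r → p1 r) ∨
    (∀ r, pW r → r * p = p * r → p2 r) ∨ (¬ j = true ∧ ((∀ r, pW r → r * p = p * r → p3 r) ∨
    (∀ r, pW r → r * p = p * r → p4 r)))
  d2 : ∀ p : TG T, pQ p → pZ p ∨ Nat.card {q : TG T // pQ q ∧ pQ (p * q)} < 32
  fx : ∀ k : TG T, ¬ pT k → k * k = 1 →
    ¬ s = true ∧ (pM k ∨ ∀ m, pW m → m * m = 1 → m * k = k * m → pZ m)
  cA : ∀ x : TG T, pU x → x * x = 1 → pW x ∨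
    (Nat.card {m : TG T // m * m = 1 ∧ m * x = x * m} < 32 ∧
      Nat.card {m : TG T // pU m ∧ m * m = 1 ∧ m * x = x * m} < 16)
  cB : ∀ x : TG T, x * x = 1 → pW x ∨ Nat.card {m : TG T // (pU m → pW m) ∧ m * m = 1 ∧
    m * x = x * m ∧ (pU (m * x) → pW (m * x))} < 32

/-- facts for case (a') with `W = 2 × D₈ × D₈` -/
structure FJ (C : ℕ) : Prop where
  ab : ∀ k : TG T, p0 (k * k) ∧ p0 (k * kt * k⁻¹ * kt⁻¹)
  j1 : ∀ m : TG T, pW m → m * m = 1 → (p1 m ∨ p2 m) ∨ ∀ p, pW p → p * m = m * p → p * p = 1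
  j2 : ∀ x ∈ ([kf, kg, ka * kf, kb * kg] : List (TG T)), p0 x ∧ (p1 x ∨ p2 x) ∧
    ∃ p ∈ [kf * kg, ka * kf * (kb * kg)], pW p ∧ p * x = x * p ∧ p * p ≠ 1
  zs : (ka * kb) * (ka * kb) = (kz : TG T) ∧ (kf * kb) * (kf * kb) = (ke : TG T)
  ro : lkE C kz = (ka : TG T) ∧ lkE C ku = (ku : TG T) ∧ lkE C ke = (kf : TG T) ∧
    lkE C ka = (ka * kz : TG T) ∧ lkE C kf = ((ke * kf)⁻¹ : TG T)
  rc : ∀ k : TG T, p1 k → (k = 1 ∧ lkE C k = 1) ∨
    ∃ x ∈ g1, p1 (x * k) ∧ (x * k).v < k.v ∧ lkE C (x * k) = lkE C x * lkE C k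
  st : ∀ m : TG T, (p1 m → p1 (lkE C m) ∧ (p0 (lkE C m) ↔ p0 m) ∧ p1 (kg * m * kg⁻¹) ∧
    (p0 (kg * m * kg⁻¹) ↔ p0 m)) ∧ (p2 m → p1 (kw * m * kw⁻¹) ∧ (p0 (kw * m * kw⁻¹) ↔ p0 m))
  red : ∀ m : TG T, p1 m → ∃ x ∈ [m, lkE C m, lkE C (lkE C m)], ∃ y ∈ [x, kg * x * kg⁻¹],
    ∃ v ∈ [y, lkE C y, lkE C (lkE C y)], pZ v

end Tab

/-- the relations of `W⟨t⟩` -/
def RA (κ j : Bool) : List (ℕ × ℕ × List ℕ) :=
  [(0, 0, []), (1, 1, []), (1, 0, [0]), (2, 2, []), (2, 0, [0]), (2, 1, [1]), (3, 3, []), (3, 0, [0]),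
  (3, 1, [1]), (3, 2, [2]), (4, 4, []), (4, 0, [0]), (4, 1, [1]), (4, 2, [2]), (4, 3, [3]), (5, 5, []),
  (5, 0, [0]), (5, 1, [1]), (5, 2, [2]), (5, 3, [3, 0]), (5, 4, [2, 4]), (6, 6, []), (6, 0, [0]),
  (6, 1, [1]), (6, 2, [2]), (6, 3, [2, 3]), (6, 4, 2 :: (cond κ [1] [] ++ (cond j [0] [] ++ [4]))),
  (6, 5, [5]), (7, 7, []), (7, 0, [0]), (7, 1, [1]), (7, 2, [0, 2]), (7, 3, [3]), (7, 4, [3, 4]),
  (7, 5, [5]), (7, 6, [5, 6])]

/-- the relations of `W⟨t, w⟩` -/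
def RW (s j : Bool) : List (ℕ × ℕ × List ℕ) :=
  (8, 8, cond s [2] []) :: (8, 0, [0]) :: (8, 1, [1, 0]) :: (8, 2, [2]) :: (8, 3, [5]) :: (8, 4, [6]) ::
    (8, 5, [3]) :: (8, 6, [4]) :: (8, 7, 7 :: cond s [1] []) :: RA false j

end Cfsg.Agent.HSD.N0
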