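import Mathlib
import Cfsg.Agent.HSD.C2A
import Cfsg.Agent.HSD.N0G

/-! General lemmas for the tables of type (II, II). -/

set_option autoImplicit false
set_option linter.unusedSectionVars false
set_option linter.unusedVariables false

namespace Cfsg.Agent.HSD.C2

open Cfsg Subgroup Cfsg.Agent.PLocal Cfsg.Agent.PLocal.Amb Cfsg.Agent.MacW
open Cfsg.Agent.Comp Cfsg.Agent.X32 Pc N0

variable {G : Type*} [Group G] [Finite G] {d : Dat G} {r s k ρ σ E w : G}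

/-- relations of `S₁` -/
def RS : List (ℕ × ℕ × List ℕ) :=
  [(0, 0, []), (1, 1, []), (1, 0, [0]), (2, 2, []), (2, 0, [0]), (2, 1, [1]), (3, 3, []), (3, 0, [0]),
  (3, 1, [1]), (3, 2, [2, 0]), (4, 4, []), (4, 0, [0]), (4, 1, [1]), (4, 2, [2]), (4, 3, [3]),
  (5, 5, []), (5, 0, [2, 1, 3, 2, 1, 3]), (5, 1, [1]), (5, 2, [2, 1]), (5, 3, [3]), (5, 4, [4, 1, 0]),
  (6, 6, [1]), (6, 0, [2, 3, 1, 2, 3, 1]), (6, 1, [1]), (6, 2, [2]), (6, 3, [3, 1]), (6, 4, [4, 1]),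
  (6, 5, [5])]

def RP : List (ℕ × ℕ × List ℕ) := (7, 7, []) :: (7, 0, [0, 1]) :: (7, 1, [1]) :: (7, 2, [2]) ::
  (7, 3, [5, 3]) :: (7, 4, [4, 2, 1]) :: (7, 5, [5]) :: (7, 6, [6]) :: RS

def cl (i : Bool) (l : List ℕ) : List ℕ := cond i l []

def RT (κ j : Bool) : List (ℕ × ℕ × List ℕ) := (8, 8, []) :: (8, 0, [0, 1]) :: (8, 1, [1]) ::
  (8, 2, [2]) :: (8, 3, [5, 3]) :: (8, 4, [4, 2, 1]) :: (8, 5, [5]) :: (8, 6, [6]) ::
  (7, 1, [1]) :: (7, 3, [0, 1, 2, 4, 6]) ::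
  (8, 7, cl (!κ) [2, 5, 6] ++ [7]) :: (7, 7, cl (!(κ ^^ j)) [2, 5, 6]) ::
  (7, 0, cl (!κ) [0] ++ cl (!(κ ^^ j)) [1] ++ [5, 0, 1, 2, 4, 6] ++ cl (!κ) [0] ++ cl (!(κ ^^ j)) [1] ++
    [5, 0, 1, 2, 4, 6]) :: (7, 2, cl (!κ) [0] ++ cl (!(κ ^^ j)) [1] ++ [5]) ::
  (7, 4, cl (!j) [0] ++ cl (κ ^^ j) [1] ++ [3, 5, 6]) :: (7, 5, cl (!κ) [0] ++ [2]) ::
  (7, 6, cl (κ ^^ j) [1] ++ [6]) :: RS

local macro "wd" : term => `(by
  simp only [mul_assoc, bp_true, bp_false, one_mul, Bool.not_true, Bool.not_false,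
    Bool.xor_true, Bool.xor_false]; rfl)

theorem relS (h : d.Cfg) (L : d.LayII r s k ρ true true) (x y : G) :
    ∀ q ∈ RS, rel (LES.tup [d.z, d.u, d.a, d.b, d.t, r, k, x, y]) q := by
  have c1 : Cj d.b d.a (d.a * d.z) := by rw [Cj, h.ba, mul_assoc d.a, ← h.zb]; group
  simp only [RS, List.forall_mem_cons, List.not_mem_nil, false_imp_iff, implies_true, and_true]
  exact ⟨h.zz, h.uu, Cj.of_comm h.zu.symm, h.aa, Cj.of_comm h.za.symm, Cj.of_comm h.au, h.bb,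
    Cj.of_comm h.zb.symm, Cj.of_comm h.bu, c1, h.tt, Cj.of_comm h.zt.symm, Cj.of_comm h.ut.symm,
    Cj.of_comm h.at'.symm, Cj.of_comm h.bt.symm, L.rr, Eq.trans (h.cz L.acr.a L.acr.b) wd, L.acr.u,
    L.acr.a, L.acr.b, Eq.trans L.acr.t wd, L.hh, Eq.trans (h.cz L.ach.a L.ach.b) wd, L.ach.u, L.ach.a,
    L.ach.b, L.ach.t, L.hr⟩

theorem relP (h : d.Cfg) (L : d.LayII r s k ρ true true) :
    ∀ q ∈ RP, rel (LES.tup [d.z, d.u, d.a, d.b, d.t, r, k, s, 1]) q := by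
  simp only [RP, List.forall_mem_cons]
  exact ⟨L.ss, L.sz, L.su, L.sa, L.sb, Eq.trans L.st wd, L.sr, L.hs.flip, relS h L _ _⟩

theorem relT (h : d.Cfg) {κ j : Bool} (H : Dat.Cfg.TII d r s k ρ σ E κ j) :
    ∀ q ∈ RT κ j, rel (LES.tup [d.z, d.u, d.a, d.b, d.t, r, k, E, s]) q := by
  have L := H.l1
  simp only [RT, List.forall_mem_cons]
  refine ⟨L.ss, L.sz, L.su, L.sa, L.sb, Eq.trans L.st wd, L.sr, L.hs.flip, H.acE.u,
    Eq.trans H.acE.b wd, ?_, ?_, ?_, ?_, ?_, ?_, ?_, relS h L _ _⟩ <;> cases κ <;> cases j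
  iterate 4 exact Eq.trans H.sE wd
  iterate 4 exact Eq.trans H.EE wd
  iterate 4 exact Eq.trans (h.cz H.acE.a H.acE.b) wd
  iterate 4 exact Eq.trans H.acE.a wd
  iterate 4 exact Eq.trans H.acE.t wd
  iterate 4 exact Eq.trans H.Er wd
  iterate 4 exact Eq.trans H.Eh wd

theorem exists_notMem {F : Subgroup G} (l : List G) (h : l.length < Nat.card F) :
    ∃ x ∈ F, x ∉ l := by
  by_contra c
  push Not at c
  have := rg_card (B := F) (fun i : Fin l.length => l.get i) fun x hx => by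
    obtain ⟨i, e⟩ := List.get_of_mem (c x hx); exact ⟨i, e.symm⟩
  simp at this; omega

variable {T : Tab} [Fact T.OK]

noncomputable abbrev cz : TG T := gn 0
noncomputable abbrev cu : TG T := gn 1
noncomputable abbrev ca : TG T := gn 2
noncomputable abbrev cb : TG T := gn 3
noncomputable abbrev ct : TG T := gn 4
noncomputable abbrev cr : TG T := gn 5
noncomputable abbrev ch : TG T := gn 6
noncomputable abbrev c7 : TG T := gn 7
noncomputable abbrev c8 : TG T := gn 8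
noncomputable abbrev gK : List (TG T) := [cz, cu, ca, cb, ct, cr, ch, c7, c8]
noncomputable abbrev gA : List (TG T) := [cz, cu, ca, ct]
abbrev pA (m : TG T) : Prop := Msk 488 m
abbrev pM (m : TG T) : Prop := Evn 80 m
noncomputable abbrev ccn (y : TG T) : ℕ := Nat.card {m : TG T // m * y = y * m}

/-- facts true in all tables; `x` is the generator `s` -/
structure FB (Pt Rt : ℕ) (x : TG T) : Prop where
  ctr : ∀ m : TG T, (∀ g ∈ gK, m * g = g * m) → m * m = 1 → m = 1 ∨ m ∈ [cu]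
  cls : ∀ m : TG T, m * m = 1 → Cj (lkE Pt m) (lkE Rt m) m
  cA : Ch (T := T) gA pA
  rA : ∀ m : TG T, pA m → m * m = 1 ∧ lkE Rt m ∈ [1, cz, cu, ca, ct]
  cR : ∀ m : TG T, cz * m = m * cz → ca * m = m * ca → cr * m = m * cr → x * m = m * x →
    m = 1 ∨ m = cu ∨ m = ch ∨ m = cu * ch

variable (T) in
structure FM (n : ℕ) : Prop where
  cM : Ch [cz, cu, ca, cb, cr, ch * ca * ct, c7, c8] (pM (T := T))
  n1 : T.n = 2 * n
  nM : Nat.card {m : TG T // pM m} = n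

structure Hm (d : Dat G) (r s k : G) (φ : TG T →* G) (x : TG T) : Prop where
  h : d.Cfg
  inj : Function.Injective φ
  pg : IsPGroup 2 (TG T)
  z : φ cz = d.z
  u : φ cu = d.u
  a : φ ca = d.a
  b : φ cb = d.b
  t : φ ct = d.t
  r : φ cr = r
  k : φ ch = k
  s : φ x = s

theorem hom (h : d.Cfg) {L : List Lv} [Fact (tab L).OK] (hc : chk L = true)
    {R : List (ℕ × ℕ × List ℕ)} (hR : chkR R L = true) {x y : G} {n : ℕ} (hl : 7 ≤ n) (hl' : n < len L)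
    (hr : ∀ q ∈ R, rel (LES.tup [d.z, d.u, d.a, d.b, d.t, r, k, x, y]) q) {Pt Rt : ℕ}
    (F : FB (T := tab L) Pt Rt (gn n)) (hs : LES.tup [d.z, d.u, d.a, d.b, d.t, r, k, x, y] n = s) :
    ∃ φ : TG (tab L) →* G, Hm d r s k φ (gn n) ∧ φ c7 = x := by
  obtain ⟨φ, H⟩ := exists_hom hr hc hR
  have u : φ cu = d.u := H 1 (by omega)
  refine ⟨φ, ⟨h, inj hc φ _ _ F.ctr ?_, pgrp hc, H 0 (by omega), u, H 2 (by omega), H 3 (by omega),
    H 4 (by omega), H 5 (by omega), H 6 (by omega), (H n hl').trans hs⟩, H 7 (by omega)⟩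
  simp only [List.forall_mem_cons, List.not_mem_nil, false_imp_iff, implies_true, and_true, u]
  exact fun c => h.uK (c ▸ one_mem _)

variable {φ : TG T →* G} {x : TG T} {Pt Rt : ℕ}

theorem cen_le (hφ : Function.Injective φ) {R : Subgroup G} {g y : G} {m : TG T}
    (hR : ∀ q ∈ R, q * y = y * q) (l : cj(g, R) ≤ φ.range) (c : Cj g y (φ m)) :
    Nat.card R ≤ ccn m := by
  rw [← card_cj g]
  refine card_le_tab (φ := φ) _ fun q hq => ?_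
  obtain ⟨v, rfl⟩ := l hq
  have c' : Cj g (g⁻¹ * φ v * g) (φ v) := by rw [Cj]; group
  exact ⟨v, cm1 hφ ((c'.mul c).unique (hR _ (mem_cj.1 hq) ▸ c.mul c')), rfl⟩

theorem card_cen (hφ : Function.Injective φ) (m : TG T) :
    Nat.card ↥(φ.range ⊓ centralizer {φ m}) = ccn m := by
  have : φ.range ⊓ centralizer {φ m} = (centralizer {m}).map φ := by
    ext y
    simp only [mem_inf, mem_map, mem_centralizer_singleton_iff]
    exact ⟨fun ⟨⟨v, e⟩, c⟩ => ⟨v, cm1 hφ (e ▸ c), e⟩, fun ⟨v, c, e⟩ => ⟨⟨v, e⟩, e ▸ cm2 c⟩⟩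
  rw [this, card_map hφ]
  exact Nat.card_congr (Equiv.subtypeEquivRight fun _ => mem_centralizer_singleton_iff)

theorem cen_le' (hφ : Function.Injective φ) {g : G} {y m : TG T} (hg : g ∈ 𝐍[φ.range])
    (c : Cj g (φ y) (φ m)) : ccn y ≤ ccn m :=
  card_cen hφ y ▸ cen_le hφ (fun q hq => mem_centralizer_singleton_iff.1 hq.2)
    (cj_le_of_mem_normalizer inf_le_left hg) c

namespace Hm

variable (H : Hm d r s k φ x) (F : FB Pt Rt x)
include H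

theorem Tsq {m : TG T} (c : d.T (φ m)) : m * m = 1 := sq1 H.inj (by
  obtain ⟨g, e⟩ := c.exists
  exact (e.mul e).unique (H.h.tt ▸ Cj.one g))

theorem n1 : ¬ d.T (φ 1) := fun c => by
  rw [map_one] at c
  exact H.h.tK (isConj_one_left.1 c ▸ one_mem _)
theorem nz (nt : d.NT) : ¬ d.T (φ cz) := H.z ▸ nt.z
theorem nu (nt : d.NT) : ¬ d.T (φ cu) := H.u ▸ nt.u
theorem na (nt : d.NT) : ¬ d.T (φ ca) := fun c => nt.z ((H.a ▸ c).cj' H.h.r1z)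
theorem nb (nt : d.NT) : ¬ d.T (φ cb) := fun c => nt.z ((H.b ▸ c).cj' H.h.r2z)
theorem tt : d.T (φ ct) := H.t ▸ d.T_t
theorem ρs (L : d.LayII r s k ρ true true) : Cj ρ (φ cr) (φ x) := by rw [H.r, H.s]; exact L.pr
theorem ρk (L : d.LayII r s k ρ true true) : Cj ρ (φ (ca * cr * ch)) (φ (ca * cz * x * ch)) := by
  simp only [map_mul, H.a, H.r, H.k, H.z, H.s]; exact (L.pa.mul L.pr).mul L.ph

theorem S0_le : d.S0 ≤ φ.range := (closure_le _).2 (by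
  rintro x (rfl | rfl | rfl | rfl)
  exacts [⟨_, H.t⟩, ⟨_, H.u⟩, ⟨_, H.a⟩, ⟨_, H.b⟩])

theorem A1_eq : d.A1 = sb φ gA := le_antisymm ((closure_le _).2 (by
    rintro x (rfl | rfl | rfl | rfl)
    exacts [H.t ▸ gen_mem (by simp), H.u ▸ gen_mem (by simp), H.z ▸ gen_mem (by simp),
      H.a ▸ gen_mem (by simp)])) (sb_le (by
    simp only [List.forall_mem_cons, List.not_mem_nil, false_imp_iff, implies_true, and_true, H.z,
      H.u, H.a, H.t]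
    exact ⟨subset_closure (by simp), H.h.u_A1, H.h.a_A1, H.h.t_A1⟩))

include F

theorem rep {m : TG T} (c : m * m = 1) : Cj (φ (lkE Pt m)) (φ (lkE Rt m)) (φ m) :=
  map_cj φ (F.cls m c)

theorem Trep {m : TG T} (c : d.T (φ m)) : d.T (φ (lkE Rt m)) := c.cj' (H.rep F (H.Tsq c))

theorem Trep' {m y : TG T} (c : m * m = 1 ∧ lkE Rt m = y) : d.T (φ m) ↔ d.T (φ y) :=
  c.2 ▸ ⟨H.Trep F, fun a => a.cj (H.rep F c.1)⟩

theorem bad {l : List (TG T)} (hl : ∀ y ∈ l, ¬ d.T (φ y)) {m : TG T} (c : d.T (φ m)) :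
    lkE Rt m ∉ l := fun a => hl _ a (H.Trep F c)

/-- Sylow criterion -/
theorem crit {y : TG T} (hy : d.T (φ y)) (hc : Nat.card d.S ≤ ccn y)
    (hn : ∀ g ∈ 𝐍[φ.range], ∀ m, d.T (φ m) → Cj g (φ y) (φ (lkE Rt m)) → lkE Rt m = y) :
    IsSyl 2 φ.range ⊤ :=
  H.h.crit2 (prange H.pg) hy (card_cen H.inj y ▸ hc) fun g hg => by
    obtain ⟨m, e⟩ := conj_mem_of_mem_normalizer hg (⟨y, rfl⟩ : φ y ∈ φ.range)
    have c : Cj g (φ y) (φ m) := e.symm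
    have p := H.rep F (H.Tsq (hy.cj c))
    rw [hn _ (mul_mem (le_normalizer (inv_mem ⟨_, rfl⟩)) hg) m (hy.cj c) (c.comp p.symm)] at p
    exact ⟨_, ⟨_, rfl⟩, e ▸ p⟩

theorem thom {n : ℕ} (M : FM T n) (hP : IsSyl 2 φ.range ⊤)
    (hn : ∀ m, pM m → d.T (φ m) → ¬ Nat.card d.S ≤ ccn (lkE Rt m)) : d.t ∉ d.X := by
  refine H.h.thompson hP sb_range (relIndex_two sb_range (by
    rw [card_range H.inj, TG.card, card_sb H.inj M.cM, M.nM, M.n1])) H.h.tt H.h.pS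
    (fun q hq => (H.h.wt hq).comm) fun g hg l => ?_
  obtain ⟨m, a, e⟩ := ex M.cM hg
  have c : Cj g d.t (φ m) := e.symm
  exact hn m a (d.T_t.cj c) ((cen_le H.inj (fun q hq => (H.h.wt hq).comm) l c).trans
    (cen_le' H.inj (le_normalizer (inv_mem ⟨_, rfl⟩)) (H.rep F (H.Tsq (d.T_t.cj c))).symm))

theorem fin (L : d.LayII r s k ρ true true) (hP : IsSyl 2 φ.range ⊤) (hk : k ∉ d.X) : SR 4 d.X := by
  have h := H.h
  obtain ⟨x1, x2, x3, -⟩ := h.layII_mem L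
  refine SR.syl (h.sylX hP) (h.srQQ L (h.sylX hP).pgrp ((closure_le _).2 ?_) ?_)
  · rintro _ (rfl | rfl | rfl | rfl | rfl)
    exacts [⟨⟨_, H.u⟩, x3⟩, ⟨⟨_, H.z⟩, h.KX h.z_K⟩, ⟨⟨_, H.a⟩, h.KX h.a_K⟩, ⟨⟨_, H.r⟩, x1⟩,
      ⟨⟨_, H.s⟩, x2⟩]
  · rintro _ ⟨⟨m, rfl⟩, hm⟩ a b c e
    have hm : φ m ∈ d.X := hm
    rcases F.cR m (cm1 H.inj (H.z ▸ a.comm.symm)) (cm1 H.inj (H.a ▸ b.comm.symm))
      (cm1 H.inj (H.r ▸ c.comm.symm)) (cm1 H.inj (H.s ▸ e.comm.symm)) with rfl | rfl | rfl | rfl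
    · exact .inl (map_one _)
    · exact .inr H.u
    · exact absurd (H.k ▸ hm) hk
    · rw [map_mul, H.u, H.k] at hm
      exact absurd ((mul_mem_cancel_left x3).1 hm) hk

end Hm

noncomputable abbrev g2 : List (TG T) := [cz, cu, cr, cb * ch]
noncomputable abbrev lP : List (TG T) := [1, cz, cu, ca, cb, cr, ct * ch, ca * cr * ch, c7, cz * ch * c7]
abbrev p2 (m : TG T) : Prop := Msk 404 m ∧ Evn 72 m

variable (T) in
/-- facts for `P₁` -/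
structure FP (Pt Rt : ℕ) : Prop extends FB Pt Rt (c7 : TG T) where
  all : ∀ m : TG T, m * m = 1 → lkE Rt m ∈ lP ∨ (¬ pM m ∧ lkE Rt m ∈ [ct, cb * ct, cb * ch])
  fm : FM T 128
  nr : ccn (cr : TG T) = 64
  nk : ccn (ca * cr * ch : TG T) = 64
  nt : ccn (ct : TG T) = 32
  zhs : (ca * cz * c7 * ch : TG T) * (ca * cz * c7 * ch) = 1 ∧
    lkE Rt (ca * cz * c7 * ch : TG T) = cz * ch * c7
  th : ∀ y ∈ ([1, cz] : List (TG T)), (ch * ca * ct * y * ca) * (ch * ca * ct * y * ca) = 1 ∧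
    lkE Rt (ch * ca * ct * y * ca) = ct * ch
  nA : ∀ m : TG T, (∀ g ∈ gA, pA (m * g * m⁻¹)) ∧ p2 (m * (cb * ch) * m⁻¹) ∧
    (m * ct * m⁻¹) * ct = ct * (m * ct * m⁻¹)
  bt : (c7 * (cb * ct) * c7⁻¹ : TG T) * (cb * ct) ≠ (cb * ct) * (c7 * (cb * ct) * c7⁻¹)
  c2 : Ch (T := T) g2 p2
  n2 : Nat.card {m : TG T // p2 m} = 16
  gen : (ch * ct * ch⁻¹ * ct : TG T) = cu ∧ (cr * ch * ct * (cr * ch)⁻¹ * ct : TG T) = cz ∧
    (c7 * ch * ct * (c7 * ch)⁻¹ * ct : TG T) = ca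
  s2 : ∀ y ∈ ([(1, 1), (cz, cu)] : List (TG T × TG T)),
    p2 (ct * cb * (cu * cz) * (ch * ca * ct * y.1 * ca) * cz) ∧ p2 (cu * cz : TG T) ∧ p2 (cz : TG T) ∧
    p2 (cr * cb * ct * y.2 * (ct * cb * (cu * cz) * y.1)⁻¹)

noncomputable abbrev lT : List (TG T) := [1, cz, cu, ca, cb, ca * cr * ch, c8, cz * ch * c8]

variable (T) in
/-- facts for `κ = 1` -/
structure F1 (Pt Rt : ℕ) : Prop extends FB Pt Rt (c8 : TG T) where
  n : T.n = 512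
  nk : ccn (ca * cr * ch : TG T) = 128
  nt : ccn (ct : TG T) < 64
  nbt : ccn (cb * ct : TG T) = 64
  zhs : (ca * cz * c8 * ch : TG T) * (ca * cz * c8 * ch) = 1 ∧
    lkE Rt (ca * cz * c8 * ch : TG T) = cz * ch * c8
  rr : (cr * cr : TG T) = 1 ∧ lkE Rt (cr : TG T) = ca
  bt : (cz * cu * ca * cb * ct * cr : TG T) * (cz * cu * ca * cb * ct * cr) = 1 ∧
    lkE Rt (cz * cu * ca * cb * ct * cr : TG T) = cb * ct
  hat : (cz * cu * ca * ct * ch : TG T) = cz * ca * (ch * ct)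

variable (T) in
structure F11 (Pt Rt C : ℕ) : Prop extends F1 T Pt Rt where
  all : ∀ m : TG T, m * m = 1 → lkE Rt m ∈ lT ∨ (lk C m.v = 2 ∧ (lkE Rt m = ct ∨ lkE Rt m = cb * ct))
  rk : ∀ m : TG T, m = 1 ∨ ∃ g ∈ gK, (g * m).v < m.v
  c1 : lk C (1 : TG T).v = 0
  chi : ∀ g ∈ (gK : List (TG T)), ∀ m, lk C (g * m).v % 4 = (lk C g.v + lk C m.v) % 4

noncomputable abbrev gR : List (TG T) := [cz, cu, ca, cr, ch, c8]
abbrev pR (m : TG T) : Prop := Msk 152 m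
noncomputable abbrev gF : List (TG T) := [cu, ca * cr * ch, c7, c8]

variable (T) in
structure F10 (Pt Rt C : ℕ) : Prop extends F1 T Pt Rt where
  all : ∀ m : TG T, m * m = 1 → lkE Rt m ∈ lT ∨ lkE Rt m = c7 * c8 ∨ lkE Rt m = c7 ∨
    (¬ pM m ∧ (lkE Rt m = ct ∨ lkE Rt m = cb * ct ∨ lkE Rt m = ca * cb * ct * c7 ∨
      lkE Rt m = cz * cb * ct * c7 * c8))
  fm : FM T 256
  nE : ccn (c7 : TG T) < 64
  nE' : ccn (ca * cb * ct * c7 : TG T) < 64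
  nz : ccn (cz : TG T) = 256
  nu : ccn (cu : TG T) = 512
  zbt : (cz * (cb * ct) : TG T) = cb * ct * cz
  Es : ∀ y ∈ ([c7 * c8, cz * cb * ct * c7 * c8] : List (TG T)), ∀ m, m * m = 1 → m * y = y * m →
    m = 1 ∨ m = cu ∨ ccn m < 256
  uc : ∀ m : TG T, m * cu = cu * m ∧ m * m ≠ ca * cr * ch ∧ (pR m → m * m = 1 ∨ m * m = cu)
  cR' : Ch (T := T) gR pR
  nR : Nat.card {m : TG T // pR m} = 64
  rk3 : ∀ x : TG T, pR x → x * x = 1 → x ∈ [1, cu] ∨ ∀ y, pR y → y * y = 1 → x * y = y * x →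
    y ∈ [1, cu, x, x * cu] ∨
      Nat.card {m : TG T // pR m ∧ m * m = 1 ∧ m * x = x * m ∧ m * y = y * m} < 16
  cF : Ch (T := T) gF (Ent C 1)
  nF : Nat.card {m : TG T // Ent C 1 m} = 16
  sF : ∀ m : TG T, Ent C 1 m → m * m = 1 ∧ m * (c7 * c8) = c7 * c8 * m
  σz : ((cz * cu * ca * ct * ch) * (cb * cr) * (cz * cu * ca * ct * ch) * (cb * cr) : TG T) = cu

noncomputable abbrev gB : List (TG T) := [cu, ct, ch]
abbrev pB (m : TG T) : Prop := Msk 429 m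
noncomputable abbrev st (C : ℕ) (m : TG T) : TG T := c7 * lkE C m * c7⁻¹
noncomputable abbrev wx (C : ℕ) (m : TG T) : TG T := st C (st C (st C (st C (c8 * st C m * c8⁻¹))))

variable (T) in
structure F01 (Pt Rt C : ℕ) : Prop extends FB Pt Rt (c8 : TG T) where
  cB : Ch (T := T) gB pB
  rB : ∀ m : TG T, pB m → (m * m = 1 → m = ct ∨ m = ch * ct * ch⁻¹ ∨ lkE Rt m ∈ [1, cu, cb]) ∧
    (m * cr = cr * m → m * ch = ch * m)
  rA' : ∀ m : TG T, pA m → m * cr = cr * m → m * c8 = c8 * m → pB m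
  ro : lkE C cz = (ca : TG T) ∧ lkE C cu = (cu : TG T) ∧ lkE C ca = (ca * cz : TG T) ∧
    lkE C cr = (c8 : TG T) ∧ lkE C ch = (ch : TG T) ∧ lkE C c8 = (cr * c8 : TG T)
  rc : ∀ m : TG T, pR m → (m = 1 ∧ lkE C m = 1) ∨
    ∃ x ∈ gR, pR (x * m) ∧ (x * m).v < m.v ∧ lkE C (x * m) = lkE C x * lkE C m
  cl : ∀ m : TG T, pR m → pR (st C m) ∧ pR (c8 * m * c8⁻¹)
  gr : ∀ m ∈ (gR : List (TG T)), pR m
  wx1 : ∀ q ∈ ([(cz, cz), (cu, cu), (ca, ca), (cr, cr), (c8, c8), (ch, ch⁻¹)] : List (TG T × TG T)),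
    wx C q.1 = q.2
  tr : (ct * cr * ct⁻¹ : TG T) = cu * cz * cr ∧ (ct * c8 * ct⁻¹ : TG T) = ca * cu * c8 ∧
    (ct * ch * ct⁻¹ : TG T) = ch⁻¹ ∧ (ch⁻¹ : TG T) ≠ ch

end Cfsg.Agent.HSD.C2
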