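import Cfsg.Agent.HSD.C2U

/-! Tables for type (II, I): `S₁ = ⟨z,u,a,b,t,r,h⟩`. -/

set_option autoImplicit false
set_option maxRecDepth 100000

namespace Cfsg.Agent.HSD

open Cfsg.Agent.Comp Cfsg.Agent.X32

namespace C3aS

def C0 : ℕ := 0x0
def C1 : ℕ := 0x10000
def C2 : ℕ := 0x3000200010000
def C3 : ℕ := 0x60007000400050003000200010000
def C4 : ℕ := 0xf000e000d000c000b000a0009000800070006000500040003000200010000
def C5 : ℕ := 0x1e001f001c001d00180019001a001b00160017001400150010001100120013000d000c000f000e000b000a0009000800050004000700060003000200010000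
def C6 : ℕ := 0x3d003c003f003e00390038003b003a00350034003700360031003000330032002f002e002d002c002b002a0029002800270026002500240023002200210020001d001c001f001e00190018001b001a00150014001700160011001000130012000f000e000d000c000b000a0009000800070006000500040003000200010000
def L : List Pc.Lv := [⟨6, 64, 128, 2, C6⟩, ⟨5, 32, 64, 0, C5⟩, ⟨4, 16, 32, 0, C4⟩, ⟨3, 8, 16, 0, C3⟩, ⟨2, 4, 8, 0, C2⟩, ⟨1, 2, 4, 0, C1⟩, ⟨0, 1, 2, 0, C0⟩]
def R : List (ℕ × ℕ × List ℕ) := [(0, 0, []), (1, 1, []), (1, 0, [0]), (2, 2, []), (2, 0, [0]), (2, 1, [1]), (3, 3, []), (3, 0, [0]), (3, 1, [1]), (3, 2, [2, 0]), (4, 4, []), (4, 0, [0]), (4, 1, [1]), (4, 2, [2]), (4, 3, [3]), (5, 5, []), (5, 0, [0]), (5, 1, [1]), (5, 2, [2, 1]), (5, 3, [3]), (5, 4, [4, 1, 0]), (6, 6, [1]), (6, 0, [0]), (6, 1, [1]), (6, 2, [2]), (6, 3, [3]), (6, 4, [4, 1]), (6, 5, [5])]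
theorem hc : Pc.chk L = true := by decide +kernel
instance ok : Fact (Pc.tab L).OK := ⟨Pc.ok hc⟩
abbrev K := TG (Pc.tab L)
noncomputable abbrev gz : K := Pc.gn 0
noncomputable abbrev gu : K := Pc.gn 1
noncomputable abbrev ga : K := Pc.gn 2
noncomputable abbrev gb : K := Pc.gn 3
noncomputable abbrev gt : K := Pc.gn 4
noncomputable abbrev gr : K := Pc.gn 5
noncomputable abbrev gh : K := Pc.gn 6
noncomputable abbrev gs : List K := [gz, gu, ga, gb, gt, gr, gh]
theorem card : Nat.card K = 128 := Pc.card hc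
theorem hom {G : Type*} [Group G] {z u a b t r h : G}
    (hz : z * z = 1)
    (hu : u * u = 1)
    (hu_z : Cj u z (z))
    (ha : a * a = 1)
    (ha_z : Cj a z (z))
    (ha_u : Cj a u (u))
    (hb : b * b = 1)
    (hb_z : Cj b z (z))
    (hb_u : Cj b u (u))
    (hb_a : Cj b a (a * z))
    (ht : t * t = 1)
    (ht_z : Cj t z (z))
    (ht_u : Cj t u (u))
    (ht_a : Cj t a (a))
    (ht_b : Cj t b (b))
    (hr : r * r = 1)
    (hr_z : Cj r z (z))
    (hr_u : Cj r u (u))
    (hr_a : Cj r a (a * u))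
    (hr_b : Cj r b (b))
    (hr_t : Cj r t (t * u * z))
    (hh : h * h = u)
    (hh_z : Cj h z (z))
    (hh_u : Cj h u (u))
    (hh_a : Cj h a (a))
    (hh_b : Cj h b (b))
    (hh_t : Cj h t (t * u))
    (hh_r : Cj h r (r)) :
    ∃ φ : K →* G, φ gz = z ∧ φ gu = u ∧ φ ga = a ∧ φ gb = b ∧ φ gt = t ∧ φ gr = r ∧ φ gh = h ∧
      ∀ H : Subgroup G, z ∈ H → u ∈ H → a ∈ H → b ∈ H → t ∈ H → r ∈ H → h ∈ H → φ.range ≤ H := by
  obtain ⟨φ, h⟩ := Pc.exists_hom (x := LES.tup [z, u, a, b, t, r, h]) (R := R) (by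
    simp only [R, List.forall_mem_cons, List.not_mem_nil, false_imp_iff, implies_true, and_true]
    exact ⟨hz, hu, hu_z, ha, ha_z, ha_u, hb, hb_z, hb_u, hb_a, ht, ht_z, ht_u, ht_a, ht_b, hr, hr_z, hr_u, hr_a, hr_b, Eq.trans hr_t (by simp only [mul_assoc]; rfl), hh, hh_z, hh_u, hh_a, hh_b, hh_t, hh_r⟩) hc (by decide +kernel)
  refine ⟨φ, h 0 (by decide), h 1 (by decide), h 2 (by decide), h 3 (by decide), h 4 (by decide), h 5 (by decide), h 6 (by decide), fun H m0 m1 m2 m3 m4 m5 m6 => Pc.range_le hc φ fun i hi => ?_⟩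
  rw [h i hi]; change i < 7 at hi
  interval_cases i <;> assumption

end C3aS

namespace C3aO

def C0 : ℕ := 0x0
def C1 : ℕ := 0x10000
def C2 : ℕ := 0x3000200010000
def C3 : ℕ := 0x60007000400050003000200010000
def C4 : ℕ := 0xf000e000d000c000b000a0009000800070006000500040003000200010000
def C5 : ℕ := 0x1e001f001c001d00180019001a001b00160017001400150010001100120013000d000c000f000e000b000a0009000800050004000700060003000200010000
def C6 : ℕ := 0x3d003c003f003e00390038003b003a00350034003700360031003000330032002f002e002d002c002b002a0029002800270026002500240023002200210020001d001c001f001e00190018001b001a00150014001700160011001000130012000f000e000d000c000b000a0009000800070006000500040003000200010000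
def L : List Pc.Lv := [⟨6, 64, 128, 0, C6⟩, ⟨5, 32, 64, 0, C5⟩, ⟨4, 16, 32, 0, C4⟩, ⟨3, 8, 16, 0, C3⟩, ⟨2, 4, 8, 0, C2⟩, ⟨1, 2, 4, 0, C1⟩, ⟨0, 1, 2, 0, C0⟩]
def R : List (ℕ × ℕ × List ℕ) := [(0, 0, []), (1, 1, []), (1, 0, [0]), (2, 2, []), (2, 0, [0]), (2, 1, [1]), (3, 3, []), (3, 0, [0]), (3, 1, [1]), (3, 2, [2, 0]), (4, 4, []), (4, 0, [0]), (4, 1, [1]), (4, 2, [2]), (4, 3, [3]), (5, 5, []), (5, 0, [0]), (5, 1, [1]), (5, 2, [2, 1]), (5, 3, [3]), (5, 4, [4, 1, 0]), (6, 6, []), (6, 0, [0]), (6, 1, [1]), (6, 2, [2]), (6, 3, [3]), (6, 4, [4, 1]), (6, 5, [5])]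
theorem hc : Pc.chk L = true := by decide +kernel
instance ok : Fact (Pc.tab L).OK := ⟨Pc.ok hc⟩
abbrev K := TG (Pc.tab L)
noncomputable abbrev gz : K := Pc.gn 0
noncomputable abbrev gu : K := Pc.gn 1
noncomputable abbrev ga : K := Pc.gn 2
noncomputable abbrev gb : K := Pc.gn 3
noncomputable abbrev gt : K := Pc.gn 4
noncomputable abbrev gr : K := Pc.gn 5
noncomputable abbrev gh : K := Pc.gn 6
noncomputable abbrev gs : List K := [gz, gu, ga, gb, gt, gr, gh]
theorem card : Nat.card K = 128 := Pc.card hc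
theorem hom {G : Type*} [Group G] {z u a b t r h : G}
    (hz : z * z = 1)
    (hu : u * u = 1)
    (hu_z : Cj u z (z))
    (ha : a * a = 1)
    (ha_z : Cj a z (z))
    (ha_u : Cj a u (u))
    (hb : b * b = 1)
    (hb_z : Cj b z (z))
    (hb_u : Cj b u (u))
    (hb_a : Cj b a (a * z))
    (ht : t * t = 1)
    (ht_z : Cj t z (z))
    (ht_u : Cj t u (u))
    (ht_a : Cj t a (a))
    (ht_b : Cj t b (b))
    (hr : r * r = 1)
    (hr_z : Cj r z (z))
    (hr_u : Cj r u (u))
    (hr_a : Cj r a (a * u))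
    (hr_b : Cj r b (b))
    (hr_t : Cj r t (t * u * z))
    (hh : h * h = 1)
    (hh_z : Cj h z (z))
    (hh_u : Cj h u (u))
    (hh_a : Cj h a (a))
    (hh_b : Cj h b (b))
    (hh_t : Cj h t (t * u))
    (hh_r : Cj h r (r)) :
    ∃ φ : K →* G, φ gz = z ∧ φ gu = u ∧ φ ga = a ∧ φ gb = b ∧ φ gt = t ∧ φ gr = r ∧ φ gh = h ∧
      ∀ H : Subgroup G, z ∈ H → u ∈ H → a ∈ H → b ∈ H → t ∈ H → r ∈ H → h ∈ H → φ.range ≤ H := by
  obtain ⟨φ, h⟩ := Pc.exists_hom (x := LES.tup [z, u, a, b, t, r, h]) (R := R) (by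
    simp only [R, List.forall_mem_cons, List.not_mem_nil, false_imp_iff, implies_true, and_true]
    exact ⟨hz, hu, hu_z, ha, ha_z, ha_u, hb, hb_z, hb_u, hb_a, ht, ht_z, ht_u, ht_a, ht_b, hr, hr_z, hr_u, hr_a, hr_b, Eq.trans hr_t (by simp only [mul_assoc]; rfl), hh, hh_z, hh_u, hh_a, hh_b, hh_t, hh_r⟩) hc (by decide +kernel)
  refine ⟨φ, h 0 (by decide), h 1 (by decide), h 2 (by decide), h 3 (by decide), h 4 (by decide), h 5 (by decide), h 6 (by decide), fun H m0 m1 m2 m3 m4 m5 m6 => Pc.range_le hc φ fun i hi => ?_⟩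
  rw [h i hi]; change i < 7 at hi
  interval_cases i <;> assumption

end C3aO

namespace C3a

def sS : ℕ := 0x5b00580059005a005f005c005d005e00730070007100720077007400750076004d004e004f004c0049004a004b004800650066006700640061006200630060007b00780079007a007f007c007d007e00530050005100520057005400550056006d006e006f006c0069006a006b006800450046004700440041004200430040001b00180019001a001f001c001d001e00330030003100320037003400350036000d000e000f000c0009000a000b000800250026002700240021002200230020003b00380039003a003f003c003d003e00130010001100120017001400150016002d002e002f002c0029002a002b002800050006000700040001000200030000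
def sF : ℕ := 0x160017001400150070007100720073001e001f001c001d00780079007a007b000f000e000d000c00680069006a006b0007000600050004006000610062006300360037003400350050005100520053003e003f003c003d00580059005a005b002f002e002d002c00480049004a004b0027002600250024004000410042004300570056005500540033003200310030005f005e005d005c003b003a00390038004e004f004c004d002b002a002900280046004700440045002300220021002000770076007500740013001200110010007f007e007d007c001b001a00190018006e006f006c006d000b000a0009000800660067006400650003000200010000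

end C3a

end Cfsg.Agent.HSD
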