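import Cfsg.Agent.HSD.Pc2

/-! Type (II, I): what is needed from the tables of `T₀` and `Y` (generators `u z r b h f c l a s t`). -/

set_option autoImplicit false
set_option maxRecDepth 100000
set_option synthInstance.maxHeartbeats 400000
set_option synthInstance.maxSize 4096

namespace Cfsg.Agent.HSD.C3C

open Cfsg.Agent.Comp Cfsg.Agent.X32 Pc

/-- the relations which do not depend on `θ` -/
def R0 : List (ℕ × ℕ × List ℕ) := [(0, 0, []), (1, 1, []), (1, 0, [0]), (2, 2, []), (2, 0, [0]), (2, 1, [1]), (3, 3, []), (3, 0, [0]), (3, 1, [1]), (3, 2, [2]), (4, 4, [0]), (4, 0, [0]), (4, 1, [1]), (4, 2, [2]), (4, 3, [3]), (5, 5, [0, 1, 3]), (5, 0, [0]), (5, 1, [1]), (5, 2, [2]), (5, 3, [3]), (5, 4, [4, 0, 1]), (6, 6, [0, 1, 0, 2, 3]), (6, 0, [0]), (6, 1, [1, 0, 0]), (6, 2, [2]), (6, 3, [2, 2, 3]), (6, 4, [4, 0, 1, 0]), (7, 0, [0]), (7, 1, [1]), (7, 2, [2]), (7, 3, [3]), (7, 5, [3, 5]), (8,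 8, []), (8, 0, [0]), (8, 1, [1]), (8, 2, [0, 2]), (8, 3, [3, 1]), (8, 4, [4]), (8, 5, [17, 16, 20, 18, 5]), (8, 6, [16, 17, 16, 20, 18, 6]), (9, 9, []), (9, 0, [0]), (9, 1, [1, 0]), (9, 2, [2]), (9, 3, [2, 3]), (9, 4, [4]), (9, 5, [6]), (9, 6, [5]), (9, 8, [8]), (10, 10, []), (10, 0, [0]), (10, 1, [1]), (10, 2, [0, 1, 2]), (10, 3, [3]), (10, 4, [0, 4]), (10, 5, [3, 5]), (10, 6, [8, 0, 9, 3, 5, 8, 0, 9]), (10, 8, [8]), (10, 9, [8, 0, 9])]

set_option synthInstance.checkSynthOrder false in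
instance instCard {T : Tab} [Fact T.OK] (n : ℕ) {p : TG T → Prop} {f : TG T → Bool}
    [∀ k, BD (p k) (f k)] : BD (n < Nat.card {k // p k}) (Nat.blt n (cntLT T.n fun i => f (TG.e i))) :=
  ⟨by rw [TG.card_eq p, blt_iff]⟩

/-- the table facts -/
structure Fx (LT LY : List Lv) (R : List (ℕ × ℕ × List ℕ)) [Fact (tab LT).OK] [Fact (tab LY).OK] :
    Prop where
  hT : chk LT = true
  hY : chk LY = true
  lT : len LT = 11
  lY : len LY = 10
  rT : chkR (R0 ++ R) LT = true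
  rY : chkR (R0 ++ R) LY = true
  zT : ∀ k : TG (tab LT), (∀ g ∈ [gn 4, gn 5, gn 6, gn 7, gn 8, gn 9, gn 10], k * g = g * k) →
    k * k = 1 → k = 1 ∨ k ∈ [gn 0]
  zY : ∀ k : TG (tab LY), (∀ g ∈ [gn 4, gn 5, gn 6, gn 7, gn 8, gn 9], k * g = g * k) →
    k * k = 1 → k = 1 ∨ k ∈ [gn 0]
  idx : ∃ M : Subgroup (TG (tab LT)), M.index = 2 ∧ ∀ k, k ∈ M ↔ k.v < (gn 10 : TG (tab LT)).v
  cl : ∀ y : TG (tab LT), y * y = 1 → ∃ p r, Cj p r y ∧
    ((y.v < (gn 10 : TG (tab LT)).v ∧ 32 < Nat.card {k // k * r = r * k}) ∨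
      (¬ y.v < (gn 10 : TG (tab LT)).v ∧ r = gn 10))

theorem low {L : List Lv} [Fact (tab L).OK] (h : chk L = true) {H : Subgroup (TG (tab L))} {i : ℕ}
    (hi : i ≤ len L) (hH : ∀ j < i, gn j ∈ H) (k : TG (tab L)) (hk : k.v < 2 ^ i) : k ∈ H := by
  have g := good h
  induction i generalizing k with
  | zero => exact (TG.ext (by change k.v = 0; omega) : k = 1) ▸ one_mem H
  | succ i ih =>
    have ih := ih (by omega) fun j hj => hH j (by omega)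
    rcases lt_or_ge k.v (2 ^ i) with c | c
    · exact ih k c
    have c2 : k.v - 2 ^ i < 2 ^ i := by omega
    have c3 : 2 ^ i < (tab L).n := g.n ▸ Nat.pow_lt_pow_right one_lt_two hi
    have e : k = ⟨k.v - 2 ^ i, c2.trans c3⟩ * gn i := TG.ext (by
      change _ = (tab L).mu (k.v - 2 ^ i) (2 ^ i % _)
      rw [Nat.mod_eq_of_lt c3, g.gen i hi _ c2]; omega)
    exact e ▸ mul_mem (ih _ c2) (hH i (by omega))

end Cfsg.Agent.HSD.C3C
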