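import Mathlib
import Cfsg.Agent.HSD.Basic
import Cfsg.Agent.HSD.TypesA

/-! The action of `N(S₀)` on `Z₀ = ⟨t, u, z⟩`: reduction to five configurations. -/

set_option autoImplicit false
set_option linter.unusedSectionVars false
set_option linter.unusedVariables false

namespace Cfsg.Agent.HSD

open Cfsg Subgroup Cfsg.Agent.PLocal Cfsg.Agent.PLocal.Amb Cfsg.Agent.MacW Cfsg.Agent.Comp Ty

variable {G : Type*} [Group G] [Finite G]

namespace Dat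

/-- the element of `S₀` with the code `n` -/
noncomputable def e (d : Dat G) (n : ℕ) : G := d.el (tb n 0) (tb n 1) (tb n 2) (tb n 3) (tb n 4)
/-- `g` induces the partial map `f` -/
def Ra (d : Dat G) (g : G) (f : ℕ → ℕ) : Prop := ∀ v, f v < 32 → v < 32 ∧ Cj g (d.e v) (d.e (f v))
def Re (d : Dat G) (f : ℕ → ℕ) : Prop := ∃ g, d.Ra g f
def Five (d : Dat G) : Prop := ∃ d' : Dat G, d'.Cfg ∧ d'.X = d.X ∧ d'.S = d.S ∧
    d'.t = d.t ∧ (d'.CB ∨ d'.CN ∨ d'.CI ∨ d'.CII ∨ d'.CIII)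

theorem e_cd (d : Dat G) (i j k l m : Bool) : d.e (cd i j k l m) = d.el i j k l m := by
  cases i <;> cases j <;> cases k <;> cases l <;> cases m <;> rfl

/-- a change of the frame -/
structure Fr (d d' : Dat G) (u a b : ℕ) : Prop where
  cfg : d'.Cfg
  X : d'.X = d.X
  S : d'.S = d.S
  t0 : d'.t = d.t
  t : d.e 1 = d'.t
  z : d.e 16 = d'.z
  u : d.e u = d'.u
  a : d.e a = d'.a
  b : d.e b = d'.b
  e1 : d.E1 → d'.E1
  e2 : ∀ w, d.E2 w → d'.E2 w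

end Dat

namespace Dat.Cfg

variable {d : Dat G} (h : d.Cfg)
include h

/-- If `S` is Sylow in `G` then the sectional rank is at most four. -/
theorem sr_S (ε : d.Eps) : SR 4 d.S := by
  have ab : (d.a * d.b) ^ 2 = d.z := by rw [h.z_eq, sq, ← mul_assoc]
  rcases id ε with e | ⟨w, e⟩
  · exact SR.small h.pS (h.card_S1 e).le (h.le (mul_mem d.a_S0 d.b_S0)) (ab ▸ h.z1)
  intro N H h1 h2 h3 h4
  have c := card_le_of_le h2
  have p : 0 < Nat.card N := Nat.card_pos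
  rw [h.card_S2 e] at c
  by_cases l : Nat.card H < 2 ^ (4 + 1)
  · have := card_le_of_lt' h.pS h2 4 l; omega
  by_cases l' : Nat.card H < 2 ^ (5 + 1)
  · have := card_le_of_lt' h.pS h2 5 l'
    by_contra n
    obtain rfl : N = ⊥ := (card_le_one_iff_eq_bot _).1 (by omega)
    rcases h.eq_A ε h2 (fun x hx => by simpa [sq] using h4 x hx) (by omega) with k | k <;>
      simp [k, h.card_A1, h.card_A2] at l
  obtain rfl : H = d.S := eq_of_le_of_card_ge h2 (by rw [h.card_S2 e]; omega)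
  have m : d.b * d.a⁻¹ ∈ N := Eq.symm e.a ▸ h3 w e.mem d.a (h.le d.a_S0)
  have a1 := two_mul_le_of_lt (bot_le : ⊥ ≤ d.Z0 ⊓ N) (x := d.z)
    ⟨subset_closure (by simp), ab ▸ h4 _ (h.le (mul_mem d.a_S0 d.b_S0))⟩ (by simpa using h.z1)
  have a2 := two_mul_le_of_lt (inf_le_right : d.Z0 ⊓ N ≤ N) m fun k => by
    have := h.mem_Z0.1 k.1
    rw [h.el_a, h.el_b, h.el_inv, h.el_mul] at this
    simp [h.el_eq_iff] at this
  rw [card_bot] at a1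
  omega

theorem e0 : d.e 0 = 1 := h.el_one.symm
theorem et : d.e 1 = d.t := h.el_t.symm
theorem eu : d.e 2 = d.u := h.el_u.symm
theorem ea : d.e 4 = d.a := h.el_a.symm
theorem eb : d.e 8 = d.b := h.el_b.symm
theorem ez : d.e 16 = d.z := h.el_z.symm

theorem e_mu (x y : ℕ) : d.e (mu x y) = d.e x * d.e y := by
  have : ∀ c : Bool, ∀ i < 5, (cond c 16 0 : ℕ).testBit i = (c && i == 4) := by decide
  simp only [e, h.el_mul, mu, force_eq, tb_eq, Nat.xor_eq, Nat.testBit_xor]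
  simp [this]

theorem e_inj {x y : ℕ} (hx : x < 32) (hy : y < 32) (e : d.e x = d.e y) : x = y := by
  obtain ⟨a, b, c, e, f⟩ := h.el_inj e
  rw [← bits x hx, ← bits y hy, a, b, c, e, f]

theorem e_cond (b : Bool) (x : ℕ) : d.e (cond b x 0) = bp (d.e x) b := by
  cases b; exacts [h.e0, rfl]

theorem ra_ap {g : G} {c : Pm} (h0 : Cj g d.t (d.e c.c0)) (h1 : Cj g d.u (d.e c.c1))
    (h2 : c.da = true → Cj g d.a (d.e c.c2)) (h3 : c.db = true → Cj g d.b (d.e c.c3))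
    (h4 : Cj g d.z (d.e c.c4)) : d.Ra g c.ap := fun v hv => by
  have k : ∀ {x y : G} {b b' : Bool}, (b = true → Cj g x y) → (b || !b') = true →
      Cj g (bp x b') (bp y b') := fun {x y b b'} a c => by
    cases b'; exacts [Cj.one g, a (by simpa using c)]
  rw [Pm.ap, force_eq] at hv ⊢
  generalize hc : (Nat.blt v 32 && (c.da || !tb v 2) && (c.db || !tb v 3)) = q at hv ⊢
  cases q
  · simp at hv
  simp only [Bool.and_eq_true, blt_iff] at hc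
  simp only [cond_true, h.e_mu, h.e_cond]
  exact ⟨hc.1.1, ((((h0.bp _).mul (h1.bp _)).mul (k h2 hc.1.2)).mul (k h3 hc.2)).mul (h4.bp _)⟩

theorem re_tot {g : G} {c : N4} (a : d.Ac g (d.e c.1) (d.e c.2.1) (d.e c.2.2.1) (d.e c.2.2.2))
    (z : Cj g d.z d.z) : d.Re (tot c).ap :=
  ⟨g, h.ra_ap a.t a.u (fun _ => a.a) (fun _ => a.b) (z.to h.ez.symm)⟩

theorem re_S0 (x : ℕ) {c : N4} (a : mu x 1 = mu c.1 x ∧ mu x 2 = mu c.2.1 x ∧ mu x 4 = mu c.2.2.1 x ∧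
    mu x 8 = mu c.2.2.2 x ∧ mu x 16 = mu 16 x) : d.Re (tot c).ap := by
  have k : ∀ {y y'}, mu x y = mu y' x → Cj (d.e x) (d.e y) (d.e y') := fun {y y'} e => by
    rw [Cj, mul_inv_eq_iff_eq_mul, ← h.e_mu, ← h.e_mu, e]
  exact h.re_tot ⟨h.et ▸ k a.1, h.eu ▸ k a.2.1, h.ea ▸ k a.2.2.1, h.eb ▸ k a.2.2.2.1⟩
    (h.ez ▸ k a.2.2.2.2)

theorem re_base : ∀ c ∈ base, d.Re c.ap := by
  have z : d.e 20 = d.a * d.z ∧ d.e 24 = d.b * d.z ∧ d.e 26 = d.u * d.z * d.b := by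
    rw [← h.ez, ← h.ea, ← h.eb, ← h.eu, ← h.e_mu, ← h.e_mu, ← h.e_mu, ← h.e_mu]
    exact ⟨rfl, rfl, rfl⟩
  simp only [base, List.forall_mem_cons]
  exact ⟨h.re_S0 8 (by decide +kernel), h.re_S0 4 (by decide +kernel),
    ⟨_, h.ra_ap (h.r2t.to h.et.symm) (h.u_sw ▸ (h.r2u.mul h.r2z).to z.2.2.symm) (by simp)
      (fun _ => h.r2b.to z.2.1.symm) (h.r2z.to h.eb.symm)⟩,
    ⟨_, h.ra_ap (h.r1t.to h.et.symm) (h.r1u.to h.eu.symm) (fun _ => h.r1a.to z.1.symm) (by simp)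
      (h.r1z.to h.ea.symm)⟩, by simp⟩

theorem re_ev {K : List Pm} (hK : ∀ c ∈ K, d.Re c.ap) (w : List ℕ) : d.Re (ev K w) := by
  induction w with
  | nil => exact ⟨1, fun v hv => ⟨hv, Cj.one' _⟩⟩
  | cons i w ih =>
    obtain ⟨k, hk⟩ := ih
    obtain ⟨g, hg⟩ : d.Re (getL (tot (1, 2, 4, 8)) K i).ap := by
      rw [getL_eq, List.getD_eq_getElem?_getD]
      cases e : K[i]? with
      | none => exact h.re_S0 0 (by decide +kernel)
      | some c => exact hK c (List.mem_of_getElem? e)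
    exact ⟨g * k, fun v hv => ⟨(hk v (hg _ hv).1).1, (hk v (hg _ hv).1).2.comp (hg _ hv).2⟩⟩

theorem not_bad (ε : d.Eps) {e1 : Bool} (h1 : e1 = true → d.E1) {No : List ℕ}
    (hN : ∀ y ∈ No, ¬ d.T (d.e y)) {f : ℕ → ℕ} (r : d.Re f) (hb : bad e1 No f = true) : False := by
  obtain ⟨g, r⟩ := r
  have c : ∀ {x v}, d.e v = x → f v < 32 → Cj g x (d.e (f v)) := fun e l => e ▸ (r _ l).2
  have m1 : ∀ {x v}, d.e v = x → f v < 32 ∧ ¬ tb (f v) 3 = true → g * x * g⁻¹ ∈ d.A1 :=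
    fun e l => rg_cm (c e l.1) (h.mem_A1.2 ⟨_, _, _, _, by rw [Dat.e, Bool.eq_false_iff.2 l.2]⟩)
  have m2 : ∀ {x v}, d.e v = x → f v < 32 ∧ ¬ tb (f v) 2 = true → g * x * g⁻¹ ∈ d.A2 :=
    fun e l => rg_cm (c e l.1) (h.mem_A2.2 ⟨_, _, _, _, by rw [Dat.e, Bool.eq_false_iff.2 l.2]⟩)
  simp only [bad, nb, nv, force_eq, Bool.or_eq_true, Bool.and_eq_true, anyL_iff, beq_iff, blt_iff,
    mem_iff, ← Bool.not_eq_true, Bool.not_eq_eq_eq_not, Bool.not_true] at hb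
  rcases hb with (a | ⟨v, a, b⟩) | ⟨t, a⟩
  · exact hN _ a.2 (d.T_t.cj (c h.et a.1))
  · have k := r v (by omega)
    rw [b, h.e0, Cj, conj_eq_one_iff, ← h.e0] at k
    rw [h.e_inj k.1 (by omega) k.2] at a
    simp at a
  have t1 : f 1 < 32 ∧ ¬ tb (f 1) 3 = true ∧ ¬ tb (f 1) 2 = true := by rw [t]; decide
  have ct : Cj g d.t d.t := (c h.et t1.1).to (by rw [t, h.et])
  rcases a with (⟨⟨⟨a, b⟩, c'⟩, n⟩ | ⟨⟨⟨⟨a, b⟩, c'⟩, l⟩, n⟩) | ⟨⟨⟨e, a⟩, b⟩, c'⟩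
  · obtain ⟨s1, s2⟩ := h.stab1 ε ct (mem_norm_closure (by
      rintro x (rfl | rfl | rfl | rfl)
      exacts [m1 h.et ⟨t1.1, t1.2.1⟩, m1 h.eu a, m1 h.ez b, m1 h.ea c']))
    have k : ∀ {x v}, d.e v = x → f v < 32 → x ∈ d.V1 →
        (¬ tb (f v) 0 = true ∧ ¬ tb (f v) 1 = true) ∧ ¬ tb (f v) 3 = true := fun e l m => by
      obtain ⟨_, _, q⟩ := h.mem_V1.1 ((c e l).mem s2 m)
      simp [h.el_inj q]
    exact n ⟨⟨h.e_inj a.1 (by omega) (((c h.eu a.1).unique s1).trans h.eu.symm),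
      k h.ez b.1 (subset_closure (by simp))⟩, k h.ea c'.1 (subset_closure (by simp))⟩
  · obtain ⟨s1, s2⟩ := h.stab2 ε ct (mem_norm_closure (by
      rintro x (rfl | rfl | rfl | rfl)
      exacts [m2 h.et ⟨t1.1, t1.2.2⟩, m2 h.eu a, m2 h.ez b, m2 h.eb c']))
    have k : ∀ {x v}, d.e v = x → f v < 32 → x ∈ d.V2 →
        (¬ tb (f v) 0 = true ∧ ¬ tb (f v) 1 = true) ∧ ¬ tb (f v) 2 = true := fun e l m => by
      obtain ⟨_, _, q⟩ := h.mem_V2.1 ((c e l).mem s2 m)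
      simp [h.el_inj q]
    have uz : d.e 18 = d.u * d.z := by rw [← h.ez, ← h.eu, ← h.e_mu]; rfl
    exact n ⟨⟨h.e_inj l (by omega) (((c uz l).unique s1).trans uz.symm),
      k h.ez b.1 (subset_closure (by simp))⟩, k h.eb c'.1 (subset_closure (by simp))⟩
  · refine h.noswap (h1 e) ct (map_le_iff_le_comap.2 ((closure_le _).2 ?_))
    rintro x (rfl | rfl | rfl | rfl)
    exacts [m2 h.et ⟨t1.1, t1.2.2⟩, m2 h.eu a, m2 h.ez b, m2 h.ea c']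

theorem tup (ε : d.Eps) (s : Bool) (h1 : s = true → d.E1) {g : G} (hg : g ∈ 𝐍[d.S0])
    (ha : g * d.a * g⁻¹ ∈ cond s d.A2 d.A1) (hb : g * d.b * g⁻¹ ∈ cond s d.A1 d.A2) :
    ∃ c ∈ cond s Ls Lp, c.1 < 32 ∧ d.Re (tot c).ap ∧ ∃ i j : Bool, d.Ac g (d.e c.1) (d.e c.2.1)
      (d.e c.2.2.1 * bp d.z i) (d.e c.2.2.2 * bp d.z j) := by
  obtain ⟨z, n, -⟩ := h.normS0' hg
  obtain ⟨i, j, m, et⟩ := h.mem_Z0.1 (conj_mem_of_mem_normalizer n (subset_closure (.inl rfl)))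
  obtain ⟨i', j', m', eu⟩ :=
    h.mem_Z0.1 (conj_mem_of_mem_normalizer n (subset_closure (.inr (.inl rfl))))
  have na : g * d.a * g⁻¹ ∉ d.Z0 := fun c => h.a_nA2 ((h.Z0_eq.le ((mem_normalizer_iff.1 n _).2 c)).2)
  have nb : g * d.b * g⁻¹ ∉ d.Z0 := fun c => h.b_nA1 ((h.Z0_eq.le ((mem_normalizer_iff.1 n _).2 c)).1)
  obtain ⟨⟨p, q, k, ea⟩, p', q', k', eb⟩ : (∃ p q k, g * d.a * g⁻¹ = d.el p q (!s) s k) ∧
      ∃ p q k, g * d.b * g⁻¹ = d.el p q s (!s) k := by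
    have k1 : ∀ x ∈ d.A1, x ∉ d.Z0 → ∃ p q k, x = d.el p q true false k := fun x a b => by
      obtain ⟨p, q, _ | _, k, e⟩ := h.mem_A1.1 a
      exacts [absurd (h.mem_Z0.2 ⟨_, _, _, e⟩) b, ⟨_, _, _, e⟩]
    have k2 : ∀ x ∈ d.A2, x ∉ d.Z0 → ∃ p q k, x = d.el p q false true k := fun x a b => by
      obtain ⟨p, q, _ | _, k, e⟩ := h.mem_A2.1 a
      exacts [absurd (h.mem_Z0.2 ⟨_, _, _, e⟩) b, ⟨_, _, _, e⟩]
    cases s
    exacts [⟨k1 _ ha na, k2 _ hb nb⟩, ⟨k2 _ ha na, k1 _ hb nb⟩]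
  have x0 : bp d.b k * bp d.a k' = d.el false false k' k (k && k') := by
    cases k <;> cases k' <;> simp [el, h.ba]
  have x : d.Ac (bp d.b k * bp d.a k') d.t d.u (d.a * bp d.z k) (d.b * bp d.z k') ∧
      Cj (bp d.b k * bp d.a k') d.z d.z := by
    rw [x0]
    refine ⟨⟨?_, ?_, ?_, ?_⟩, ?_⟩ <;> cases k <;> cases k' <;>
      simp only [Cj, bp_true, bp_false, mul_one, h.el_inv] <;>
      simp only [← h.et, ← h.eu, ← h.ea, ← h.eb, ← h.ez, e, h.el_mul] <;> rfl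
  have y : ∀ p q k l m, d.el p q k l m * bp d.z m = d.el p q k l false := fun p q k l m => by
    cases m <;> simp [el, mul_assoc, h.zz]
  have r : d.Re (tot (cnd s i j m i' j' m' p q p' q')).ap := h.re_tot (g := g * _) (by
    simp only [cnd, e_cd]
    exact x.1.comp et eu ((Cj.mul ea (z.bp k)).to (y ..)) ((Cj.mul eb (z.bp k')).to (y ..)))
    (x.2.comp z)
  rcases surv s i j m i' j' m' p q p' q' with c | c
  · obtain ⟨w, -, c⟩ := (anyL_iff _ _).1 c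
    exact (h.not_bad ε h1 (by simp) (h.re_ev (List.forall_mem_cons.2 ⟨r, h.re_base⟩) w) c).elim
  refine ⟨_, c, cd_lt .., r, k, k', ?_⟩
  simp only [cnd, e_cd]
  exact ⟨et, eu, ea.trans (by simp [el]), eb.trans (by simp [el])⟩

/-- Elements of `N⁺ = N(S₀) ⊓ N(A₁) ⊓ N(A₂)`. -/
theorem nplus (ε : d.Eps) {n : G} (hn : n ∈ 𝐍[d.S0] ⊓ 𝐍[d.A1] ⊓ 𝐍[d.A2]) :
    ∃ i j : Bool, ∃ p q : Bool,
      d.Ac n d.t d.u (d.a * bp d.z i) (d.b * bp d.z j) ∨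
      d.Ac n (d.t * d.u) d.u (d.a * bp d.z i) (d.b * bp d.u q * bp d.z j) ∨
      d.Ac n (d.t * d.z) d.u (d.a * bp d.u p * bp d.z i) (d.b * bp d.u q * bp d.z j) ∨
      d.Ac n (d.t * d.u * d.z) d.u (d.a * bp d.u p * bp d.z i) (d.b * bp d.z j) ∨
      d.Ac n d.u d.t (d.a * bp d.z i) (d.b * bp (d.t * d.u) q * bp d.z j) ∨
      d.Ac n (d.t * d.z) (d.u * d.z) (d.a * bp (d.t * d.u) p * bp d.z i)
        (d.b * bp (d.t * d.u) q * bp d.z j) ∨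
      d.Ac n (d.u * d.z) (d.t * d.z) (d.a * bp (d.t * d.u) p * bp d.z i) (d.b * bp d.z j) := by
  obtain ⟨c, hc, -, -, i, j, a⟩ := h.tup ε false (by simp) hn.1.1
    (conj_mem_of_mem_normalizer hn.1.2 h.a_A1) (conj_mem_of_mem_normalizer hn.2 h.b_A2)
  refine ⟨i, j, tb c.2.2.1 1, tb c.2.2.2 1, ?_⟩
  simp only [← h.et, ← h.eu, ← h.ez, ← h.ea, ← h.eb, ← h.e_mu, ← h.e_cond] at a ⊢
  simp only [cond_false, Lp, List.mem_cons, List.not_mem_nil, or_false] at hc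
  rcases hc with rfl | rfl | rfl | rfl | rfl | rfl | rfl | rfl | rfl | rfl | rfl | rfl | rfl | rfl |
    rfl | rfl | rfl
  · exact .inl a
  iterate 2 exact .inr (.inr (.inr (.inr (.inl a))))
  iterate 2 exact .inr (.inl a)
  iterate 4 exact .inr (.inr (.inl a))
  iterate 4 exact .inr (.inr (.inr (.inr (.inr (.inl a)))))
  iterate 2 exact .inr (.inr (.inr (.inr (.inr (.inr a)))))
  iterate 2 exact .inr (.inr (.inr (.inl a)))

theorem cand (ε : d.Eps) {e1 : Bool} (h1 : e1 = true → d.E1) (h2 : e1 = false → ∃ w, d.E2' w) {y : ℕ}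
    (l : y < 32) (hy : d.e y ∈ d.Z0) (t : d.T (d.e y)) : ∃ c ∈ cands e1 y, d.Re (tot c).ap := by
  have k : ∀ s : Bool, (s = true → e1 = true) → ∀ g ∈ 𝐍[d.S0], Cj g d.t (d.e y) →
      g * d.a * g⁻¹ ∈ cond s d.A2 d.A1 → g * d.b * g⁻¹ ∈ cond s d.A1 d.A2 →
      ∃ c ∈ cands e1 y, d.Re (tot c).ap := fun s hs g hg c ha hb => by
    obtain ⟨c', m, l', r, _, _, a⟩ := h.tup ε s (fun e => h1 (hs e)) hg ha hb
    refine ⟨c', List.mem_filter.2 ⟨?_, (beq_iff _ _).2 (h.e_inj l' l (a.t.unique c))⟩, r⟩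
    cases s
    exacts [List.mem_append_left _ m, List.mem_append_right _ (hs rfl ▸ m)]
  obtain ⟨g, hg, c⟩ := h.fuseZ ε t hy
  rcases (h.normS0' hg).2.2 with n | n
  · exact k false (by simp) g hg c (conj_mem_of_mem_normalizer n.1 h.a_A1)
      (conj_mem_of_mem_normalizer n.2 h.b_A2)
  have a : g * d.a * g⁻¹ ∈ d.A2 := n.1 ▸ conj_mem_cj g h.a_A1
  have b : g * d.b * g⁻¹ ∈ d.A1 := n.2 ▸ conj_mem_cj g h.b_A2
  cases e1
  · obtain ⟨w, e⟩ := h2 rfl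
    have uz := mul_mem d.u_S0 h.z_S0
    exact k false (by simp) _ (mul_mem hg (Ac.norm ⟨h.wt e.mem, rfl, e.a, e.b⟩ d.t_S0
      (e.u.elim (rg_cm · uz) (rg_cm · (mul_assoc d.t _ _ ▸ mul_mem d.t_S0 uz))) d.b_S0 d.a_S0))
      ((h.wt e.mem).comp c) (rg_cm (e.a.comp rfl) b) (rg_cm (e.b.comp rfl) a)
  · exact k true (by simp) g hg c a b

theorem frame (k : ℕ) : ∃ d', d.Fr d' (fr k).1 (fr k).2.1 (fr k).2.2 := by
  have e : ∀ x y, d.e (mu x y) = d.e x * d.e y := h.e_mu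
  match k with
  | 0 => exact ⟨d, h, rfl, rfl, rfl, h.et, h.ez, h.eu, h.ea, h.eb, id, fun _ => id⟩
  | 1 => exact ⟨d.tw, h.tw, rfl, rfl, rfl, h.et, h.ez, (e 1 2).trans congr($h.et * $h.eu), h.ea, h.eb, h.tw_E1,
      fun _ => h.tw_E2⟩
  | 2 => exact ⟨d.sw, h.sw, rfl, rfl, rfl, h.et, h.ez, (e 2 16).trans congr($h.eu * $h.ez), h.eb, h.ea, h.sw_E1,
      fun _ => h.sw_E2⟩
  | k + 3 =>
    rw [show fr (k + 3) = (19, 8, 4) from rfl]
    exact ⟨d.sw.tw, h.sw.tw, rfl, rfl, rfl, h.et, h.ez,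
      (e 1 (mu 2 16)).trans congr($h.et * $((e 2 16).trans congr($h.eu * $h.ez))), h.eb, h.ea,
      fun c => h.sw.tw_E1 (h.sw_E1 c), fun _ c => h.sw.tw_E2 (h.sw_E2 c)⟩

theorem five_dn {d' : Dat G} {u a b : ℕ} (F : d.Fr d' u a b) {e1 : Bool} (h1 : e1 = true → d.E1)
    (h3 : d.E1 ∨ ∃ w, d.E2 w) {No : List ℕ} (hN : ∀ y ∈ No, ¬ d.T (d.e y)) {f g : ℕ → ℕ}
    (rf : d.Re f) (rg : d.Re g) {k : ℕ} (c : dn e1 No u a b f g k = true) : d.Five := by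
  have T : d'.T = d.T := by funext y; rw [Dat.T, Dat.T, F.t0]
  have n : ∀ {y}, mem y No = true → ¬ d'.T (d.e y) := fun m => T ▸ hN _ (mem_iff.1 m)
  have ac : ∀ {f x0 x1 x2 x3}, d.Re f → isAc f u a b x0 x1 x2 x3 = true →
      ∃ g, d'.Ac g (d.e x0) (d.e x1) (d.e x2) (d.e x3) := fun {f x0 x1 x2 x3} ⟨g, r⟩ c => by
    simp only [isAc, Bool.and_eq_true, beq_iff, blt_iff, and_assoc] at c
    obtain ⟨rfl, rfl, rfl, rfl, c0, c1, c2, c3⟩ := c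
    exact ⟨g, F.t ▸ (r _ c0).2, F.u ▸ (r _ c1).2, F.a ▸ (r _ c2).2, F.b ▸ (r _ c3).2⟩
  have ε : d'.E1 ∨ ∃ w, d'.E2 w := h3.imp F.e1 fun ⟨w, e⟩ => ⟨w, F.e2 w e⟩
  refine ⟨d', F.cfg, F.X, F.S, F.t0, ?_⟩
  rcases k with _ | k
  · simp only [dn, Bool.and_eq_true, beq_iff, blt_iff, and_assoc] at c
    obtain ⟨c0, c1, c2, n1, n2, n3, n4, n5⟩ := c
    obtain ⟨g, r⟩ := rf
    have := And.intro (d'.T_t.cj (F.t ▸ (r 1 (c1 ▸ c2)).2))
      (⟨n n1, n n2, n n3, n n4, n n5⟩ : _ ∧ _ ∧ _ ∧ _ ∧ _)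
    simp only [c1, h.e_mu, F.t, F.u, F.z] at this
    exact .inl ⟨F.e1 (h1 c0), this.1, this.2.1, this.2.2.1, this.2.2.2.1, this.2.2.2.2.1,
      this.2.2.2.2.2⟩
  simp only [dn, Bool.and_eq_true, and_assoc] at c
  obtain ⟨n1, n2, n3, c⟩ := c
  have nt : d'.NT := ⟨F.z ▸ n n1, F.u ▸ n n2, by simpa only [h.e_mu, F.u, F.z] using n n3⟩
  rcases k with _ | _ | _ | _ | k <;> simp only [Bool.and_eq_true, and_assoc] at c
  · have := And.intro (ac rf c.1) (And.intro (n c.2.1) (n c.2.2))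
    simp only [h.e_mu, F.t, F.u, F.z, F.a, F.b] at this
    exact .inr (.inl ⟨nt, this.1, .inl ⟨this.2.1, this.2.2, ε⟩⟩)
  · have := And.intro (ac rf c.1) (ac rg c.2.2)
    simp only [h.e_mu, F.t, F.u, F.z, F.a, F.b] at this
    exact .inr (.inl ⟨nt, this.1, .inr ⟨F.e1 (h1 c.2.1), this.2⟩⟩)
  · have := And.intro (ac rf c.1) (ac rg c.2)
    simp only [h.e_mu, F.t, F.u, F.z, F.a, F.b] at this
    exact .inr (.inr (.inl ⟨nt, this.1, this.2, ε⟩))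
  · have := And.intro (ac rf c.1) (ac rg c.2)
    simp only [h.e_mu, F.t, F.u, F.z, F.a, F.b] at this
    exact .inr (.inr (.inr (.inl ⟨nt, this.1, this.2, ε⟩)))
  · have := And.intro (ac rf c.1) (ac rg c.2.1)
    simp only [h.e_mu, F.t, F.u, F.z, F.a, F.b] at this
    exact .inr (.inr (.inr (.inr ⟨nt, this.1, this.2, F.e1 (h1 c.2.2)⟩)))

theorem five_chk (ε : d.Eps) {e1 ok : Bool} (h1 : e1 = true → d.E1) (h2 : e1 = false → ∃ w, d.E2' w)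
    (h3 : ok = true → d.E1 ∨ ∃ w, d.E2 w) (h0 : ∃ y ∈ [0, 2, 3, 16, 17, 18, 19], d.T (d.e y))
    (t : Tr) : ∀ (K : List Pm) (No : List ℕ) (L : Option (List N4)), (∀ c ∈ K, d.Re c.ap) →
      (∀ y ∈ No, ¬ d.T (d.e y)) → (∀ l, L = some l → ∃ c ∈ l, d.Re (tot c).ap) →
      chk e1 ok t K No L = true → d.Five := by
  induction t with
  | bad w => exact fun K No L hK hN _ c => (h.not_bad ε h1 hN (h.re_ev hK w) c).elim
  | non =>
    intro K No L hK hN _ c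
    obtain ⟨y, a, b⟩ := h0
    exact (hN y (mem_iff.1 ((allL_iff _ _).1 c y a)) b).elim
  | done k f w w' =>
    intro K No L hK hN _ c
    obtain ⟨d', F⟩ := h.frame f
    rw [chk, Bool.and_eq_true] at c
    exact h.five_dn F h1 (h3 c.1) hN (h.re_ev hK w) (h.re_ev hK w') c.2
  | split y s r ih ih' =>
    intro K No L hK hN _ c
    simp only [chk, nb, force_eq, Bool.and_eq_true, blt_iff, Bool.not_eq_true'] at c
    by_cases t : d.T (d.e y)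
    · refine ih' K No _ hK hN ?_ c.2
      rintro _ ⟨⟩
      exact h.cand ε h1 h2 c.1.1.1.1 (h.mem_Z0.2 ⟨_, _, _, by rw [e, c.1.1.1.2, c.1.1.2.2]⟩) t
    · exact ih K _ _ hK (List.forall_mem_cons.2 ⟨t, hN⟩) (by simp) c.1.2
  | nil => rintro K No (_ | _ | _) hK hN hL c <;> simp_all [chk]
  | cons s r ih ih' =>
    rintro K No (_ | _ | ⟨x, L⟩) hK hN hL c
    · simp [chk] at c
    · simp [chk] at c
    rw [chk, Bool.and_eq_true] at c
    by_cases t : d.Re (tot x).ap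
    · exact ih _ _ _ (List.forall_mem_cons.2 ⟨t, hK⟩) hN (by simp) c.1
    · refine ih' K No _ hK hN ?_ c.2
      rintro _ ⟨⟩
      simpa [t] using hL _ rfl

/-- The reduction to five configurations. -/
theorem types (ε : d.Eps) : SR 4 d.X ∨ ∃ d' : Dat G, d'.Cfg ∧ d'.X = d.X ∧ d'.S = d.S ∧
    d'.t = d.t ∧ (d'.CB ∨ d'.CN ∨ d'.CI ∨ d'.CII ∨ d'.CIII) := by
  refine or_iff_not_imp_left.2 fun ns => ?_
  obtain ⟨n, n1, n2⟩ : ∃ n ∈ 𝐍[d.S], ¬ Cj n d.t d.t := by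
    by_contra! c
    exact ns (((h.sr_S ε).mono inf_le_left).syl (h.sylX ⟨le_top, h.pS, fun R hR l _ =>
      (eq_of_inf_normalizer_le hR l fun n hn => h.regS hR l hn.1 (c n hn.2)).ge⟩))
  have k : ∀ B, B = d.A1 ∨ B = d.A2 → ∀ x ∈ B, n * x * n⁻¹ ∈ d.S0 := fun B hB x hx => by
    have := conj_mem_cj n hx
    rcases h.cj_A ε hB (cj_le_of_mem_normalizer
      ((hB.elim (· ▸ h.A1_le) (· ▸ h.A2_le)).trans h.le) n1) with k | k <;> rw [k] at this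
    exacts [h.A1_le this, h.A2_le this]
  have n0 : n ∈ 𝐍[d.S0] := mem_norm_closure (by
    rintro x (rfl | rfl | rfl | rfl)
    exacts [k _ (.inl rfl) _ h.t_A1, k _ (.inl rfl) _ h.u_A1, k _ (.inl rfl) _ h.a_A1,
      k _ (.inr rfl) _ h.b_A2])
  obtain ⟨i, j, m, et⟩ := h.mem_Z0.1
    (conj_mem_of_mem_normalizer (h.normS0' n0).2.1 (subset_closure (.inl rfl)))
  have h0 : ∃ y ∈ [0, 2, 3, 16, 17, 18, 19], d.T (d.e y) := by
    refine ⟨cd i j false false m, ?_, d.T_t.cj (et.trans (d.e_cd ..).symm)⟩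
    cases i <;> cases j <;> cases m <;> first | decide | exact absurd (et.trans h.el_t.symm) n2
  rcases id ε with e | ⟨w, e⟩
  · exact h.five_chk ε (fun _ => e) (by simp) (fun _ => .inl e) h0 _ _ _ _ h.re_base (by simp)
      (by simp) chk0
  have k : ∀ x, Cj w d.u (d.e x) → ∀ c ∈ tot (1, x, 8, 4) :: base, d.Re c.ap := fun x c =>
    List.forall_mem_cons.2 ⟨h.re_tot ⟨(h.wt e.mem).to h.et.symm, c, e.a.to h.eb.symm,
      e.b.to h.ea.symm⟩ (h.cz_sw e.a e.b), h.re_base⟩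
  rcases e.u with c | c
  · exact h.five_chk ε (by simp) (fun _ => ⟨w, e⟩)
      (fun _ => .inr ⟨w, e.mem, e.cov, e.a, e.b, c, e.ww⟩) h0 _ _ _ _
      (k 18 (c.to (by rw [← h.eu, ← h.ez, ← h.e_mu]; rfl))) (by simp) (by simp) chk1
  · exact h.five_chk ε (by simp) (fun _ => ⟨w, e⟩) (by simp) h0 _ _ _ _
      (k 19 (c.to (by rw [← h.et, ← h.eu, ← h.ez, ← h.e_mu, ← h.e_mu]; rfl))) (by simp) (by simp) chk2

end Dat.Cfg

end Cfsg.Agent.HSD
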