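import Mathlib
import Cfsg.Agent.HSD.Pc
import Cfsg.Agent.Transfer.ThompsonExtremal
import Cfsg.Agent.S3187
import Cfsg.Agent.S0246
import Cfsg.Agent.Class.Sp.Gen
import Cfsg.Agent.Class.LinearBasic

/-! Generic lemmas for `HSD/*` (transfer, Frattini lemmas, odd elements on flags). -/

set_option autoImplicit false
set_option linter.unusedSectionVars false
set_option linter.unusedVariables false

namespace Cfsg.Agent.HSD

open Cfsg Subgroup Cfsg.Agent.PLocal Cfsg.Agent.PLocal.Amb Cfsg.Agent.MacW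

variable {G : Type*} [Group G] [Finite G]

/-- the value of the transfer at an involution -/
theorem xfer0 {P R : Subgroup G} (hP : IsSyl 2 P ⊤) {A : Type*} [CommGroup A]
    (φ : P →* A) {u : G} (uu : u * u = 1) (hR : IsPGroup 2 R) (hRu : ∀ r ∈ R, r * u = u * r) (c : A)
    (h : ∀ g, ∀ hg : g * u * g⁻¹ ∈ P, cj(g, R) ≤ P → φ ⟨_, hg⟩ = c) :
    MonoidHom.transfer φ u = c := by
  classical
  let _ := P.fintypeQuotientOfFiniteIndex
  let ψ : G → A := fun x => if h : x ∈ P then φ ⟨x, h⟩ else 1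
  have ψe : ∀ x (hx : x ∈ P), φ ⟨x, hx⟩ = ψ x := fun x hx => by simp only [ψ, dif_pos hx]
  have ψm : ∀ x ∈ P, ∀ y ∈ P, ψ (x * y) = ψ x * ψ y := fun x hx y hy => by
    rw [← ψe _ hx, ← ψe _ hy, ← ψe _ (mul_mem hx hy), ← map_mul]; rfl
  have ψ1 : ψ 1 = 1 := (ψe _ (one_mem _)).symm.trans (map_one φ)
  have ui : u⁻¹ = u := inv_eq_of_mul_eq_one_right uu
  have us : ∀ q : G ⧸ P, u • u • q = q := fun q => by rw [smul_smul, uu, one_smul]
  let f : G ⧸ P → A := fun q => ψ (q.out⁻¹ * (u * (u • q).out))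
  have fm : ∀ q : G ⧸ P, q.out⁻¹ * (u * (u • q).out) ∈ P := fun q => by
    rw [← QuotientGroup.eq, ← smul_eq_mul, MulAction.Quotient.coe_smul_out, us, QuotientGroup.out_eq']
  have e : MonoidHom.transfer φ u = ∏ q, f q := by
    rw [MonoidHom.transfer_def φ ⟨_, isComplement_range_left QuotientGroup.out_eq'⟩]
    refine Finset.prod_congr rfl fun q _ => ?_
    rw [ψe, smul_apply_eq_smul_apply_inv_smul, IsComplement.leftQuotientEquiv_apply QuotientGroup.out_eq',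
      IsComplement.leftQuotientEquiv_apply QuotientGroup.out_eq', ui, smul_eq_mul]
  have f2 : ∀ q, f q * f (u • q) = 1 := fun q => by
    rw [← ψm _ (fm q) _ (fm _), us, ← ψ1]
    congr 1
    rw [mul_assoc, mul_assoc, mul_inv_cancel_left, ← mul_assoc u, uu, one_mul, inv_mul_cancel]
  have inv : ∀ t ∈ R, ∀ q : G ⧸ P, u • q = q → u • t • q = t • q ∧ f (t • q) = f q := fun t ht q hq => by
    have h1 : u • t • q = t • q := by rw [smul_smul, ← hRu t ht, mul_smul, hq]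
    obtain ⟨p, hp⟩ := QuotientGroup.mk_out_eq_mul P (t * q.out)
    rw [← smul_eq_mul, MulAction.Quotient.coe_smul_out, smul_eq_mul] at hp
    have h2 := fm q
    refine ⟨h1, ?_⟩
    simp only [f, h1, hq, hp] at h2 ⊢
    rw [show (t * q.out * p)⁻¹ * (u * (t * q.out * p)) = (p : G)⁻¹ * (q.out⁻¹ * (t⁻¹ * (u * t) * q.out)) * p by group,
      ← hRu t ht, inv_mul_cancel_left, ψm _ (mul_mem (inv_mem p.2) h2) _ p.2, ψm _ (inv_mem p.2) _ h2,
      mul_right_comm, ← ψm _ (inv_mem p.2) _ p.2, inv_mul_cancel, ψ1, one_mul]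
  have fx : ∀ q : G ⧸ P, u • q = q → (∀ t ∈ R, t • q = q) → f q = c := fun q h1 h2 => by
    have := h q.out⁻¹ (by simpa using Transfer.smul_quot_eq_iff.1 h1) (cj_le_iff_forall.2 fun t ht => by
      simpa using Transfer.smul_quot_eq_iff.1 (h2 t ht))
    rw [ψe, inv_inv, mul_assoc] at this
    simp only [f, h1, this]
  have hFo : Odd (Nat.card {q : G ⧸ P | u • q = q}) := by
    have h3 := Transfer.Semireg.card_modEq_of_invariant (p := 2) (P := zpowers u)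
      (isPGroup_zpowers ⟨1, by rw [pow_one, sq, uu]⟩) (Set.univ : Set (G ⧸ P)) (fun _ _ _ _ => Set.mem_univ _)
    have h4 : Nat.card {x : G ⧸ P // x ∈ Set.univ ∧ ∀ g ∈ zpowers u, g • x = x} =
        Nat.card {q : G ⧸ P | u • q = q} := Nat.card_congr (Equiv.subtypeEquivRight fun x =>
      ⟨fun h5 => h5.2 u (mem_zpowers u), fun h5 => ⟨trivial, fun g hg => smul_eq_self_of_mem_zpowers hg h5⟩⟩)
    have h5 := hP.not_dvd_relIndex
    rw [h4, Nat.card_univ, ← index_eq_card] at h3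
    rw [relIndex_top_right] at h5
    rw [Nat.odd_iff, ← h3]; omega
  obtain ⟨x, hx, hx'⟩ := Transfer.Semireg.exists_fixed_of_invariant hR {q : G ⧸ P | u • q = q}
    (fun t ht q hq => (inv t ht q hq).1) hFo.not_two_dvd_nat
  have cc : c * c = 1 := by have := f2 x; rwa [hx, fx x hx hx'] at this
  have h1 : ∏ q with u • q = q, f q * c = 1 := by
    refine Finset.prod_cancels_of_partition_cancels (Setoid.ker f) fun q hq => ?_
    refine (Finset.prod_eq_pow_card (b := f q * c) fun a ha =>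
      congrArg (· * c) (Finset.mem_filter.1 ha).2).trans ?_
    by_cases k : f q = c
    · rw [(congrArg (· * c) k).trans cc, one_pow]
    have : 2 ∣ Nat.card {a : G ⧸ P | u • a = a ∧ f a = f q} := by_contra fun hd => by
      obtain ⟨y, hy, hy'⟩ := Transfer.Semireg.exists_fixed_of_invariant hR {a : G ⧸ P | u • a = a ∧ f a = f q}
        (fun t ht a ha => ⟨(inv t ht a ha.1).1, (inv t ht a ha.1).2.trans ha.2⟩) hd
      exact k (hy.2.symm.trans (fx y hy.1 hy'))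
    obtain ⟨n, hn⟩ := this
    rw [Nat.card_eq_card_toFinset, Set.toFinset_ofPred, ← Finset.filter_filter] at hn
    have h2 := f2 q
    rw [(Finset.mem_filter.1 hq).2] at h2
    refine Eq.trans (congrArg _ hn) ?_
    rw [pow_mul, sq, mul_mul_mul_comm, h2, cc, one_mul, one_pow]
  rw [Nat.card_eq_card_toFinset, Set.toFinset_ofPred] at hFo
  obtain ⟨n, hn⟩ := hFo
  rw [Finset.prod_mul_distrib, Finset.prod_const, hn, pow_succ, pow_mul, sq, cc, one_pow, one_mul] at h1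
  rw [e, ← Finset.prod_filter_mul_prod_filter_not Finset.univ fun q => u • q = q,
    Finset.prod_involution (s := Finset.univ.filter fun q => ¬ u • q = q) (fun q _ => u • q) (fun q _ => f2 q)
      (fun q hq _ => (Finset.mem_filter.1 hq).2) (fun q hq => Finset.mem_filter.2 ⟨Finset.mem_univ _, fun k =>
        (Finset.mem_filter.1 hq).2 (MulAction.injective u k)⟩) fun q _ => us q, mul_one]
  exact (eq_inv_of_mul_eq_one_left h1).trans (inv_eq_of_mul_eq_one_right cc)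

/-- Extremal transfer into an abelian quotient. -/
theorem xfer {L P R : Subgroup G} (hL : ⁅L, L⁆ = L) (hP : IsSyl 2 P L) {A : Type*} [CommGroup A]
    (φ : P →* A) {u : G} (hu : u ∈ L) (uu : u * u = 1) (hR : IsPGroup 2 R) (hRL : R ≤ L)
    (hRu : ∀ r ∈ R, r * u = u * r) (c : A)
    (h : ∀ g ∈ L, ∀ hg : g * u * g⁻¹ ∈ P, cj(g, R) ≤ P → φ ⟨_, hg⟩ = c) : c = 1 := by
  obtain ⟨S, hS⟩ := hP.exists_sylow
  rw [← xfer0 (hS ▸ isSyl_top S) (φ.comp (subgroupOfEquivOfLe hP.le).toMonoidHom) (u := ⟨u, hu⟩) (Subtype.ext uu)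
    (Amb.isPGroup_subgroupOf hR L) (fun r hr => Subtype.ext (hRu r hr)) c fun g hg hc => h g g.2 hg
      (cj_le_iff_forall.2 fun r hr => cj_le_iff_forall.1 hc ⟨r, hRL hr⟩ hr)]
  refine Abelianization.commutator_subset_ker _ (mem_map_subtype.1 ?_)
  rwa [map_subtype_commutator, hL]

/-- If `M / C(P)` is a `2`-group, every element of `M` acts on `P` as an element of a Sylow
subgroup of `M`. -/
theorem two_lift0 {P M T : Subgroup G} (hC : 𝐂[P] ≤ M) (hM : M ≤ 𝐍[P])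
    (h2 : ∀ g ∈ M, Odd (orderOf g) → g ∈ 𝐂[P]) (hT : IsSyl 2 T M) {g : G} (hg : g ∈ M) :
    ∃ s ∈ T, g * s⁻¹ ∈ 𝐂[P] := by
  rw [← hT.sup_eq_of_pRes_le (pRes_le_iff.2 fun g hg hc => h2 g hg (Nat.coprime_two_right.1 hc)) hC] at hg
  obtain ⟨c, hc, s, hs, rfl⟩ := (mem_sup_of_le_normalizer_left (le_normalizer_centralizer (hT.le.trans hM))).1 hg
  exact ⟨s, hs, by rwa [mul_inv_cancel_right]⟩

theorem two_lift {P M R : Subgroup G} (hC : 𝐂[P] ≤ M) (hM : M ≤ 𝐍[P])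
    (h2 : ∀ g ∈ M, Odd (orderOf g) → g ∈ 𝐂[P]) (hR : IsPGroup 2 R) (hRM : R ≤ M) :
    ∃ T, IsSyl 2 T M ∧ R ≤ T ∧ ∀ g ∈ M, ∃ s ∈ T, g * s⁻¹ ∈ 𝐂[P] := by
  obtain ⟨T, h3, h4⟩ := exists_isSyl_ge hR hRM
  exact ⟨T, h3, h4, fun g => two_lift0 hC hM h2 h3⟩

/-- a `2`-subgroup `Q` of `M` is conjugate into the Sylow subgroup `T` by an element of `C(P)` -/
theorem two_join {P M T Q : Subgroup G} (hC : 𝐂[P] ≤ M) (hM : M ≤ 𝐍[P])
    (h2 : ∀ g ∈ M, Odd (orderOf g) → g ∈ 𝐂[P]) (hT : IsSyl 2 T M) (hQ : IsPGroup 2 Q)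
    (hQM : Q ≤ M) : ∃ o ∈ 𝐂[P], cj(o, Q) ≤ T := by
  obtain ⟨g, hg, h3⟩ := hT.exists_le_cj hQ hQM
  obtain ⟨s, hs, h4⟩ := two_lift0 hC hM h2 hT hg
  refine ⟨_, inv_mem h4, cj_le_iff.2 ?_⟩
  rwa [inv_inv, cj_mul, cj_of_mem (inv_mem hs)]

/-- an element of odd order fixing `x` modulo a fixed `2`-element fixes `x` -/
theorem odd_step {g x n : G} (hg : Odd (orderOf g)) (h1 : Cj g x (x * n)) (h2 : Cj g n n)
    {k : ℕ} (hn : n ^ 2 ^ k = 1) : Cj g x x := by
  have h3 : ∀ m : ℕ, Cj (g ^ m) x (x * n ^ m) := fun m => by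
    induction m with
    | zero => simpa using Cj.one' x
    | succ m ih => rw [pow_succ' g, pow_succ' n, ← mul_assoc]; exact ih.comp (h1.mul (h2.pow m))
  have h4 := h3 (2 ^ k)
  rw [hn, mul_one] at h4
  exact Cj.of_comm (mem_centralizer_singleton_iff.1 (mem_of_pow_mem_of_coprime
    (mem_centralizer_singleton_iff.2 h4.comm) ((Nat.coprime_two_right.2 hg).pow_right k)))

/-- flags: an element of odd order normalizing `P ≤ P'`, `|P' : P| ≤ 2`, and centralizing `P`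
centralizes `P'` -/
theorem odd_flag {g : G} (hg : Odd (orderOf g)) {P P' : Subgroup G} (hP : IsPGroup 2 P')
    (hle : P ≤ P') (hi : Nat.card P' ≤ 2 * Nat.card P) (hn : g ∈ 𝐍[P']) (hc : g ∈ 𝐂[P]) :
    g ∈ 𝐂[P'] := fun x hx => by
  by_cases h1 : x ∈ P
  · exact hc x h1
  have h2 : (P.subgroupOf P').index = 2 := by
    have a := (P.subgroupOf P').index_mul_card
    rw [Nat.card_congr (subgroupOfEquivOfLe hle).toEquiv] at a
    have b : (P.subgroupOf P').index ≤ 2 := Nat.le_of_mul_le_mul_right (a.trans_le hi) Nat.card_pos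
    have c : (P.subgroupOf P').index ≠ 1 := fun e => h1 (subgroupOf_eq_top.1 (index_eq_one.1 e) hx)
    have := (P.subgroupOf P').index_ne_zero_of_finite
    omega
  have h3 : x⁻¹ * (g * x * g⁻¹) ∈ P := (mul_mem_iff_of_index_two h2 (a := ⟨_, inv_mem hx⟩)
    (b := ⟨_, conj_mem_of_mem_normalizer hn hx⟩)).2 (iff_of_false (fun k => h1 (inv_mem_iff.1 k)) fun k =>
      h1 ((mem_normalizer_iff.1 (centralizer_le_normalizer' P hc) x).2 k))
  obtain ⟨k, hk⟩ := isPGroup_iff.1 hP _ (hle h3)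
  exact (odd_step hg (mul_inv_cancel_left _ _).symm (Cj.of_comm (hc _ h3).symm) hk).comm.symm

/-- every element has an odd power which is a `2`-element -/
theorem exists_two_part (g : G) : ∃ m k : ℕ, Odd m ∧ (g ^ m) ^ 2 ^ k = 1 := by
  obtain ⟨k, m, h1, h2⟩ := Nat.exists_eq_two_pow_mul_odd (orderOf_pos g).ne'
  exact ⟨m, k, h1, by rw [← pow_mul, mul_comm, ← h2, pow_orderOf_eq_one]⟩

/-- every element has a power of odd order with exponent `≡ 1 mod 3` -/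
theorem exists_odd_part (g : G) : ∃ k : ℕ, Odd (orderOf (g ^ 4 ^ k)) := by
  obtain ⟨k, hk⟩ := exists_pow_coprime (p := 2) g
  refine ⟨k, (Nat.coprime_two_right.1 hk).of_dvd_nat ?_⟩
  rw [show 4 ^ k = 2 ^ k * 2 ^ k from mul_pow 2 2 k, pow_mul]
  exact orderOf_pow_dvd _

/-- a `2`-element normalizing a `2`-group generates a `2`-group with it -/
theorem two_sup {P : Subgroup G} (hP : IsPGroup 2 P) {g : G} (hn : g ∈ 𝐍[P]) {k : ℕ}
    (hg : g ^ 2 ^ k = 1) : IsPGroup 2 ↥(P ⊔ zpowers g) := by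
  rw [sup_comm]
  exact isPGroup_sup (isPGroup_zpowers ⟨k, hg⟩) hP (zpowers_le.2 hn)

/-- Frattini lemma for layers: `F / C(A)` is a `2`-group normalized by `r`, `R`; `v ∈ R` inverts
`r` modulo `C(A)`. -/
theorem LQ {A F R : Subgroup G} (hA : IsSyl 2 A (A ⊔ 𝐂[A])) (hAF : A ≤ F) (hCF : 𝐂[A] ≤ F)
    (hFN : F ≤ 𝐍[A])
    (hF : ∀ g ∈ F, ∃ k : ℕ, g ^ 2 ^ k ∈ 𝐂[A]) (hR : IsPGroup 2 R) (hAR : A ≤ R) (hRA : R ≤ 𝐍[A])
    (hRF : R ≤ 𝐍[F]) {r v : G} (hrA : r ∈ 𝐍[A]) (hrF : r ∈ 𝐍[F]) (hv : v ∈ R) (vv : v * v = 1)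
    (hvr : v * r * v * r ∈ 𝐂[A]) (h3 : r ^ 3 ∈ 𝐂[A]) :
    ∃ (Q : Subgroup G) (ρ : G), IsSyl 2 Q F ∧ R ⊓ F ≤ Q ∧ R ≤ 𝐍[Q] ∧ Q ⊓ 𝐂[A] ≤ A ∧
      (∀ g ∈ F, ∃ q ∈ Q, g * q⁻¹ ∈ 𝐂[A]) ∧ ρ ∈ 𝐍[Q] ∧ ρ * r⁻¹ ∈ 𝐂[A] ∧ v * ρ * v * ρ = 1 ∧
      ρ ^ 3 ∈ 𝐂[Q] ∧ Odd (orderOf ρ) := by
  obtain ⟨P, hP, hRP⟩ := exists_isSyl_ge hR (le_sup_left : R ≤ R ⊔ F)
  have hQ := hP.inf_of_le le_sup_right (sup_le hRF le_normalizer)
  have h1 : R ⊓ F ≤ P ⊓ F := inf_le_inf_right _ hRP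
  have h2 : R ≤ 𝐍[P ⊓ F] := le_normalizer_inf (hRP.trans le_normalizer) hRF
  generalize P ⊓ F = Q at hQ h1 h2
  have h4 : Q ⊓ 𝐂[A] ≤ A := hA.le_of_normalizes (hQ.pgrp.to_le inf_le_left) (inf_le_right.trans le_sup_right)
    (inf_le_right.trans (centralizer_le_normalizer' A))
  have h5 : ∀ g ∈ F, ∃ q ∈ Q, g * q⁻¹ ∈ 𝐂[A] := fun g => two_lift0 hCF hFN (fun g hg ho =>
    (hF g hg).elim fun k hk => mem_of_pow_mem_of_coprime hk ((Nat.coprime_two_right.2 ho).pow_right k)) hQ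
  obtain ⟨n, nQ, nA, nr⟩ : ∃ n ∈ 𝐍[Q], n ∈ 𝐍[A] ∧ r * n⁻¹ ∈ 𝐂[A] := by
    obtain ⟨f, hf, m, hm, rfl⟩ := hQ.frattini hrF
    obtain ⟨q, hq, k⟩ := h5 f hf
    exact ⟨q * m, mul_mem (le_normalizer hq) hm, mul_mem (hFN (hQ.le hq)) ((mul_mem_cancel_left (hFN hf)).1 hrA),
      by rwa [mul_inv_rev, mul_assoc, mul_inv_cancel_left]⟩
  obtain ⟨k, hk⟩ := exists_odd_part (n⁻¹ * (v * n * v))
  have vi : v⁻¹ = v := inv_eq_of_mul_eq_one_right vv
  have ker : ∀ g : 𝐍[A], A.normalizerMonoidHom g = 1 ↔ (g : G) ∈ 𝐂[A] := fun g => by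
    rw [← MonoidHom.mem_ker, normalizerMonoidHom_ker, mem_subgroupOf]
  have key : (n⁻¹ * (v * n * v)) ^ 4 ^ k * r⁻¹ ∈ 𝐂[A] ∧ ((n⁻¹ * (v * n * v)) ^ 4 ^ k) ^ 3 ∈ 𝐂[A] := by
    lift r to 𝐍[A] using hrA
    lift n to 𝐍[A] using nA
    lift v to 𝐍[A] using hRA hv
    norm_cast at nr hvr h3 ⊢
    simp only [← ker, map_mul, map_inv, map_pow] at nr hvr h3 ⊢
    rw [← mul_inv_eq_one.1 nr, eq_inv_of_mul_eq_one_left hvr]
    generalize A.normalizerMonoidHom r = x at h3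
    have a : x⁻¹ * x⁻¹ = x := by rw [← mul_inv_rev, inv_eq_iff_mul_eq_one, ← h3, pow_three']
    have b : x ^ 4 ^ k = x := by
      rw [pow_eq_pow_mod _ h3, Nat.pow_mod]; simp
    rw [a, b, h3, mul_inv_cancel]
    exact ⟨rfl, rfl⟩
  have h6 : (n⁻¹ * (v * n * v)) ^ 4 ^ k ∈ 𝐍[Q] :=
    pow_mem (mul_mem (inv_mem nQ) (mul_mem (mul_mem (h2 hv) nQ) (h2 hv))) _
  refine ⟨Q, _, hQ, h1, h2, h4, h5, h6, key.1, ?_, fun q hq => ?_, hk⟩
  · have : Cj v (n⁻¹ * (v * n * v)) (n⁻¹ * (v * n * v))⁻¹ := by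
      simp only [Cj, mul_inv_rev, vi, inv_inv, mul_assoc, vv, mul_one]
    have := this.pow (4 ^ k)
    rw [Cj, vi] at this
    rw [this, inv_pow, inv_mul_cancel]
  · generalize (n⁻¹ * (v * n * v)) ^ 4 ^ k = ρ at key h6 hk
    have a : q⁻¹ * (ρ ^ 3 * q * (ρ ^ 3)⁻¹) ∈ Q := mul_mem (inv_mem hq) (conj_mem_of_mem_normalizer (pow_mem h6 3) hq)
    have b := h4 ⟨a, by
      rw [← mul_assoc, ← mul_assoc]
      exact (𝐂[A]).mul_mem (inv_conj_mem_of_mem_normalizer (normalizer_le_normalizer_centralizer A (hFN (hQ.le hq))) key.2)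
        ((𝐂[A]).inv_mem key.2)⟩
    obtain ⟨j, hj⟩ := isPGroup_iff.1 hQ.pgrp _ a
    exact (odd_step (hk.of_dvd_nat (orderOf_pow_dvd 3)) (mul_inv_cancel_left _ _).symm
      (Cj.of_comm (key.2 _ b).symm) hj).comm.symm

theorem syl_card (P : Sylow 2 G) {n m : ℕ} (h : Nat.card G = 2 ^ n * m) (hm : ¬ 2 ∣ m) :
    Nat.card (P : Subgroup G) = 2 ^ n := by
  rw [P.card_eq_multiplicity, h, Nat.factorization_mul (by positivity) fun e => hm (by simp [e])]
  simp [Nat.factorization_eq_zero_of_not_dvd hm, Nat.prime_two.factorization_self]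

theorem twoEA0 [IsSimpleGroup G] (hn : ¬ IsMulCommutative G) (P : Sylow 2 G) {A B : Subgroup G}
    (hA : A ≤ P) (hB : B ≤ P) (A2 : ∀ x ∈ A, x * x = 1)
    (B2 : ∀ x ∈ B, x * x = 1) (hi : ∀ y ∈ (P : Subgroup G), y * y = 1 → y ∈ A ∨ y ∈ B)
    (hp : ∀ y ∈ (P : Subgroup G), ∃ a ∈ A, ∃ b ∈ B, y = a * b) (iA : Nat.card (P : Subgroup G) = 4 * Nat.card A)
    (iB : Nat.card (P : Subgroup G) = 4 * Nat.card B) :
    Nat.card (P : Subgroup G) = 64 ∨ (Nat.card (P : Subgroup G) = 256 ∧ ∃ (F : Type) (_ : Field F) (_ : Fintype F),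
      Fintype.card F = 4 ∧ Nonempty (G ≃* PSp 2 F)) := by
  have nle : ∀ X : Subgroup G, Nat.card (P : Subgroup G) = 4 * Nat.card X → ¬ (P : Subgroup G) ≤ X := fun X e k => by
    have := card_le_of_le k
    have : 0 < Nat.card X := Nat.card_pos
    omega
  have AB : ¬ A ≤ B := fun k => nle B iB fun y hy => by
    obtain ⟨a, ha, b, hb, rfl⟩ := hp y hy
    exact mul_mem (k ha) hb
  have BA : ¬ B ≤ A := fun k => nle A iA fun y hy => by
    obtain ⟨a, ha, b, hb, rfl⟩ := hp y hy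
    exact mul_mem ha (k hb)
  have ea : ∀ X : Subgroup G, (∀ x ∈ X, x * x = 1) → IsElementaryAbelian 2 (X.subgroupOf P) := fun X hX =>
    ⟨⟨⟨fun a b => Subtype.ext (Subtype.ext ((fun a b ha hb => by
      rw [← inv_eq_of_mul_eq_one_right (hX _ (mul_mem ha hb)), mul_inv_rev,
        inv_eq_of_mul_eq_one_right (hX _ ha), inv_eq_of_mul_eq_one_right (hX _ hb)] :
        ∀ a b, a ∈ X → b ∈ X → a * b = b * a) _ _ a.2 b.2))⟩⟩,
      fun a ha => Subtype.ext ((sq _).trans (hX a ha))⟩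
  have un : ∀ C : Subgroup (P : Subgroup G), IsElementaryAbelian 2 C → C ≤ A.subgroupOf P ∨ C ≤ B.subgroupOf P :=
    fun C hC => by
      have k : ∀ c ∈ C, c ∈ A.subgroupOf P ∨ c ∈ B.subgroupOf P := fun c hc =>
        hi c c.2 ((sq _).symm.trans (congrArg Subtype.val (hC.2 c hc)))
      refine or_iff_not_imp_left.2 fun h1 d hd => by_contra fun h2 => h1 fun c hc => by_contra fun h3 => ?_
      exact (k _ (mul_mem hc hd)).elim (fun e => h3 ((mul_mem_cancel_right ((k d hd).resolve_right h2)).1 e))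
        fun e => h2 ((mul_mem_cancel_left ((k c hc).resolve_left h3)).1 e)
  have sub : ∀ {X Y : Subgroup G}, X ≤ P → X.subgroupOf P ≤ Y.subgroupOf P → X ≤ Y := fun h1 h2 x hx =>
    h2 (x := ⟨x, h1 hx⟩) hx
  have ns : ∀ X Y : Subgroup G, ¬ X ≤ Y → X ≤ P → Nat.card (P : Subgroup G) = 4 * Nat.card X →
      ¬ ∃ R : Sylow 2 (normalClosure (X : Set G)),
      (R : Subgroup (normalClosure (X : Set G))).map (normalClosure (X : Set G)).subtype = X :=
    fun X Y h1 h2 h3 ⟨R, hR⟩ => by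
      have k := isSyl_map_subtype R
      rw [hR, (inferInstance : (normalClosure (X : Set G)).Normal).eq_bot_or_eq_top.resolve_left
        fun e => h1 ((le_normalClosure.trans e.le).trans bot_le)] at k
      exact nle X h3 (k.max _ P.2 h2 le_top)
  have i4 : (A.subgroupOf P).index = 4 := by
    have a := (A.subgroupOf P).index_mul_card
    rw [Nat.card_congr (subgroupOfEquivOfLe hA).toEquiv, iA] at a
    exact Nat.eq_of_mul_eq_mul_right Nat.card_pos a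
  rcases S3187.result P (A.subgroupOf P) (B.subgroupOf P) (fun e => AB (sub hA e.le))
    ⟨ea A A2, fun C hC k => le_antisymm ((un C hC).resolve_right fun e => AB (sub hA (k.trans e))) k⟩
    ⟨ea B B2, fun C hC k => le_antisymm ((un C hC).resolve_left fun e => BA (sub hB (k.trans e))) k⟩
    (fun C hC hm => (un C hC).imp (fun k => (hm _ (ea A A2) k).symm) fun k => (hm _ (ea B B2) k).symm)
    (fun s => by
      obtain ⟨a, ha, b, hb, e⟩ := hp s s.2
      exact ⟨⟨a, hA ha⟩, ha, ⟨b, hB hb⟩, hb, Subtype.ext e.symm⟩)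
    A B (map_subgroupOf_of_le hA).symm (map_subgroupOf_of_le hB).symm with
    k | k | k | ⟨-, X, hX, K, L, hc, hKL, -, -, F, _, _, hF, k⟩
  · omega
  · exact absurd k (ns A B AB hA iA)
  · exact absurd k (ns B A BA hB iB)
  rw [i4] at hF
  have nc : ∀ {Y : Type _} [Group Y], (G ≃* Y) → ¬ IsMulCommutative Y := fun e k =>
    hn ⟨⟨fun a b => e.injective (by rw [map_mul, map_mul, k.is_comm.comm])⟩⟩
  have xn : X.Normal := ⟨fun n hn g => by
    refine (cj_le_iff_forall.1 ?_) n hn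
    rw [hX, MonoidHom.map_closure]
    refine closure_mono ?_
    rintro _ ⟨w, ⟨k, hk⟩, rfl⟩
    exact ⟨k, (orderOf_conj' g w).trans hk⟩⟩
  have e1 := ((MulEquiv.subgroupCongr (xn.eq_bot_or_eq_top.resolve_left fun e => AB fun z hz => by
    obtain ⟨k, hk⟩ := IsPGroup.iff_orderOf.1 P.2 ⟨z, hA hz⟩
    exact bot_le (a := B) (e.le (hX.ge (subset_closure ⟨k, by rwa [orderOf_mk] at hk⟩))))).trans topEquiv).symm
  have := e1.symm.isSimpleGroup
  have e2 := e1.trans ((QuotientGroup.quotientMulEquivOfEq (Gold.Int.oddCore_eq_bot (nc e1))).trans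
    QuotientGroup.quotientBot).symm
  have := e2.symm.isSimpleGroup
  have ln : L.Normal := normalizer_eq_top_iff.1 (top_le_iff.1 (hKL.ge.trans (sup_le
    (fun a ha => centralizer_le_normalizer' L fun l hl => (hc a ha l hl).symm) le_normalizer)))
  have key : ∀ {W : Type} [Group W], Nat.card W ≠ 1 → (L ⧸ center L ≃* W) → Nonempty (G ≃* W) := fun h1 f => by
    have e3 := e2.trans ((MulEquiv.subgroupCongr (ln.eq_bot_or_eq_top.resolve_left fun e => h1 (by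
      rw [← Nat.card_congr f.toEquiv, ← Nat.dvd_one, ← card_eq_one.2 e]
      exact card_quotient_dvd_card _))).trans topEquiv).symm
    have := e3.symm.isSimpleGroup
    exact ⟨(e3.trans ((QuotientGroup.quotientMulEquivOfEq (Gold.Int.center_eq_bot (nc e3))).trans
      QuotientGroup.quotientBot).symm).trans f⟩
  rcases k with ⟨⟨f⟩⟩ | ⟨⟨f⟩⟩
  · have c : Nat.card (Matrix.ProjectiveSpecialLinearGroup (Fin 3) F) = 2 ^ 6 * 315 := by
      have h0 := Class.gcd_mul_card_PSL (ι := Fin 3) (F := F)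
      have h1 := Class.card_units_mul_card_SL (ι := Fin 3) (R := F)
      rw [Matrix.card_GL_field, Nat.card_units, Nat.card_eq_fintype_card, hF, ← h0,
        Nat.card_eq_fintype_card (α := F), hF] at h1
      simp [Fin.prod_univ_succ] at h1
      omega
    obtain ⟨g⟩ := key (by omega) f
    exact .inl (syl_card P ((Nat.card_congr g.toEquiv).trans c) (by decide))
  · have c : Nat.card (PSp 2 F) = 2 ^ 8 * 3825 := by
      have h := card_eq_card_quotient_mul_card_subgroup (center (Matrix.symplecticGroup (Fin 2) F))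
      rw [S0246.result hF 2 (by decide), Class.Sp.card_Sp, Nat.card_eq_fintype_card (α := F), hF] at h
      exact Nat.eq_of_mul_eq_mul_right (m := Nat.gcd 2 (4 - 1)) (by norm_num) (h.symm.trans (by decide))
    obtain ⟨g⟩ := key (by omega) f
    exact .inr ⟨syl_card P ((Nat.card_congr g.toEquiv).trans c) (by decide), F, _, _, hF, ⟨g⟩⟩

/-- A simple group whose Sylow subgroup is the product of its only two maximal elementary abelian
subgroups, both of index `4`. -/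
theorem twoEA {X Y A B : Subgroup G} (hs : IsSimpleGroup X) (hn : ¬ IsMulCommutative X)
    (hY : IsSyl 2 Y X) (hA : A ≤ Y) (hB : B ≤ Y) (A2 : ∀ x ∈ A, x * x = 1)
    (B2 : ∀ x ∈ B, x * x = 1) (hi : ∀ y ∈ Y, y * y = 1 → y ∈ A ∨ y ∈ B)
    (hp : ∀ y ∈ Y, ∃ a ∈ A, ∃ b ∈ B, y = a * b) (iA : Nat.card Y = 4 * Nat.card A)
    (iB : Nat.card Y = 4 * Nat.card B) :
    Nat.card Y = 64 ∨ (Nat.card Y = 256 ∧ ∃ (F : Type) (_ : Field F) (_ : Fintype F),
      Fintype.card F = 4 ∧ Nonempty (X ≃* PSp 2 F)) := by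
  obtain ⟨P, hP⟩ := hY.exists_sylow
  have c : ∀ {Z : Subgroup G}, Z ≤ Y → Nat.card (Z.subgroupOf X) = Nat.card Z := fun h =>
    Nat.card_congr (subgroupOfEquivOfLe (h.trans hY.le)).toEquiv
  have := twoEA0 hn P (A := A.subgroupOf X) (B := B.subgroupOf X)
  rw [hP, c le_rfl, c hA, c hB] at this
  refine this (comap_mono hA) (comap_mono hB) (fun x hx => Subtype.ext (A2 x hx)) (fun x hx => Subtype.ext (B2 x hx))
    (fun y hy e => hi y hy (congrArg Subtype.val e)) (fun y hy => ?_) iA iB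
  obtain ⟨a, ha, b, hb, e⟩ := hp y hy
  exact ⟨⟨a, hY.le (hA ha)⟩, ha, ⟨b, hY.le (hB hb)⟩, hb, Subtype.ext e⟩

end Cfsg.Agent.HSD
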