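import Mathlib
import Cfsg.Agent.HSD.El
import Cfsg.Agent.HSD.Gen

/-! Rigidity in `C(t)`, fusion in `Z₀`, the Sylow criterion. -/

set_option autoImplicit false
set_option linter.unusedSectionVars false
set_option linter.unusedVariables false

namespace Cfsg.Agent.HSD

open Cfsg Subgroup Cfsg.Agent.PLocal Cfsg.Agent.PLocal.Amb Cfsg.Agent.MacW

variable {G : Type*} [Group G] [Finite G]

theorem rg_mem {g x : G} : x ∈ centralizer {g} ↔ Cj g x x :=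
  mem_centralizer_singleton_iff.trans ⟨fun e => .of_comm e.symm, fun c => c.comm.symm⟩

theorem rg_mem' {g x : G} : g ∈ centralizer {x} ↔ Cj g x x :=
  mem_centralizer_singleton_iff.trans ⟨.of_comm, Cj.comm⟩

theorem rg_cm {g x y : G} {H : Subgroup G} (c : Cj g x y) (h : y ∈ H) : g * x * g⁻¹ ∈ H :=
  Eq.symm c ▸ h

theorem rg_card {α : Type} [Finite α] {B : Subgroup G} (f : α → G) (h : ∀ x ∈ B, ∃ a, x = f a) :
    Nat.card B ≤ Nat.card α := by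
  choose s hs using h
  exact Nat.card_le_card_of_injective (fun x : B => s x x.2) fun x y e =>
    Subtype.ext ((hs x x.2).trans ((congrArg f e).trans (hs y y.2).symm))

/-- an element of odd order on a flag -/
theorem rg_odd {g x : G} (ho : Odd (orderOf g)) {R : Subgroup G} (hR : IsPGroup 2 R) (hn : g ∈ 𝐍[R])
    (hx : x ∈ R) (h : ∀ y ∈ R, y ∈ centralizer {g} ∨ x⁻¹ * y ∈ centralizer {g}) :
    x ∈ centralizer {g} := by
  have m := conj_mem_of_mem_normalizer hn hx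
  rcases h _ m with l | l
  · have : g * x * g⁻¹ = x := by simpa [Cj] using rg_mem.1 l
    exact rg_mem.2 this
  · obtain ⟨k, hk⟩ := Amb.isPGroup_iff.1 hR _ (mul_mem (inv_mem hx) m)
    exact rg_mem.2 (odd_step ho (mul_inv_cancel_left x _).symm (rg_mem.1 l) hk)

theorem rg_of_odd {H : Subgroup G} {g : G} {m : ℕ} (hm : Odd m) (h1 : g ^ m ∈ H) (h2 : g * g ∈ H) :
    g ∈ H := by
  obtain ⟨k, rfl⟩ := hm
  rw [pow_succ, pow_mul, pow_two] at h1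
  exact (mul_mem_cancel_left (pow_mem h2 k)).1 h1

namespace Dat.Cfg

variable {d : Dat G} (h : d.Cfg)
include h

theorem S0_C : d.S0 ≤ d.C := h.le.trans h.syl.le
theorem t_A1 : d.t ∈ d.A1 := subset_closure (by simp)
theorem u_A1 : d.u ∈ d.A1 := subset_closure (by simp)
theorem a_A1 : d.a ∈ d.A1 := subset_closure (by simp)
theorem b_A2 : d.b ∈ d.A2 := subset_closure (by simp)
theorem b_nA1 : d.b ∉ d.A1 := by simp [h.mem_A1, h.el_b, h.el_eq_iff]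
theorem a_nA2 : d.a ∉ d.A2 := by simp [h.mem_A2, h.el_a, h.el_eq_iff]
theorem A_ne : d.A1 ≠ d.A2 := fun e => h.a_nA2 (e ▸ h.a_A1)
theorem pA1 : IsPGroup 2 d.A1 := h.pS0.to_le h.A1_le
theorem sq_A1 : ∀ x ∈ d.A1, x * x = 1 := fun x hx => by
  obtain ⟨i, j, k, m, rfl⟩ := h.mem_A1.1 hx
  simp [h.el_mul, h.el_one]
theorem sq_A2 : ∀ x ∈ d.A2, x * x = 1 := h.sw_A1 ▸ h.sw.sq_A1
theorem A1_cen : d.A1 ≤ 𝐂[d.A1] := fun x hx y hy => by
  obtain ⟨i, j, k, m, rfl⟩ := h.mem_A1.1 hx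
  obtain ⟨i', j', k', m', rfl⟩ := h.mem_A1.1 hy
  simp [h.el_mul, Bool.xor_comm]
theorem S0_nA1 : d.S0 ≤ 𝐍[d.A1] := fun x hx => mem_normalizer_fintype fun y hy => by
  obtain ⟨i, j, k, l, m, rfl⟩ := h.mem_S0.1 hx
  obtain ⟨i', j', k', m', rfl⟩ := h.mem_A1.1 hy
  rw [h.el_inv, h.el_mul, h.el_mul, Bool.xor_false l, Bool.xor_self l]
  exact h.mem_A1.2 ⟨_, _, _, _, rfl⟩
theorem Z0_cen {x y : G} (hx : x ∈ d.S0) (hy : y ∈ d.Z0) : Cj x y y := by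
  obtain ⟨i, j, k, l, m, rfl⟩ := h.mem_S0.1 hx
  obtain ⟨i', j', m', rfl⟩ := h.mem_Z0.1 hy
  exact .of_comm (by simp [h.el_mul, Bool.xor_comm])
theorem Z0_eq : d.Z0 = d.A1 ⊓ d.A2 := by
  ext x
  rw [mem_inf, h.mem_Z0, h.mem_A1, h.mem_A2]
  refine ⟨by rintro ⟨i, j, m, rfl⟩; exact ⟨⟨_, _, _, _, rfl⟩, _, _, _, _, rfl⟩, ?_⟩
  rintro ⟨⟨i, j, k, m, rfl⟩, _, _, _, _, e⟩
  obtain rfl := (h.el_inj e).2.2.1
  exact ⟨_, _, _, rfl⟩
theorem V1_eq : d.V1 = d.K ⊓ d.A1 := by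
  refine le_antisymm (le_inf ((closure_le _).2 ?_) (closure_mono (by simp +contextual [Set.subset_def]))) ?_
  · rintro x (rfl | rfl); exacts [h.z_K, h.a_K]
  · rintro x ⟨h1, h2⟩
    obtain ⟨k, l, m, e⟩ := h.mem_D.1 (h.KS.le ⟨h1, h.le (h.A1_le h2)⟩)
    obtain ⟨_, _, _, _, rfl⟩ := h.mem_A1.1 h2
    obtain rfl := (h.el_inj e).2.2.2.1
    exact h.mem_V1.2 ⟨_, _, e⟩

/-- an element of a `2`-group over `S` commuting with `t` lies in `S` -/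
theorem regS {R : Subgroup G} (hR : IsPGroup 2 R) (hS : d.S ≤ R) {c : G} (hc : c ∈ R)
    (ht : Cj c d.t d.t) : c ∈ d.S :=
  h.syl.max (R ⊓ d.C) (hR.to_le inf_le_left) (le_inf hS h.syl.le) inf_le_right ⟨hc, rg_mem'.2 ht⟩

theorem eq_A0 {B : Subgroup G} (hB : B ≤ d.S0) (h2 : ∀ x ∈ B, x * x = 1)
    (hc : 16 ≤ Nat.card B) : B = d.A1 ∨ B = d.A2 := by
  suffices B ≤ d.A1 ∨ B ≤ d.A2 from this.imp (eq_of_le_of_card_ge · (h.card_A1 ▸ hc))
    (eq_of_le_of_card_ge · (h.card_A2 ▸ hc))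
  refine or_iff_not_imp_left.2 fun n y hy => ?_
  obtain ⟨x, hx, n⟩ := SetLike.not_le_iff_exists.1 n
  have a1 := h2 x hx
  have a2 := h2 y hy
  have a3 := h2 _ (mul_mem hx hy)
  obtain ⟨i, j, k, l, m, rfl⟩ := h.mem_S0.1 (hB hx)
  obtain ⟨i', j', k', l', m', rfl⟩ := h.mem_S0.1 (hB hy)
  simp only [h.el_mul, h.el_one, h.el_eq_iff, h.mem_A1, h.mem_A2] at *
  cases k <;> cases l <;> cases k' <;> cases l' <;> simp_all

theorem w_el {w : G} (e : d.E2' w) : ∃ s : Bool, ∀ i j k l m, Cj w (d.el i j k l m)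
    (d.el (i ^^ (s && j)) j l k (m ^^ j ^^ (k && l))) := by
  have : ∃ s, Cj w d.u (d.el s true false false true) := e.u.elim
    (fun c => ⟨false, c.to (by simp [el])⟩) fun c => ⟨true, c.to (by simp [el])⟩
  refine this.imp fun s c i j k l m => ((((((h.wt e.mem).bp i).mul (c.bp j)).mul (e.a.bp k)).mul
    (e.b.bp l)).mul ((h.cz_sw e.a e.b).bp m)).to ?_
  have b : ∀ i j k l m c, bp (d.el i j k l m) c = d.el (c && i) (c && j) (c && k) (c && l) (c && m) :=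
    fun i j k l m c => by cases c; exacts [h.el_one, rfl]
  rw [h.el_t, h.el_a, h.el_b, h.el_z, b, b, b, b, b, h.el_mul, h.el_mul, h.el_mul, h.el_mul, h.el_eq_iff]
  cases j <;> cases k <;> cases l <;> cases m <;> simp [Bool.and_comm]

/-- the only elementary abelian subgroups of order `16` in `S` -/
theorem eq_A (e : d.Eps) {B : Subgroup G} (hB : B ≤ d.S) (h2 : ∀ x ∈ B, x * x = 1)
    (hc : 16 ≤ Nat.card B) : B = d.A1 ∨ B = d.A2 := by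
  refine h.eq_A0 (e.elim (fun e => hB.trans e.le) fun ⟨w, e⟩ x hx => by_contra fun n => ?_) h2 hc
  obtain ⟨s, hs⟩ := h.w_el e
  have hx' := (e.cov x (hB hx)).resolve_left n
  obtain ⟨i, j, k, l, m, ex⟩ := h.mem_S0.1 hx'
  have k0 : ∀ y ∈ B, y ∈ d.S0 → ∃ p : Bool × Bool, y = d.el p.1 false false false p.2 := fun y hy m0 => by
    have a2 := h2 y hy
    have a3 : Cj (x * w⁻¹ * w) y y := .of_comm (by
      have e := eq_inv_of_mul_eq_one_left (h2 _ (mul_mem hx hy))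
      rw [inv_mul_cancel_right, e, mul_inv_rev, inv_eq_of_mul_eq_one_right (h2 x hx),
        inv_eq_of_mul_eq_one_right a2])
    obtain ⟨i', j', k', l', m', rfl⟩ := h.mem_S0.1 m0
    have := a3.unique ((hs i' j' k' l' m').comp rfl)
    simp only [ex, h.el_inv, h.el_mul, h.el_one, h.el_eq_iff, Prod.exists] at this a2 ⊢
    revert this a2
    cases k <;> cases l <;> cases k' <;> cases l' <;> cases j' <;> cases m <;> cases m' <;> simp
  have := rg_card (B := B) (fun p : (Bool × Bool) × Bool => d.el p.1.1 false false false p.1.2 * bp x p.2)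
    fun y hy => by
      rcases e.cov y (hB hy) with c | c
      · obtain ⟨p, hp⟩ := k0 y hy c
        exact ⟨(p, false), by simpa using hp⟩
      · obtain ⟨p, hp⟩ := k0 _ (mul_mem hy (inv_mem hx)) (by
          simpa [mul_assoc] using mul_mem c (inv_mem hx'))
        exact ⟨(p, true), mul_inv_eq_iff_eq_mul.1 hp⟩
  simp at this
  omega

theorem cj_A (e : d.Eps) {g : G} {B : Subgroup G} (hB : B = d.A1 ∨ B = d.A2) (l : cj(g, B) ≤ d.S) :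
    cj(g, B) = d.A1 ∨ cj(g, B) = d.A2 :=
  h.eq_A e l (by
    rintro _ ⟨x, hx, rfl⟩
    rw [← map_mul, hB.elim (fun e => h.sq_A1 x (e ▸ hx)) fun e => h.sq_A2 x (e ▸ hx), map_one])
    (by rw [card_cj]; exact hB.elim (· ▸ h.card_A1.ge) (· ▸ h.card_A2.ge))

/-- `S₀` is Sylow in `C(t) ∩ N(A₁)` -/
theorem sylS0 (e : d.Eps) : IsSyl 2 d.S0 (d.C ⊓ 𝐍[d.A1]) := by
  refine ⟨le_inf h.S0_C h.S0_nA1, h.pS0, fun R hR h1 h2 x hx => by_contra fun n => ?_⟩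
  have c := two_mul_le_of_lt h1 hx n
  obtain ⟨g, hg, l⟩ := h.syl.exists_cj_le hR (h2.trans inf_le_left)
  rw [h.card_S0, ← card_cj g] at c
  obtain e1 | ⟨w, e2⟩ := id e
  · have := card_le_of_le l
    rw [h.card_S1 e1] at this; omega
  have := normalizer_cj g d.A1 ▸ cj_mono g (h2.trans inf_le_right)
    ((eq_of_le_of_card_ge l (h.card_S2 e2 ▸ c)).ge e2.mem)
  rcases h.cj_A e (.inl rfl) ((cj_mono g (h.A1_le.trans h1)).trans l) with k | k <;> rw [k] at this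
  exacts [h.b_nA1 (e2.a.mem this h.a_A1), h.a_nA2 (e2.b.mem this h.b_A2)]

/-- an element of a `2`-group over `S₀` commuting with `t` and normalizing `A₁` lies in `S₀` -/
theorem reg (e : d.Eps) {R : Subgroup G} (hR : IsPGroup 2 R) (hS : d.S0 ≤ R) {c : G} (hc : c ∈ R)
    (ht : Cj c d.t d.t) (hn : c ∈ 𝐍[d.A1]) : c ∈ d.S0 :=
  (h.sylS0 e).max (R ⊓ _) (hR.to_le inf_le_left) (le_inf hS (h.sylS0 e).le) inf_le_right
    ⟨hc, rg_mem'.2 ht, hn⟩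
theorem reg2 (e : d.Eps) {R : Subgroup G} (hR : IsPGroup 2 R) (hS : d.S0 ≤ R) {c : G} (hc : c ∈ R)
    (ht : Cj c d.t d.t) (hn : c ∈ 𝐍[d.A2]) : c ∈ d.S0 :=
  h.sw_S0 ▸ h.sw.reg (h.sw_eps e) hR (h.sw_S0 ▸ hS) hc ht (h.sw_A1 ▸ hn)
theorem regZ (e : d.Eps) {R : Subgroup G} (hR : IsPGroup 2 R) (hS : d.S0 ≤ R) {c : G} (hc : c ∈ R)
    (ha : d.Ac c d.t d.u d.a d.b) : c ∈ d.Z0 := by
  obtain ⟨i, j, k, l, m, rfl⟩ := h.mem_S0.1 (h.reg e hR hS hc ha.t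
    (centralizer_le_normalizer' _ (centralizer_anti h.A1_le ha.cent)))
  have a := ha.a.comm
  have b := ha.b.comm
  rw [h.el_a, h.el_mul, h.el_mul, h.el_eq_iff] at a
  rw [h.el_b, h.el_mul, h.el_mul, h.el_eq_iff] at b
  simp only [h.mem_Z0, h.el_eq_iff]
  revert a b
  cases k <;> cases l <;> simp

/-- `N_{C(t)}(A₁)` fixes `u` and normalizes `V₁`. -/
theorem stab1 (e : d.Eps) {c : G} (ht : Cj c d.t d.t) (hn : c ∈ 𝐍[d.A1]) :
    Cj c d.u d.u ∧ c ∈ 𝐍[d.V1] := by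
  have nV : d.C ⊓ 𝐍[d.A1] ≤ 𝐍[d.V1] := h.V1_eq ▸ le_normalizer_inf (inf_le_left.trans h.nK) inf_le_right
  have zA : d.z ∈ d.A1 := subset_closure (by simp)
  obtain ⟨T, hT, h1, h2⟩ := two_lift (P := d.A1) (M := d.C ⊓ 𝐍[d.A1] ⊓ centralizer {d.z})
    (le_inf (le_inf (centralizer_le (by simpa using h.t_A1)) (centralizer_le_normalizer' _))
      (centralizer_le (by simpa using zA))) (inf_le_left.trans inf_le_right)
    (fun g hg ho => by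
      have t := rg_mem.2 (rg_mem'.1 hg.1.1)
      have z := rg_mem.2 (rg_mem'.1 hg.2)
      have a : d.a ∈ centralizer {g} := rg_odd ho (h.pA1.to_le (h.V1_eq.le.trans inf_le_right))
        (nV hg.1) (subset_closure (by simp)) fun y hy => by
          obtain ⟨k, m, rfl⟩ := h.mem_V1.1 hy
          rw [h.el_a, h.el_inv, h.el_mul]
          cases k
          exacts [.inl (h.el_mem (by simp) (by simp) (by simp) (by simp) fun _ => z),
            .inr (h.el_mem (by simp) (by simp) (by simp) (by simp) fun _ => z)]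
      have u : d.u ∈ centralizer {g} := rg_odd ho h.pA1 hg.1.2 h.u_A1 fun y hy => by
        obtain ⟨i, j, k, m, rfl⟩ := h.mem_A1.1 hy
        rw [h.el_u, h.el_inv, h.el_mul]
        cases j
        exacts [.inl (h.el_mem (fun _ => t) (by simp) (fun _ => a) (by simp) fun _ => z),
          .inr (h.el_mem (fun _ => t) (by simp) (fun _ => a) (by simp) fun _ => z)]
      exact mem_cent_closure (by simp [← rg_mem, t, u, z, a]))
    h.pS0 (le_inf (h.sylS0 e).le fun x hx => rg_mem'.2 (h.Z0_cen hx (subset_closure (by simp))))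
  have k : ∀ g ∈ d.C ⊓ 𝐍[d.A1], Cj g d.z d.z → Cj g d.u d.u := fun g hg hz => by
    obtain ⟨s, hs, l⟩ := h2 g ⟨hg, rg_mem'.2 hz⟩
    simpa using (h.Z0_cen ((h.sylS0 e).max T hT.pgrp h1 (hT.le.trans inf_le_left) hs)
      (subset_closure (by simp))).comp (Cj.of_cent l h.u_A1)
  have r : d.r₁ ∈ d.C ⊓ 𝐍[d.A1] := ⟨h.KC h.r1K, mem_norm_closure (by
    rintro x (rfl | rfl | rfl | rfl)
    exacts [rg_cm h.r1t h.t_A1, rg_cm h.r1u h.u_A1, rg_cm h.r1z h.a_A1,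
      rg_cm h.r1a (mul_mem h.a_A1 zA)])⟩
  have hc : c ∈ d.C ⊓ 𝐍[d.A1] := ⟨rg_mem'.2 ht, hn⟩
  refine ⟨?_, nV hc⟩
  obtain ⟨i, m, l⟩ := h.mem_V1.1 (conj_mem_of_mem_normalizer (nV hc) (subset_closure (.inl rfl)))
  cases i <;> cases m
  · exact absurd (conj_eq_one_iff.1 (l.trans h.el_one.symm)) h.z1
  · exact k c hc (l.trans h.el_z.symm)
  · simpa using (k _ (mul_mem (inv_mem r) hc) (Cj.comp (l.trans h.el_a.symm) h.r1z.symm)).comp h.r1u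
  · have : Cj c d.z (d.a * d.z) := l.trans (by simp [el])
    simpa using ((k _ (mul_mem (inv_mem r) (mul_mem (inv_mem r) hc))
      ((this.comp h.r1a.symm).comp h.r1z.symm)).comp h.r1u).comp h.r1u
theorem stab2 (e : d.Eps) {c : G} (ht : Cj c d.t d.t) (hn : c ∈ 𝐍[d.A2]) :
    Cj c (d.u * d.z) (d.u * d.z) ∧ c ∈ 𝐍[d.V2] := h.sw.stab1 (h.sw_eps e) ht (h.sw_A1 ▸ hn)

theorem normS0' {g : G} (hg : g ∈ 𝐍[d.S0]) : Cj g d.z d.z ∧ g ∈ 𝐍[d.Z0] ∧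
    ((g ∈ 𝐍[d.A1] ∧ g ∈ 𝐍[d.A2]) ∨ (cj(g, d.A1) = d.A2 ∧ cj(g, d.A2) = d.A1)) := by
  have k : ∀ B ≤ d.S0, (∀ x ∈ B, x * x = 1) → Nat.card B = 16 → cj(g, B) = d.A1 ∨ cj(g, B) = d.A2 :=
    fun B h1 h2 h3 => h.eq_A0 (cj_le_of_mem_normalizer h1 hg)
      (by rintro _ ⟨x, hx, rfl⟩; rw [← map_mul, h2 x hx, map_one]) (by rw [card_cj, h3])
  have l : (cj(g, d.A1) = d.A1 ∧ cj(g, d.A2) = d.A2) ∨ (cj(g, d.A1) = d.A2 ∧ cj(g, d.A2) = d.A1) := by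
    rcases k _ h.A1_le h.sq_A1 h.card_A1 with a | a <;> rcases k _ h.A2_le h.sq_A2 h.card_A2 with b | b
    exacts [absurd (cj_inj.1 (a.trans b.symm)) h.A_ne, .inl ⟨a, b⟩, .inr ⟨a, b⟩,
      absurd (cj_inj.1 (a.trans b.symm)) h.A_ne]
  refine ⟨?_, cj_eq_iff.1 ?_, l.imp_left (.imp cj_eq_iff.1 cj_eq_iff.1)⟩
  · obtain ⟨i, j, k, l, m, e⟩ := h.mem_S0.1 (conj_mem_of_mem_normalizer hg (mul_mem d.a_S0 d.b_S0))
    have := Cj.mul e e
    rw [← mul_assoc, ← h.z_eq, h.el_mul] at this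
    cases l <;> cases k
    case true.true => exact this.to (by simp [el])
    all_goals exact absurd (conj_eq_one_iff.1 (this.to (y' := 1) (by simp [el]))) h.z1
  · rw [h.Z0_eq, cj_inf]
    rcases l with l | l <;> rw [l.1, l.2]
    exact inf_comm _ _

theorem sq_nA1 {g : G} (hg : g ∈ 𝐍[d.S0]) : g * g ∈ 𝐍[d.A1] := by
  rcases (h.normS0' hg).2.2 with l | l
  · exact mul_mem l.1 l.1
  · rw [← cj_eq_iff, cj_mul, l.1, l.2]

theorem noswap (e : d.E1) {c : G} (ht : Cj c d.t d.t) : ¬ cj(c, d.A1) ≤ d.A2 := fun l => by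
  replace l := eq_of_le_of_card_ge l (by rw [card_cj, h.card_A1, h.card_A2])
  have s : IsSyl 2 d.S0 d.C := e ▸ h.syl
  have n2 : d.S0 ≤ 𝐍[d.A2] := h.sw_S0 ▸ h.sw_A1 ▸ h.sw.S0_nA1
  obtain ⟨n, hn, k⟩ := (s.mono (le_inf s.le n2) inf_le_left).exists_cj_le (isPGroup_cj c h.pS0)
    (le_inf (cj_le_of_mem s.le (rg_mem'.2 ht)) (l ▸ normalizer_cj c d.A1 ▸ cj_mono c h.S0_nA1))
  rw [← cj_mul] at k
  replace k := mem_normalizer_of_cj_le k
  obtain ⟨m, j, hm, hj⟩ := exists_two_part (n * c)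
  have := rg_of_odd hm (h.S0_nA1 (s.le_of_normalizes (isPGroup_zpowers ⟨j, hj⟩)
    (zpowers_le.2 (pow_mem (mul_mem hn.1 (rg_mem'.2 ht)) m)) (zpowers_le.2 (pow_mem k m))
    (mem_zpowers _))) (h.sq_nA1 k)
  rw [← cj_eq_iff, cj_mul, l, cj_of_mem_normalizer hn.2] at this
  exact h.A_ne this.symm

theorem sylA1 (e : d.Eps) : IsSyl 2 d.A1 𝐂[d.A1] := by
  refine ⟨h.A1_cen, h.pA1, fun R hR h1 h2 => (eq_of_le_of_card_ge h1 ?_).ge⟩
  obtain ⟨n, hn, l⟩ := (h.sylS0 e).exists_cj_le hR (h2.trans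
    (le_inf (centralizer_le (by simpa using h.t_A1)) (centralizer_le_normalizer' _)))
  rw [← card_cj n]
  refine card_le_of_le fun x hx => ?_
  have c := cj_le_of_mem_normalizer h2 (normalizer_le_normalizer_centralizer _ hn.2) hx _ h.a_A1
  obtain ⟨i, j, k, l, m, rfl⟩ := h.mem_S0.1 (l hx)
  rw [h.el_a, h.el_mul, h.el_mul, h.el_eq_iff] at c
  simp only [h.mem_A1, h.el_eq_iff]
  revert c
  cases l <;> simp
theorem sylA2 (e : d.Eps) : IsSyl 2 d.A2 𝐂[d.A2] := h.sw_A1 ▸ h.sw.sylA1 (h.sw_eps e)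

theorem sylQ (e : d.Eps) {Q : Subgroup G} (hQ : IsPGroup 2 Q) (hA : d.A1 ≤ Q) :
    IsSyl 2 Q (Q ⊔ 𝐂[Q]) :=
  ⟨le_sup_left, hQ, fun R hR h1 h2 x hx => by
    obtain ⟨q, hq, c, hc, rfl⟩ := (mem_sup_of_le_normalizer_left (centralizer_le_normalizer' Q)).1 (h2 hx)
    exact mul_mem hq (hA ((h.sylA1 e).max (R ⊓ _) (hR.to_le inf_le_left) (le_inf (hA.trans h1) h.A1_cen)
      inf_le_right ⟨(mul_mem_cancel_left (h1 hq)).1 hx, centralizer_anti hA hc⟩))⟩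
/-- for a `2`-group `Q ≥ A₁` (e.g. the input `hA` of `LQ`) -/
theorem sylQ1 (e : d.Eps) {Q : Subgroup G} (hQ : IsPGroup 2 Q) (hA : d.A1 ≤ Q) (hn : Q ≤ 𝐍[d.A1]) :
    IsSyl 2 Q (Q ⊔ 𝐂[Q]) := h.sylQ e hQ hA
theorem sylQ2 (e : d.Eps) {Q : Subgroup G} (hQ : IsPGroup 2 Q) (hA : d.A2 ≤ Q) (hn : Q ≤ 𝐍[d.A2]) :
    IsSyl 2 Q (Q ⊔ 𝐂[Q]) := h.sw.sylQ (h.sw_eps e) hQ (h.sw_A1 ▸ hA)
/-- for a `2`-group `Q ≥ S₀` -/
theorem sylQ0 (e : d.Eps) {Q : Subgroup G} (hQ : IsPGroup 2 Q) (hA : d.S0 ≤ Q) :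
    IsSyl 2 Q (Q ⊔ 𝐂[Q]) := h.sylQ e hQ (h.A1_le.trans hA)
/-- `2`-subgroups of centralizers of conjugates of `t` -/
theorem conjT {y : G} (hy : d.T y) {R : Subgroup G} (hR : IsPGroup 2 R)
    (hc : ∀ r ∈ R, r * y = y * r) : ∃ g, Cj g y d.t ∧ cj(g, R) ≤ d.S := by
  obtain ⟨g, rfl⟩ := hy.exists
  obtain ⟨c, h1, h2⟩ := h.syl.exists_cj_le (isPGroup_cj g⁻¹ hR) (le_cj_iff.1 fun r hr =>
    (centralizer_singleton_conj g d.t).le (mem_centralizer_singleton_iff.2 (hc r hr)))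
  exact ⟨c * g⁻¹, (Cj.symm rfl).comp (rg_mem'.1 h1), cj_mul c g⁻¹ R ▸ h2⟩
theorem card_le {y : G} (hy : d.T y) {R : Subgroup G} (hR : IsPGroup 2 R)
    (hc : ∀ r ∈ R, r * y = y * r) : Nat.card R ≤ Nat.card d.S := by
  obtain ⟨g, -, l⟩ := h.conjT hy hR hc
  exact card_cj g R ▸ card_le_of_le l
/-- conjugates of `t` in `Z₀` are conjugate in `N(S₀)` -/
theorem fuseZ (e : d.Eps) {y : G} (hy : d.T y) (hz : y ∈ d.Z0) : ∃ g ∈ 𝐍[d.S0], Cj g d.t y := by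
  obtain ⟨g, c, l⟩ := h.conjT hy h.pS0 fun r hr => (h.Z0_cen hr hz).comm
  have k : ∀ B, B = d.A1 ∨ B = d.A2 → ∀ x ∈ B, g * x * g⁻¹ ∈ d.S0 := fun B hB x hx => by
    have := conj_mem_cj g hx
    rcases h.cj_A e hB ((cj_mono g (hB.elim (· ▸ h.A1_le) (· ▸ h.A2_le))).trans l) with k | k <;>
      rw [k] at this
    exacts [h.A1_le this, h.A2_le this]
  refine ⟨g⁻¹, inv_mem (mem_norm_closure ?_), by simpa using c.symm⟩
  rintro x (rfl | rfl | rfl | rfl)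
  exacts [k _ (.inl rfl) _ h.t_A1, k _ (.inl rfl) _ h.u_A1, k _ (.inl rfl) _ h.a_A1,
    k _ (.inr rfl) _ h.b_A2]
/-- conjugacy in `N(A₁)` inside `Z₀` is realized in `N(S₀) ∩ N(A₁)` -/
theorem fuseA1 (e : d.Eps) {g y : G} (hg : g ∈ 𝐍[d.A1]) (hy : Cj g d.t y) (hz : y ∈ d.Z0) :
    ∃ n ∈ 𝐍[d.S0] ⊓ 𝐍[d.A1] ⊓ 𝐍[d.A2], Cj n d.t y := by
  obtain rfl := hy
  obtain ⟨n, hn, l⟩ := (h.sylS0 e).exists_cj_le (isPGroup_cj g⁻¹ h.pS0) (le_inf (le_cj_iff.1 fun r hr =>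
    (centralizer_singleton_conj g d.t).le (rg_mem'.2 (h.Z0_cen hr hz)))
    (cj_le_of_mem h.S0_nA1 (inv_mem hg)))
  rw [← cj_mul] at l
  replace l := mem_normalizer_of_cj_le l
  have a : n * g⁻¹ ∈ 𝐍[d.A1] := mul_mem hn.2 (inv_mem hg)
  refine ⟨_, Subgroup.inv_mem _ ⟨⟨l, a⟩, (h.normS0' l).2.2.elim (·.2) fun k =>
    absurd ((cj_of_mem_normalizer a).symm.trans k.1) h.A_ne⟩, ?_⟩
  simpa using (rg_mem'.1 hn.1).symm.comp (g := g) rfl
theorem fuseA2 (e : d.Eps) {g y : G} (hg : g ∈ 𝐍[d.A2]) (hy : Cj g d.t y) (hz : y ∈ d.Z0) :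
    ∃ n ∈ 𝐍[d.S0] ⊓ 𝐍[d.A1] ⊓ 𝐍[d.A2], Cj n d.t y := by
  obtain ⟨n, hn, c⟩ := h.sw.fuseA1 (h.sw_eps e) (h.sw_A1 ▸ hg) hy (h.sw_Z0 ▸ hz)
  rw [h.sw_S0, h.sw_A1, h.sw_A2] at hn
  exact ⟨n, ⟨⟨hn.1.1, hn.2⟩, hn.1.2⟩, c⟩
/-- elements of `N(S₀)` fix `z` and permute `A₁`, `A₂` -/
theorem normS0 (e : d.Eps) {g : G} (hg : g ∈ 𝐍[d.S0]) : Cj g d.z d.z ∧ g ∈ 𝐍[d.Z0] ∧
    ((g ∈ 𝐍[d.A1] ∧ g ∈ 𝐍[d.A2]) ∨ (cj(g, d.A1) = d.A2 ∧ cj(g, d.A2) = d.A1)) := h.normS0' hg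
theorem notT_big {K : Type*} [Group K] (hK : IsPGroup 2 K) {φ : K →* G}
    (hφ : Function.Injective φ) {y : K} (hy : Nat.card d.S < Nat.card {k // k * y = y * k}) :
    ¬ d.T (φ y) := fun t => by
  have := h.card_le t ((hK.to_subgroup (centralizer {y})).map φ) (by
    rintro _ ⟨k, hk, rfl⟩
    rw [← map_mul, ← map_mul, mem_centralizer_singleton_iff.1 hk])
  rw [card_map_of_injective hφ,
    Nat.card_congr (Equiv.subtypeEquivRight fun _ => mem_centralizer_singleton_iff)] at this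
  omega
/-- Sylow criterion -/
theorem crit {P : Subgroup G} (hP : IsPGroup 2 P) (hS : d.S ≤ P)
    (hT : ∀ y ∈ P, d.T y → ∃ p ∈ P, Cj p d.t y) : IsSyl 2 P ⊤ :=
  ⟨le_top, hP, fun R hR h1 _ => (eq_of_inf_normalizer_le hR h1 fun n hn => by
    obtain ⟨p, hp, c⟩ := hT _ (conj_mem_of_mem_normalizer hn.2 (hS (h.le d.t_S0))) (d.T_t.cj rfl)
    exact (mul_mem_cancel_left (inv_mem hp)).1 (hS (h.regS hR (hS.trans h1)
      (mul_mem (inv_mem (h1 hp)) hn.1) (Cj.comp rfl c.symm)))).ge⟩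
/-- elements of odd order of `N(S₀) ∩ N(U)` centralize `S₀` -/
theorem odd_cent {g : G} (h0 : g ∈ 𝐍[d.S0]) (hU : g ∈ 𝐍[d.U]) (ho : Odd (orderOf g)) :
    g ∈ 𝐂[d.S0] := by
  have z := rg_mem.2 (h.normS0' h0).1
  have pZ : IsPGroup 2 d.Z0 := .of_card (n := 3) h.card_Z0
  have u : d.u ∈ centralizer {g} := rg_odd ho (.of_card (n := 2) h.card_U) hU
    (subset_closure (by simp)) fun y hy => by
      obtain ⟨j, m, rfl⟩ := h.mem_U.1 hy
      rw [h.el_u, h.el_inv, h.el_mul]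
      cases j
      exacts [.inl (h.el_mem (by simp) (by simp) (by simp) (by simp) fun _ => z),
        .inr (h.el_mem (by simp) (by simp) (by simp) (by simp) fun _ => z)]
  have t : d.t ∈ centralizer {g} := rg_odd ho (.of_card (n := 3) h.card_Z0) (h.normS0' h0).2.1
    (subset_closure (by simp)) fun y hy => by
      obtain ⟨i, j, m, rfl⟩ := h.mem_Z0.1 hy
      rw [h.el_t, h.el_inv, h.el_mul]
      cases i
      exacts [.inl (h.el_mem (by simp) (fun _ => u) (by simp) (by simp) fun _ => z),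
        .inr (h.el_mem (by simp) (fun _ => u) (by simp) (by simp) fun _ => z)]
  have a : d.a ∈ centralizer {g} := rg_odd ho h.pA1
    (rg_of_odd ho (pow_orderOf_eq_one g ▸ one_mem _) (h.sq_nA1 h0)) h.a_A1 fun y hy => by
      obtain ⟨i, j, k, m, rfl⟩ := h.mem_A1.1 hy
      rw [h.el_a, h.el_inv, h.el_mul]
      cases k
      exacts [.inl (h.el_mem (fun _ => t) (fun _ => u) (by simp) (by simp) fun _ => z),
        .inr (h.el_mem (fun _ => t) (fun _ => u) (by simp) (by simp) fun _ => z)]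
  have b : d.b ∈ centralizer {g} := rg_odd ho h.pS0 h0 d.b_S0 fun y hy => by
    obtain ⟨i, j, k, l, m, rfl⟩ := h.mem_S0.1 hy
    rw [h.el_b, h.el_inv, h.el_mul]
    cases l
    exacts [.inl (h.el_mem (fun _ => t) (fun _ => u) (fun _ => a) (by simp) fun _ => z),
      .inr (h.el_mem (fun _ => t) (fun _ => u) (fun _ => a) (by simp) fun _ => z)]
  exact mem_cent_closure (by simp [← rg_mem, t, u, a, b])

/-- two elements acting on `S₀` and normalizing `U` can be replaced by elements of one `2`-group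
over `S` acting in the same way -/
theorem lift_U (hS : d.S ≤ 𝐍[d.S0] ⊓ 𝐍[d.U]) : ∃ T : Subgroup G, IsPGroup 2 T ∧ d.S ≤ T ∧
    T ≤ 𝐍[d.S0] ∧ ∀ g ∈ 𝐍[d.S0] ⊓ 𝐍[d.U], ∃ s ∈ T, g⁻¹ * s ∈ 𝐂[d.S0] := by
  obtain ⟨T, hT, h1, h2⟩ := two_lift (P := d.S0) (le_inf (centralizer_le_normalizer' _)
    ((centralizer_anti ((closure_le _).2 (by rintro x (rfl | rfl); exacts [d.u_S0, h.z_S0]))).trans
      (centralizer_le_normalizer' d.U))) inf_le_left (fun g hg => h.odd_cent hg.1 hg.2) h.pS hS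
  refine ⟨T, hT.pgrp, h1, hT.le.trans inf_le_left, fun g hg => ?_⟩
  obtain ⟨s, hs, l⟩ := h2 _ (inv_mem hg)
  exact ⟨_, inv_mem hs, l⟩

theorem odd_K {n : G} (hn : n ∈ d.C) (ho : Odd (orderOf n)) : n ∈ d.K := by
  obtain ⟨k, hk, s, hs, rfl⟩ := h.fac n hn
  obtain ⟨j, hj⟩ := Amb.isPGroup_iff.1 h.pS s hs
  have : ∀ m : ℕ, (k * s) ^ m * (s ^ m)⁻¹ ∈ d.K := fun m => by
    induction m with
    | zero => simp
    | succ m ih =>
      convert mul_mem hk (conj_mem_of_mem_normalizer (h.nK (h.syl.le hs)) ih) using 1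
      rw [pow_succ', pow_succ]; group
  have := this (2 ^ j)
  rw [hj, inv_one, mul_one] at this
  obtain ⟨m, hm⟩ := exists_pow_eq_self_of_coprime (x := k * s) (n := 2 ^ j)
    (Nat.Coprime.pow_left j ho.coprime_two_left)
  exact hm ▸ pow_mem this m

theorem noQ8 {y n q : G} (hy : d.T y) (ho : Odd (orderOf n)) (hn : Cj n y y) {R : Subgroup G}
    (hR : IsPGroup 2 R) (hnR : n ∈ 𝐍[R]) (hq : q ∈ R) (hqy : Cj q y y) {p : G}
    (hp : p = n * q * n⁻¹ * q⁻¹) (h4 : p * p ≠ 1) : Cj n p p ∨ Cj n p p⁻¹ := by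
  obtain ⟨g, c, l⟩ := h.conjT hy (hR.to_le (inf_le_left : R ⊓ centralizer {y} ≤ R))
    fun r hr => mem_centralizer_singleton_iff.1 hr.2
  have cC : ∀ {x}, Cj x y y → g * x * g⁻¹ ∈ d.C := fun e => by
    rw [mul_assoc]; exact rg_mem'.2 ((c.symm.comp e).comp c)
  have nK := h.odd_K (cC hn) ((MulAut.conj g).orderOf_eq n ▸ ho :)
  have pR : p ∈ R ⊓ centralizer {y} := hp ▸ mem_inf.2 ⟨mul_mem (conj_mem_of_mem_normalizer hnR hq) (inv_mem hq),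
    mul_mem (mul_mem (mul_mem (rg_mem'.2 hn) (rg_mem'.2 hqy)) (inv_mem (rg_mem'.2 hn)))
      (inv_mem (rg_mem'.2 hqy))⟩
  have pK : g * p * g⁻¹ ∈ d.K := by
    convert mul_mem nK (conj_mem_of_mem_normalizer (h.nK (cC hqy)) (inv_mem nK)) using 1
    rw [hp]; group
  obtain ⟨k, j, m, e⟩ := h.mem_D.1 (h.KS.le ⟨pK, l (conj_mem_cj g pR)⟩)
  obtain ⟨k', j', m', e'⟩ := h.mem_D.1 (h.KS.le (mem_inf.2 ⟨by
    convert mul_mem (mul_mem nK pK) (inv_mem nK) using 1; group, l (conj_mem_cj g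
      (conj_mem_of_mem_normalizer (le_normalizer_inf (zpowers_le.2 hnR) ((zpowers_le.2
        (rg_mem'.2 hn)).trans le_normalizer) (mem_zpowers n)) pR))⟩ : g * (n * p * n⁻¹) * g⁻¹ ∈ _))
  have a : g * p * g⁻¹ * (g * p * g⁻¹) ≠ 1 := by simpa using h4
  have b : g * (n * p * n⁻¹) * g⁻¹ * (g * (n * p * n⁻¹) * g⁻¹) ≠ 1 := by simpa using h4
  have : g * (n * p * n⁻¹) * g⁻¹ = g * p * g⁻¹ ∨ g * (n * p * n⁻¹) * g⁻¹ = (g * p * g⁻¹)⁻¹ := by
    simp only [e, e', ne_eq, h.el_inv, h.el_mul, h.el_one, h.el_eq_iff] at a b ⊢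
    revert a b
    cases k <;> cases j <;> cases k' <;> cases j' <;> cases m <;> cases m' <;> simp
  rw [_root_.conj_inv] at this
  simpa only [Cj, mul_left_inj, mul_right_inj] using this

end Dat.Cfg

end Cfsg.Agent.HSD
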