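import Mathlib
import Cfsg.Agent.HSD.I0O

/-! Type (I, I) with elementary abelian layers: `ε = 1`, and `ε = 2` with `β = 1`. -/

set_option autoImplicit false
set_option linter.unusedSectionVars false
set_option linter.unusedVariables false
set_option maxRecDepth 100000

namespace Cfsg.Agent.HSD

section

open Cfsg.Agent.Comp Cfsg.Agent.X32

namespace I0Bt

def C0 : ℕ := 0x0
def C1 : ℕ := 0x10000
def C2 : ℕ := 0x3000200010000
def C3 : ℕ := 0x70006000500040003000200010000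
def C4 : ℕ := 0xf000e000d000c000b000a0009000800070006000500040003000200010000
def C5 : ℕ := 0x1f001e001d001c001b001a0019001800170016001500140013001200110010000f000e000d000c000b000a0009000800070006000500040003000200010000
def C6 : ℕ := 0x3a003b00380039003e003f003c003d00320033003000310036003700340035002b002a00290028002f002e002d002c00230022002100200027002600250024001e001f001c001d001a001b0018001900160017001400150012001300100011000f000e000d000c000b000a0009000800070006000500040003000200010000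
def C7 : ℕ := 0x7f007e007d007c007b007a0079007800770076007500740073007200710070006b006a00690068006f006e006d006c00630062006100600067006600650064005b005a00590058005f005e005d005c00530052005100500057005600550054004f004e004d004c004b004a0049004800470046004500440043004200410040003f003e003d003c003b003a0039003800370036003500340033003200310030002b002a00290028002f002e002d002c00230022002100200027002600250024001b001a00190018001f001e001d001c00130012001100100017001600150014000f000e000d000c000b000a0009000800070006000500040003000200010000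
def L : List Pc.Lv := [⟨7, 128, 256, 0, C7⟩, ⟨6, 64, 128, 0, C6⟩, ⟨5, 32, 64, 0, C5⟩, ⟨4, 16, 32, 0, C4⟩, ⟨3, 8, 16, 0, C3⟩, ⟨2, 4, 8, 0, C2⟩, ⟨1, 2, 4, 0, C1⟩, ⟨0, 1, 2, 0, C0⟩]
def R : List (ℕ × ℕ × List ℕ) := [(0, 0, []), (1, 1, []), (1, 0, [0]), (2, 2, []), (2, 0, [0]), (2, 1, [1]), (3, 3, []), (3, 0, [0]), (3, 1, [1]), (3, 2, [2]), (4, 4, []), (4, 0, [0]), (4, 1, [1]), (4, 2, [2]), (4, 3, [3]), (5, 5, []), (5, 0, [0]), (5, 1, [1]), (5, 2, [2]), (5, 3, [3]), (5, 4, [4]), (6, 6, []), (6, 0, [0]), (6, 1, [1]), (6, 2, [2]), (6, 3, [3]), (6, 4, [4, 0]), (6, 5, [2, 5]), (7, 7, []), (7, 0, [0]), (7, 1, [1]), (7, 2, [2]), (7, 3, [3]), (7, 4, [2, 4]), (7, 5, [2, 5]), (7, 6, [6])]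
theorem hc : Pc.chk L = true := by decide +kernel
instance ok : Fact (Pc.tab L).OK := ⟨Pc.ok hc⟩
abbrev K := TG (Pc.tab L)
noncomputable abbrev gz : K := Pc.gn 0
noncomputable abbrev gu : K := Pc.gn 1
noncomputable abbrev ge : K := Pc.gn 2
noncomputable abbrev gh : K := Pc.gn 3
noncomputable abbrev ga : K := Pc.gn 4
noncomputable abbrev gf : K := Pc.gn 5
noncomputable abbrev gb : K := Pc.gn 6
noncomputable abbrev gg : K := Pc.gn 7
noncomputable abbrev gs : List K := [gz, gu, ge, gh, ga, gf, gb, gg]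
theorem card : Nat.card K = 256 := Pc.card hc
theorem hom {G : Type*} [Group G] {z u e h a f b g : G}
    (hz : z * z = 1)
    (hu : u * u = 1)
    (hu_z : Cj u z (z))
    (he : e * e = 1)
    (he_z : Cj e z (z))
    (he_u : Cj e u (u))
    (hh : h * h = 1)
    (hh_z : Cj h z (z))
    (hh_u : Cj h u (u))
    (hh_e : Cj h e (e))
    (ha : a * a = 1)
    (ha_z : Cj a z (z))
    (ha_u : Cj a u (u))
    (ha_e : Cj a e (e))
    (ha_h : Cj a h (h))
    (hf : f * f = 1)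
    (hf_z : Cj f z (z))
    (hf_u : Cj f u (u))
    (hf_e : Cj f e (e))
    (hf_h : Cj f h (h))
    (hf_a : Cj f a (a))
    (hb : b * b = 1)
    (hb_z : Cj b z (z))
    (hb_u : Cj b u (u))
    (hb_e : Cj b e (e))
    (hb_h : Cj b h (h))
    (hb_a : Cj b a (a * z))
    (hb_f : Cj b f (e * f))
    (hg : g * g = 1)
    (hg_z : Cj g z (z))
    (hg_u : Cj g u (u))
    (hg_e : Cj g e (e))
    (hg_h : Cj g h (h))
    (hg_a : Cj g a (e * a))
    (hg_f : Cj g f (e * f))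
    (hg_b : Cj g b (b)) :
    ∃ φ : K →* G, φ gz = z ∧ φ gu = u ∧ φ ge = e ∧ φ gh = h ∧ φ ga = a ∧ φ gf = f ∧ φ gb = b ∧ φ gg = g ∧
      ∀ H : Subgroup G, z ∈ H → u ∈ H → e ∈ H → h ∈ H → a ∈ H → f ∈ H → b ∈ H → g ∈ H → φ.range ≤ H := by
  obtain ⟨φ, h⟩ := Pc.exists_hom (x := LES.tup [z, u, e, h, a, f, b, g]) (R := R) (by
    simp only [R, List.forall_mem_cons, List.not_mem_nil, false_imp_iff, implies_true, and_true]
    exact ⟨hz, hu, hu_z, he, he_z, he_u, hh, hh_z, hh_u, hh_e, ha, ha_z, ha_u, ha_e, ha_h, hf, hf_z, hf_u, hf_e, hf_h, hf_a, hb, hb_z, hb_u, hb_e, hb_h, hb_a, hb_f, hg, hg_z, hg_u, hg_e, hg_h, hg_a, hg_f, hg_b⟩) hc (by decide +kernel)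
  refine ⟨φ, h 0 (by decide), h 1 (by decide), h 2 (by decide), h 3 (by decide), h 4 (by decide), h 5 (by decide), h 6 (by decide), h 7 (by decide), fun H m0 m1 m2 m3 m4 m5 m6 m7 => Pc.range_le hc φ fun i hi => ?_⟩
  rw [h i hi]; change i < 8 at hi
  interval_cases i <;> assumption

theorem f1 : ∀ x y : K, Pc.Msk 248 (x * y * x⁻¹ * y⁻¹) := BD.of (by decide +kernel)
theorem f2 : ∀ x : K, (∀ s ∈ gs, x * s = s * x) → Pc.Msk 8 x → Pc.Msk 248 x := BD.of (by decide +kernel)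
theorem f3 : ∀ x : K, Pc.Msk 248 x → ∃ p ∈ [1, gz], ∃ q ∈ [1, gu], ∃ r ∈ [1, ge], x = p * q * r :=
  BD.of (by decide +kernel)
theorem f4 : ∀ s ∈ gs, ∀ x : K, gh * x = x * gh ∧ (Pc.Msk 8 (s * x) ↔ (Pc.Msk 8 s ↔ Pc.Msk 8 x)) :=
  BD.of (by decide +kernel)
theorem f5 : ∀ k : K, k = 1 ∨ ∃ g ∈ gs, (g * k).v < k.v := BD.of (by decide +kernel)

end I0Bt
end

open Cfsg Subgroup Cfsg.Agent.PLocal Cfsg.Agent.PLocal.Amb Cfsg.Agent.MacW

variable {G : Type*} [Group G] [Finite G]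

theorem ea6 {a b c d e f : G} (h1 : a * a = 1) (h2 : b * b = 1) (h3 : c * c = 1) (h4 : d * d = 1)
    (h5 : e * e = 1) (h6 : f * f = 1) (ba : Cj b a a) (ca : Cj c a a) (cb : Cj c b b) (da : Cj d a a)
    (db : Cj d b b) (dc : Cj d c c) (ea : Cj e a a) (eb : Cj e b b) (ec : Cj e c c) (ed : Cj e d d)
    (fa : Cj f a a) (fb : Cj f b b) (fc : Cj f c c) (fd : Cj f d d) (fe : Cj f e e) :
    ∀ x ∈ closure ({a, b, c, d, e, f} : Set G), x * x = 1 := by
  have q : closure ({a, b, c, d, e, f} : Set G) ≤ 𝐂[closure ({a, b, c, d, e, f} : Set G)] :=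
    (closure_le _).2 (by
      rintro x (hx | hx | hx | hx | hx | hx) <;> rw [hx] <;> refine mem_cent_closure ?_ <;>
        rintro x (hx | hx | hx | hx | hx | hx) <;> rw [hx] <;>
        first | exact Cj.self _ | assumption | exact Cj.flip (by assumption))
  intro x hx
  induction hx using closure_induction with
  | mem x hx => rcases hx with hx | hx | hx | hx | hx | hx <;> rw [hx] <;> assumption
  | one => exact one_mul 1
  | mul x y hx hy a b => rw [mul_assoc, ← mul_assoc y, q hx y hy, mul_assoc, b, mul_one, a]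
  | inv x _ a => rw [← mul_inv_rev, a, inv_one]

/-- the relations of `W` -/
structure RlW (d : Dat G) (e k f g : G) (β i j : Bool) : Prop where
  ee : e * e = 1
  kk : k * k = 1
  ff : f * f = 1
  gg : g * g = 1
  uz : Cj d.u d.z d.z
  ez : Cj e d.z d.z
  eu : Cj e d.u d.u
  kz : Cj k d.z d.z
  ku : Cj k d.u d.u
  ke : Cj k e e
  az : Cj d.a d.z d.z
  au : Cj d.a d.u d.u
  ae : Cj d.a e e
  ak : Cj d.a k k
  fz : Cj f d.z d.z
  fu : Cj f d.u d.u
  fe : Cj f e e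
  fk : Cj f k k
  fa : Cj f d.a d.a
  bz : Cj d.b d.z d.z
  bu : Cj d.b d.u d.u
  be : Cj d.b e e
  bk : Cj d.b k k
  ba : Cj d.b d.a (d.a * d.z)
  bf : Cj d.b f (e * f)
  gz : Cj g d.z d.z
  gu : Cj g d.u d.u
  ge : Cj g e e
  gk : Cj g k k
  ga : Cj g d.a (e * bp d.u β * d.a)
  gf : Cj g f ((e * bp k β * bp d.u i * bp d.z j)⁻¹ * f)
  gb : Cj g d.b d.b

namespace Dat.Cfg

variable {d : Dat G} (h : d.Cfg)
include h

variable {e k f₁ f₂ ρ₁ ρ₂ : G} {β i j : Bool}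

theorem rl (L : I0 d e k f₁ f₂ ρ₁ ρ₂ β i j) : RlW d e k f₁ f₂ β i j := by
  have gu : Cj f₂ d.u d.u := by
    have : Cj f₂ (d.u * d.z * d.z) (d.u * d.z * d.z) := L.l2.fu.mul L.l2.fz
    rwa [← h.u_sw] at this
  have ee : e * e = 1 := L.l1.ee
  refine ⟨ee, L.hh, L.l1.ff, L.l2.ff, .of_comm h.zu.symm, h.cz' L.l1.ac.a L.l1.ac.b, L.l1.ac.u,
    h.cz' L.ach.a L.ach.b, L.ach.u, L.he, .of_comm h.za.symm, .of_comm h.au, L.l1.ac.a.flip,
    L.ach.a.flip, L.l1.fz, L.l1.fu, L.l1.fe, L.hf1.flip, L.l1.fa, .of_comm h.zb.symm, .of_comm h.bu,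
    L.l1.ac.b.flip, L.ach.b.flip, ?_, ?_, L.l2.fz, gu, ?_, L.hf2.flip, ?_, ?_, L.l2.fa⟩
  · rw [Cj, h.ba, mul_assoc, mul_assoc, ← mul_assoc d.b, ← h.zb]; group
  · simpa [inv_eq_of_mul_eq_one_right ee] using L.l1.fb.flipL
  · simpa using L.l2.fe.mul (gu.bp β).inv
  · simpa [Dat.sw] using L.l2.fb
  · rw [Cj, ← L.hc]; group

omit h in
theorem WW_le_TT (d : Dat G) (e k f₁ f₂ : G) : WW d e k f₁ f₂ ≤ TT d e k f₁ f₂ :=
  closure_mono (by simp +contextual [Set.subset_def, or_imp])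

omit h in
theorem S0_le_TT (d : Dat G) (e k f₁ f₂ : G) : d.S0 ≤ TT d e k f₁ f₂ :=
  closure_mono (by simp +contextual [Set.subset_def, or_imp])

theorem T_sq {y : G} (t : d.T y) : y * y = 1 := by
  obtain ⟨g, c⟩ := t.exists
  exact (c.mul c).unique (h.tt ▸ Cj.one g)

theorem wf2 {w : G} (L : I0 d e k f₁ f₂ ρ₁ ρ₂ β i j) (W : d.WI w e k f₁ f₂ false β) :
    Cj w f₂ (f₁ * bp d.a β) := by
  have c : Cj (w * w) f₁ (w * f₂ * w⁻¹) := W.wf.comp rfl
  rw [W.w2] at c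
  refine c.unique ?_
  cases β
  · simpa using Cj.one' f₁
  · have := L.l1.ft.flipR
    rw [inv_eq_of_mul_eq_one_right h.tt] at this
    exact this.to L.l1.fa.comm.symm

/-- `ε = 1`.  `crit` (`notT_W`, `out_W`): `T` is Sylow in `G`.  `thompson` with `M = W`, `R = ⊥`: `t ∉ X`.  `mem_X` (`R = ⊥`): an involution `y ∈ W` with a conjugate in `T ∖ W` would be conjugate to `t`;
so the generators of `W` are in `X`, `Y = T ⊓ X = W` (`sylX`, `relIndex_X`).  If `β ∨ i ∨ j`: `twoEA` with `E₁, E₂` (`inv_W`), `|W| = 256`: `X ≅ PSp₄(4)`.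
Otherwise `thompsonX` for `h` with `M = ⟨z,u,e,a,f,b,g⟩` (index 2), `R = W`: `g ∈ N(W)` with `g h g⁻¹ ∈ Z(W) ⊓ M = ⟨z,e,u⟩`; `g` normalizes `W' = ⟨z,e⟩ ∌ h`, so `g h g⁻¹ ∈ u W'`;
`lemO` for `g⁻¹` gives `h ∈ u W'`, false. -/
theorem caseI0a (e1 : d.E1) (L : I0 d e k f₁ f₂ ρ₁ ρ₂ β i j) : d.Out := by
  have ε : d.Eps := .inl e1
  obtain ⟨cW, cT, c1, c2⟩ := h.card_WW L
  have R := h.rl L
  have WT := WW_le_TT d e k f₁ f₂
  have hP : IsSyl 2 (TT d e k f₁ f₂) ⊤ := h.crit (.of_card (n := 9) cT) (e1 ▸ S0_le_TT d e k f₁ f₂)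
    fun y hy t => (h.out_W L hy (fun c => h.notT_W ε L c t) (h.T_sq t)).imp fun p hp => ⟨WT hp.1, hp.2⟩
  have hi : (WW d e k f₁ f₂).relIndex (TT d e k f₁ f₂) = 2 := by
    have := card_mul_index ((WW d e k f₁ f₂).subgroupOf (TT d e k f₁ f₂))
    rw [Nat.card_congr (subgroupOfEquivOfLe WT).toEquiv, ← relIndex, cW, cT] at this
    omega
  have b0 : ∀ y : G, ∀ r ∈ (⊥ : Subgroup G), r * y = y * r := fun y r hr => by
    rw [mem_bot.1 hr, mul_one, one_mul]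
  have ht : d.t ∉ d.X := h.thompson hP WT hi h.tt .of_bot (b0 _) fun g c _ =>
    h.notT_W ε L c (d.T_t.cj rfl)
  have iX : ∀ y ∈ WW d e k f₁ f₂, y * y = 1 → y ∈ d.X := fun y hy yy =>
    h.mem_X hP WT hi (fun _ => h.notT_W ε L) yy .of_bot (b0 _) fun g c _ => by_contra fun n => by
      obtain ⟨p, -, hp⟩ := h.out_W L c n (by rw [conj_mul, yy]; simp)
      exact h.notT_W ε L hy ((d.T_t.cj hp).cj' rfl)
  have mW : ∀ x ∈ ({d.z, d.u, e, k, d.a, f₁, d.b, f₂} : Set G), x ∈ WW d e k f₁ f₂ :=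
    fun x hx => subset_closure hx
  have WX : WW d e k f₁ f₂ ≤ d.X := (closure_le _).2 fun x hx => iX x (mW x hx) (by
    rcases hx with rfl | rfl | rfl | rfl | rfl | rfl | rfl | rfl
    exacts [h.zz, h.uu, R.ee, R.kk, h.aa, R.ff, h.bb, R.gg])
  have hY : IsSyl 2 (WW d e k f₁ f₂) d.X := by
    have := h.relIndex_X ht (S0_le_TT d e k f₁ f₂ d.t_S0)
    rw [eq_of_le_of_card_ge (le_inf WT WX) (by omega)]
    exact h.sylX hP
  by_cases hb : (β || i || j) = true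
  · have m1 : ∀ x ∈ ({d.z, d.u, e, k, d.a, f₁} : Set G), x ∈ EE d e k f₁ := fun x hx => subset_closure hx
    have m2 : ∀ x ∈ ({d.z, d.u * d.z, e, k, d.b, f₂} : Set G), x ∈ EE d.sw e k f₂ :=
      fun x hx => subset_closure hx
    have z1 := m1 d.z (by simp)
    have u1 := m1 d.u (by simp)
    have e1 := m1 e (by simp)
    have k1 := m1 k (by simp)
    have a1 := m1 d.a (by simp)
    have g1 := m1 f₁ (by simp)
    have n : EE d.sw e k f₂ ≤ 𝐍[EE d e k f₁] := (closure_le _).2 (by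
      rintro x (hx | hx | hx | hx | hx | hx) <;> rw [hx]
      · exact le_normalizer z1
      · exact le_normalizer (mul_mem u1 z1)
      · exact le_normalizer e1
      · exact le_normalizer k1
      · refine mem_norm_closure ?_
        rintro x (hx | hx | hx | hx | hx | hx) <;> rw [hx]
        exacts [rg_cm R.bz z1, rg_cm R.bu u1, rg_cm R.be e1, rg_cm R.bk k1, rg_cm R.ba (mul_mem a1 z1),
          rg_cm R.bf (mul_mem e1 g1)]
      · refine mem_norm_closure ?_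
        rintro x (hx | hx | hx | hx | hx | hx) <;> rw [hx]
        exacts [rg_cm R.gz z1, rg_cm R.gu u1, rg_cm R.ge e1, rg_cm R.gk k1,
          rg_cm R.ga (mul_mem (mul_mem e1 (bp_mem u1 _)) a1), rg_cm R.gf (mul_mem (inv_mem
            (mul_mem (mul_mem (mul_mem e1 (bp_mem k1 _)) (bp_mem u1 _)) (bp_mem z1 _))) g1)])
    have uz := R.uz
    rcases twoEA h.sX h.ncX hY (A := EE d e k f₁) (B := EE d.sw e k f₂)
      (closure_mono (by simp +contextual [Set.subset_def, or_imp]))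
      ((closure_le _).2 (by
        rintro x (hx | hx | hx | hx | hx | hx) <;> rw [hx]
        exacts [mW d.z (by simp), mul_mem (mW d.u (by simp)) (mW d.z (by simp)), mW _ (by simp),
          mW _ (by simp), mW d.b (by simp), mW _ (by simp)]))
      (ea6 h.zz h.uu R.ee R.kk h.aa R.ff uz R.ez R.eu R.kz R.ku R.ke R.az R.au R.ae R.ak R.fz R.fu
        R.fe R.fk R.fa)
      (ea6 h.zz h.sw.uu R.ee R.kk h.bb R.gg (uz.flip.mul (.self _)).flip R.ez (R.eu.mul R.ez) R.kz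
        (R.ku.mul R.kz) R.ke R.bz (R.bu.mul R.bz) R.be R.bk R.gz (R.gu.mul R.gz) R.ge R.gk R.gb)
      (fun y hy yy => h.inv_W L hb hy yy)
      (fun y hy => (mem_sup_of_le_normalizer_left n).1 ((closure_le _).2 (by
        rintro x (hx | hx | hx | hx | hx | hx | hx | hx) <;> rw [hx]
        exacts [mem_sup_left z1, mem_sup_left u1, mem_sup_left e1, mem_sup_left k1, mem_sup_left a1,
          mem_sup_left g1, mem_sup_right (m2 _ (by simp)), mem_sup_right (m2 _ (by simp))]) hy))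
      (by omega) (by omega) with c | ⟨-, F, i1, i2, c, k⟩
    · omega
    · exact .inr (.inl ⟨ht, F, i1, i2, c, .inl k⟩)
  exfalso
  obtain ⟨rfl, rfl, rfl⟩ : β = false ∧ i = false ∧ j = false := by simpa [and_assoc] using hb
  obtain ⟨φ, p1, p2, p3, p4, p5, p6, p7, p8, p9⟩ := I0Bt.hom h.zz h.uu R.uz R.ee R.ez R.eu R.kk R.kz
    R.ku R.ke h.aa R.az R.au R.ae R.ak R.ff R.fz R.fu R.fe R.fk R.fa h.bb R.bz R.bu R.be R.bk R.ba R.bf
    R.gg R.gz R.gu R.ge R.gk (R.ga.to (by simp))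
    (R.gf.to (by simp [inv_eq_of_mul_eq_one_right R.ee])) R.gb
  have rW : φ.range = WW d e k f₁ f₂ := le_antisymm (p9 _ (mW _ (by simp)) (mW _ (by simp))
    (mW _ (by simp)) (mW _ (by simp)) (mW _ (by simp)) (mW _ (by simp)) (mW _ (by simp))
    (mW _ (by simp))) ((closure_le _).2 (by
      rintro x (hx | hx | hx | hx | hx | hx | hx | hx) <;> rw [hx]
      exacts [⟨_, p1⟩, ⟨_, p2⟩, ⟨_, p3⟩, ⟨_, p4⟩, ⟨_, p5⟩, ⟨_, p6⟩, ⟨_, p7⟩, ⟨_, p8⟩]))
  have inj : Function.Injective φ := fun x y q => ((Nat.bijective_iff_surjective_and_card _).2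
    ⟨φ.rangeRestrict_surjective, by rw [rW, cW, I0Bt.card]⟩).1 (Subtype.ext q)
  obtain ⟨M, m1, m2⟩ := Pc.exists_index_two I0Bt.gs (Pc.Msk 8) (X32.BD.of (by decide +kernel))
    I0Bt.f5 (fun s hs x => (I0Bt.f4 s hs x).2) (x := I0Bt.gh) (X32.BD.of (by decide +kernel))
  have kc : ∀ r ∈ φ.range, r * k = k * r := by
    rintro _ ⟨x, rfl⟩
    rw [← p4, ← map_mul, ← map_mul, (I0Bt.f4 I0Bt.gz (by simp) x).1]
  rw [← rW] at hY
  obtain ⟨g, -, ⟨x, x1, x2⟩, g2⟩ := h.thompsonX hY (map_le_range φ M)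
    ((Pc.relIndex_map_range inj M).trans m1) (hY.le ⟨_, p4⟩) R.kk hY.pgrp hY.le kc
  have gn := mem_normalizer_of_cj_le g2
  have mU : ∀ x ∈ ({d.z, d.u, e} : Set G), x ∈ closure {d.z, d.u, e} := fun x hx => subset_closure hx
  have U1 : ∀ x, Pc.Msk 248 x → φ x ∈ closure {d.z, d.u, e} := fun x hx => by
    obtain ⟨p, hp, q, hq, r, hr, rfl⟩ := I0Bt.f3 x hx
    simp only [List.mem_cons, List.not_mem_nil, or_false] at hp hq hr
    rw [map_mul, map_mul]
    refine mul_mem (mul_mem ?_ ?_) ?_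
    · rcases hp with rfl | rfl
      exacts [by simp, by rw [p1]; exact mU _ (by simp)]
    · rcases hq with rfl | rfl
      exacts [by simp, by rw [p2]; exact mU _ (by simp)]
    · rcases hr with rfl | rfl
      exacts [by simp, by rw [p3]; exact mU _ (by simp)]
  have U2 : ∀ x ∈ φ.range, ∀ y ∈ φ.range, g * (x * y * x⁻¹ * y⁻¹) * g⁻¹ ∈ closure {d.z, d.u, e} := by
    intro x hx y hy
    obtain ⟨x', a⟩ := conj_mem_of_mem_normalizer gn hx
    obtain ⟨y', b⟩ := conj_mem_of_mem_normalizer gn hy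
    have := U1 _ (I0Bt.f1 x' y')
    simp only [map_mul, map_inv, a, b] at this
    convert this using 1
    group
  have gU : g ∈ 𝐍[closure {d.z, d.u, e}] := mem_norm_closure (by
    rintro x (hx | hx | hx) <;> rw [hx]
    · have := U2 _ ⟨_, p5⟩ _ ⟨_, p7⟩
      rwa [inv_eq_of_mul_eq_one_right h.aa, inv_eq_of_mul_eq_one_right h.bb, ← h.z_eq] at this
    · obtain ⟨p, q, c⟩ := h.lemO ε L (rW ▸ gn)
      exact rg_cm c (mul_mem (mul_mem (mU _ (by simp)) (bp_mem (mU _ (by simp)) _))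
        (bp_mem (mU _ (by simp)) _))
    · have := U2 _ ⟨_, p6⟩ _ ⟨_, p8⟩
      rw [L.hc] at this
      simpa using this)
  have xU := U1 x (I0Bt.f2 x (fun s _ => inj (by
    have := kc _ (conj_mem_of_mem_normalizer (inv_mem gn) ⟨s, rfl⟩)
    rw [map_mul, map_mul, x2]
    calc _ = g * (k * (g⁻¹ * φ s * g⁻¹⁻¹)) * g⁻¹ := by group
      _ = _ := by rw [← this]; group)) ((m2 x).1 x1))
  rw [x2, ← mem_normalizer_iff.1 gU] at xU
  obtain ⟨y, y1, y2⟩ := ((closure_le (M.map φ)).2 (by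
    rintro x (hx | hx | hx) <;> rw [hx]
    exacts [⟨_, (m2 _).2 (X32.BD.of (by decide +kernel)), p1⟩,
      ⟨_, (m2 _).2 (X32.BD.of (by decide +kernel)), p2⟩,
      ⟨_, (m2 _).2 (X32.BD.of (by decide +kernel)), p3⟩])) xU
  rw [inj (y2.trans p4.symm)] at y1
  exact (X32.BD.of (by decide +kernel) : ¬ Pc.Msk 8 I0Bt.gh) ((m2 _).1 y1)

/-- Conjugate `hc` by `w`: `w f₂ w⁻¹ = w² f₁ w⁻² = f₁ a^β`, `[f₂, f₁ a^β] = c (e u)^β`, `w c w⁻¹ = e u^β (h e)^β (u z)^i z^j`. -/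
theorem i_false {w : G} (L : I0 d e k f₁ f₂ ρ₁ ρ₂ β i j) (W : d.WI w e k f₁ f₂ false β) : i = false := by
  have R := h.rl L
  by_contra hi
  obtain rfl : i = true := by simpa using hi
  have c1 := ((W.wf.mul (h.wf2 L W)).mul W.wf.inv).mul (h.wf2 L W).inv
  rw [L.hc] at c1
  have c2 := c1.unique (((W.we.mul (W.wh.bp β)).mul W.u).mul ((h.cz_sw W.a W.b).bp j))
  have c3 : f₂ * (f₁ * bp d.a β) * f₂⁻¹ * (f₁ * bp d.a β)⁻¹ =
      (e * bp k β * d.u * bp d.z j)⁻¹ * bp (e * d.u) β := by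
    rw [(R.gf.mul (R.ga.bp β) : _ = _), ← ((R.fe.mul R.fu).bp β : _ = _)]
    cases β <;> simp only [bp_true, bp_false] <;> group
  rw [c3, inv_mul_eq_iff_eq_mul] at c2
  have r : ∀ {x y : G}, Cj x y y → x * y = y * x ∧ ∀ z, x * (y * z) = y * (x * z) := fun c =>
    ⟨c.comm, fun z => by rw [← mul_assoc, c.comm, mul_assoc]⟩
  have s : ∀ {x : G}, x * x = 1 → x * x = 1 ∧ ∀ z, x * (x * z) = z := fun c =>
    ⟨c, fun z => by rw [← mul_assoc, c, one_mul]⟩
  refine h.z1 ?_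
  cases β <;> cases j <;> simpa [mul_assoc, r R.uz, r R.ez, r R.eu, r R.kz, r R.ku, r R.ke, s h.zz,
    s h.uu, s R.ee, s R.kk] using c2.symm

/-- `ε = 2`, `β = 1`, `w² = t`.  `T₂ = W⟨w⟩` has order 1024 (tables `j = 0, 1`: add `w : u ↦ u z, a ↔ b, f ↦ g ↦ f a, e ↦ e u, h ↦ h e`), `T₂ / W ≅ ℤ₄`, so involutions of `T₂` lie in `T` and
`crit` (`S = S₀⟨w⟩ ≤ T₂`, `notT_W`, `out_W`) makes `T₂` Sylow in `G`.  `t = w² ∈ X` (`sq_mem`), so `X = ⊤` is perfect.  `xfer` for `t` with `R = ⊥`,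
`φ : T₂ → T₂ / W` (cyclic), `c = φ t ≠ 1`: every conjugate of `t` in `T₂` is in `t W`. -/
theorem caseI0b {w : G} (L : I0 d e k f₁ f₂ ρ₁ ρ₂ true false j) (W : d.WI w e k f₁ f₂ false true) : False := by
  have ε : d.Eps := .inr ⟨w, W.toE2.to'⟩
  obtain ⟨cW, -⟩ := h.card_WW L
  have ww : w * w = d.t := W.w2
  have mW : ∀ x ∈ ({d.z, d.u, e, k, d.a, f₁, d.b, f₂} : Set G), x ∈ WW d e k f₁ f₂ :=
    fun x hx => subset_closure hx
  have wn : w ∈ 𝐍[WW d e k f₁ f₂] := mem_norm_closure (by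
    rintro x (hx | hx | hx | hx | hx | hx | hx | hx) <;> rw [hx]
    exacts [rg_cm (h.cz_sw W.a W.b) (mW _ (by simp)),
      rg_cm W.u (mul_mem (mW _ (by simp)) (mW _ (by simp))),
      rg_cm W.we (mul_mem (mW _ (by simp)) (mW _ (by simp))),
      rg_cm W.wh (mul_mem (mul_mem (mW _ (by simp)) (mW _ (by simp))) (one_mem _)),
      rg_cm W.a (mW _ (by simp)), rg_cm W.wf (mW _ (by simp)), rg_cm W.b (mW _ (by simp)),
      rg_cm (h.wf2 L W) (mul_mem (mW _ (by simp)) (mW _ (by simp)))])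
  have tW : d.t ∉ WW d e k f₁ f₂ := fun c => h.notT_W ε L c d.T_t
  set P := WW d e k f₁ f₂ ⊔ zpowers w with hP
  have nf : ∀ x ∈ P, ∃ p ∈ WW d e k f₁ f₂, ∃ n : ℤ, x = p * w ^ n := fun x hx => by
    obtain ⟨p, hp, _, ⟨n, rfl⟩, e⟩ := (mem_sup_of_le_normalizer_left (zpowers_le.2 wn)).1 hx
    exact ⟨p, hp, n, e⟩
  have cw : ∀ (n : ℤ), ∀ p ∈ WW d e k f₁ f₂, w ^ n * p * (w ^ n)⁻¹ ∈ WW d e k f₁ f₂ := fun n p hp =>
    conj_mem_of_mem_normalizer (zpow_mem wn n) hp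
  have wP : w ∈ P := mem_sup_right (mem_zpowers w)
  have TP : TT d e k f₁ f₂ ≤ P := (closure_le _).2 (by
    rintro x (hx | hx | hx | hx | hx | hx | hx | hx | hx) <;> rw [hx]
    rotate_right
    · exact ww ▸ mul_mem wP wP
    all_goals exact mem_sup_left (mW _ (by simp)))
  have tT := S0_le_TT d e k f₁ f₂ d.t_S0
  have key : ∀ y ∈ P, d.T y → ∃ p ∈ P, Cj p d.t y := fun y hy t => by
    refine (h.out_W L ?_ (fun c => h.notT_W ε L c t) (h.T_sq t)).imp fun p hp =>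
      ⟨mem_sup_left hp.1, hp.2⟩
    obtain ⟨p, hp, n, rfl⟩ := nf y hy
    have wt : ∀ m : ℤ, w ^ (2 * m) = d.t ^ m := fun m => by rw [zpow_mul, zpow_two, ww]
    obtain ⟨m, rfl | rfl⟩ := Int.even_or_odd' n
    · exact mul_mem (WW_le_TT _ _ _ _ _ hp) (wt m ▸ zpow_mem tT m)
    · refine absurd ?_ tW
      have q : p * (w ^ (2 * m + 1) * p * (w ^ (2 * m + 1))⁻¹) * w ^ (2 * (2 * m + 1)) = 1 := by
        rw [← h.T_sq t]; group
      rw [wt, zpow_add d.t, zpow_mul d.t, zpow_two, h.tt, one_zpow, one_mul, zpow_one,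
        mul_eq_one_iff_inv_eq] at q
      exact q ▸ inv_mem (mul_mem hp (cw _ p hp))
  have sP : IsSyl 2 P ⊤ := h.crit (two_sup (.of_card (n := 8) cW) wn (k := 2) (by
    rw [show w ^ 2 ^ 2 = w * w * (w * w) by simp [pow_succ, mul_assoc], ww, h.tt])) (fun s hs => (W.cov s hs).elim
      (fun c => TP (S0_le_TT _ _ _ _ _ c)) fun c => by
        simpa using mul_mem (TP (S0_le_TT _ _ _ _ _ c)) wP) key
  have tX : d.t ∈ d.X := ww ▸ h.sq_mem w
  have XT : d.X = ⊤ := eq_top_iff.2 fun g _ => by_contra fun c => h.t_notMem c tX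
  have := xfer h.perf (XT ▸ sP) (Abelianization.of (G := P)) tX h.tt (R := ⊥) .of_bot bot_le
    (fun r hr => by rw [mem_bot.1 hr, mul_one, one_mul]) (Abelianization.of ⟨d.t, TP tT⟩)
    fun g _ hg _ => by
      obtain ⟨p, hp, c⟩ := key _ hg (d.T_t.cj rfl)
      rw [show (⟨_, hg⟩ : P) = ⟨p, hp⟩ * ⟨d.t, TP tT⟩ * (⟨p, hp⟩ : P)⁻¹ from Subtype.ext (Eq.symm c),
        map_mul, map_mul, map_inv, mul_inv_cancel_comm]
  refine tW ((commutator_le (H₃ := (WW d e k f₁ f₂).subgroupOf P)).2 (fun x _ y _ => ?_)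
    ((QuotientGroup.eq_one_iff _).1 this))
  obtain ⟨p, hp, n, e1⟩ := nf x x.2
  obtain ⟨q, hq, m, e2⟩ := nf y y.2
  rw [mem_subgroupOf, commutatorElement_def, coe_mul, coe_mul, coe_mul, coe_inv, coe_inv, e1, e2]
  convert mul_mem (mul_mem (mul_mem hp (cw n q hq)) (cw m _ (inv_mem hp))) (inv_mem hq) using 1
  group

end Dat.Cfg

end Cfsg.Agent.HSD
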