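import Mathlib
import Cfsg.Agent.HSD.Basic

/-! The table of the group `W⟨t, w⟩` of order 1024 for HSD/I0D, and the finite facts used. -/

set_option autoImplicit false
set_option maxRecDepth 100000

namespace Cfsg.Agent.HSD

open Cfsg.Agent.Comp Cfsg.Agent.X32

namespace I0DT

def C0 : ℕ := 0x0
def C1 : ℕ := 0x10000
def C2 : ℕ := 0x3000200010000
def C3 : ℕ := 0x70006000500040003000200010000
def C4 : ℕ := 0xf000e000d000c000b000a0009000800070006000500040003000200010000
def C5 : ℕ := 0x1f001e001d001c001b001a0019001800170016001500140013001200110010000f000e000d000c000b000a0009000800070006000500040003000200010000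
def C6 : ℕ := 0x3c003d003e003f00380039003a003b00340035003600370030003100320033002d002c002f002e00290028002b002a00250024002700260021002000230022001e001f001c001d001a001b0018001900160017001400150012001300100011000f000e000d000c000b000a0009000800070006000500040003000200010000
def C7 : ℕ := 0x7f007e007d007c007b007a0079007800770076007500740073007200710070006d006c006f006e00690068006b006a00650064006700660061006000630062005d005c005f005e00590058005b005a00550054005700560051005000530052004f004e004d004c004b004a0049004800470046004500440043004200410040003f003e003d003c003b003a0039003800370036003500340033003200310030002d002c002f002e00290028002b002a00250024002700260021002000230022001d001c001f001e00190018001b001a00150014001700160011001000130012000f000e000d000c000b000a0009000800070006000500040003000200010000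
def C8 : ℕ := 0xaa00ab00a900a800ae00af00ad00ac00a600a700a500a400a200a300a100a000ba00bb00b900b800be00bf00bd00bc00b600b700b500b400b200b300b100b0009a009b00990098009e009f009d009c00960097009500940092009300910090008a008b00890088008e008f008d008c0086008700850084008200830081008000ea00eb00e900e800ee00ef00ed00ec00e600e700e500e400e200e300e100e000fa00fb00f900f800fe00ff00fd00fc00f600f700f500f400f200f300f100f000da00db00d900d800de00df00dd00dc00d600d700d500d400d200d300d100d000ca00cb00c900c800ce00cf00cd00cc00c600c700c500c400c200c300c100c0006a006b00690068006e006f006d006c00660067006500640062006300610060007a007b00790078007e007f007d007c00760077007500740072007300710070005a005b00590058005e005f005d005c00560057005500540052005300510050004a004b00490048004e004f004d004c00460047004500440042004300410040002a002b00290028002e002f002d002c00260027002500240022002300210020003a003b00390038003e003f003d003c00360037003500340032003300310030001a001b00190018001e001f001d001c00160017001500140012001300110010000a000b00090008000e000f000d000c00060007000500040002000300010000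
def C9 : ℕ := 0x1ff01fe01fd01fc01fa01fb01f801f901f501f401f701f601f001f101f201f301bc01bd01be01bf01b901b801bb01ba01b601b701b401b501b301b201b101b0017f017e017d017c017a017b0178017901750174017701760170017101720173013c013d013e013f01390138013b013a0136013701340135013301320131013001ec01ed01ee01ef01e901e801eb01ea01e601e701e401e501e301e201e101e001ae01af01ac01ad01ab01aa01a901a801a401a501a601a701a101a001a301a2016e016f016c016d016b016a0169016801640165016601670161016001630162012c012d012e012f01290128012b012a0126012701240125012301220121012001df01de01dd01dc01da01db01d801d901d501d401d701d601d001d101d201d3019e019f019c019d019b019a0199019801940195019601970191019001930192015d015c015f015e01580159015a015b01570156015501540152015301500151011c011d011e011f01190118011b011a0116011701140115011301120111011001cc01cd01ce01cf01c901c801cb01ca01c601c701c401c501c301c201c101c0018c018d018e018f01890188018b018a01860187018401850183018201810180014c014d014e014f01490148014b014a0146014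7014401450143014201410140010c010d010e010f01090108010b010a0106010701040105010301020101010000ff00fe00fd00fc00fa00fb00f800f900f500f400f700f600f000f100f200f300bc00bd00be00bf00b900b800bb00ba00b600b700b400b500b300b200b100b0007f007e007d007c007a007b0078007900750074007700760070007100720073003c003d003e003f00390038003b003a0036003700340035003300320031003000ec00ed00ee00ef00e900e800eb00ea00e600e700e400e500e300e200e100e000ae00af00ac00ad00ab00aa00a900a800a400a500a600a700a100a000a300a2006e006f006c006d006b006a0069006800640065006600670061006000630062002c002d002e002f00290028002b002a0026002700240025002300220021002000df00de00dd00dc00da00db00d800d900d500d400d700d600d000d100d200d3009e009f009c009d009b009a0099009800940095009600970091009000930092005d005c005f005e00580059005a005b00570056005500540052005300500051001c001d001e001f00190018001b001a0016001700140015001300120011001000cc00cd00ce00cf00c900c800cb00ca00c600c700c400c500c300c200c100c0008c008d008e008f00890088008b008a00860087008400850083008200810080004c004d004e004f00490048004b004a00460047004400450043004200410040000c000d000e000f00090008000b000a00060007000400050003000200010000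
def L : List Pc.Lv := [⟨9, 512, 1024, 0, C9⟩, ⟨8, 256, 512, 0, C8⟩, ⟨7, 128, 256, 0, C7⟩, ⟨6, 64, 128, 0, C6⟩, ⟨5, 32, 64, 0, C5⟩, ⟨4, 16, 32, 0, C4⟩, ⟨3, 8, 16, 0, C3⟩, ⟨2, 4, 8, 0, C2⟩, ⟨1, 2, 4, 0, C1⟩, ⟨0, 1, 2, 0, C0⟩]
def R : List (ℕ × ℕ × List ℕ) := [(0, 0, []), (1, 1, []), (1, 0, [0]), (2, 2, []), (2, 0, [0]), (2, 1, [1]), (3, 3, []), (3, 0, [0]), (3, 1, [1]), (3, 2, [2]), (4, 4, []), (4, 0, [0]), (4, 1, [1]), (4, 2, [2]), (4, 3, [3]), (5, 5, []), (5, 0, [0]), (5, 1, [1]), (5, 2, [2]), (5, 3, [3]), (5, 4, [4]), (6, 6, []), (6, 0, [0]), (6, 1, [1]), (6, 2, [2]), (6, 3, [3]), (6, 4, [4, 0]), (6, 5, [17, 5]), (7, 7, []), (7, 0, [0]), (7, 1, [1]), (7, 2, [2]), (7, 3, [3]), (7, 4, [1, 4]), (7, 5, [17, 5]), (7, 6, [6]), (8, 8, []), (8, 0, [0]), (8, 1, [0, 1]), (8, 2, [2]), (8, 3, [2, 3]), (8, 4, [4]), (8, 5, [4, 5]), (8, 6, [6]), (8, 7, [6, 7]), (9, 9, []), (9, 0, [0]), (9, 1, [1]), (9, 2, [2, 0]), (9, 3, [3, 1]), (9, 4, [6]), (9, 5, [7]),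 (9, 6, [4]), (9, 7, [5]), (9, 8, [8])]
theorem hc : Pc.chk L = true := by decide +kernel
instance ok : Fact (Pc.tab L).OK := ⟨Pc.ok hc⟩
abbrev K := TG (Pc.tab L)
noncomputable abbrev gz : K := Pc.gn 0
noncomputable abbrev ge : K := Pc.gn 1
noncomputable abbrev gu : K := Pc.gn 2
noncomputable abbrev gk : K := Pc.gn 3
noncomputable abbrev ga : K := Pc.gn 4
noncomputable abbrev gf : K := Pc.gn 5
noncomputable abbrev gb : K := Pc.gn 6
noncomputable abbrev gg : K := Pc.gn 7
noncomputable abbrev gt : K := Pc.gn 8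
noncomputable abbrev gw : K := Pc.gn 9
noncomputable abbrev gs : List K := [gz, ge, gu, gk, ga, gf, gb, gg, gt, gw]
theorem card : Nat.card K = 1024 := Pc.card hc
theorem hom {G : Type*} [Group G] {z e u k a f b g t w : G}
    (hz : z * z = 1)
    (he : e * e = 1)
    (he_z : Cj e z (z))
    (hu : u * u = 1)
    (hu_z : Cj u z (z))
    (hu_e : Cj u e (e))
    (hk : k * k = 1)
    (hk_z : Cj k z (z))
    (hk_e : Cj k e (e))
    (hk_u : Cj k u (u))
    (ha : a * a = 1)
    (ha_z : Cj a z (z))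
    (ha_e : Cj a e (e))
    (ha_u : Cj a u (u))
    (ha_k : Cj a k (k))
    (hf : f * f = 1)
    (hf_z : Cj f z (z))
    (hf_e : Cj f e (e))
    (hf_u : Cj f u (u))
    (hf_k : Cj f k (k))
    (hf_a : Cj f a (a))
    (hb : b * b = 1)
    (hb_z : Cj b z (z))
    (hb_e : Cj b e (e))
    (hb_u : Cj b u (u))
    (hb_k : Cj b k (k))
    (hb_a : Cj b a (a * z))
    (hb_f : Cj b f (e⁻¹ * f))
    (hg : g * g = 1)
    (hg_z : Cj g z (z))
    (hg_e : Cj g e (e))
    (hg_u : Cj g u (u))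
    (hg_k : Cj g k (k))
    (hg_a : Cj g a (e * a))
    (hg_f : Cj g f (e⁻¹ * f))
    (hg_b : Cj g b (b))
    (ht : t * t = 1)
    (ht_z : Cj t z (z))
    (ht_e : Cj t e (z * e))
    (ht_u : Cj t u (u))
    (ht_k : Cj t k (u * k))
    (ht_a : Cj t a (a))
    (ht_f : Cj t f (a * f))
    (ht_b : Cj t b (b))
    (ht_g : Cj t g (b * g))
    (hw : w * w = 1)
    (hw_z : Cj w z (z))
    (hw_e : Cj w e (e))
    (hw_u : Cj w u (u * z))
    (hw_k : Cj w k (k * e))
    (hw_a : Cj w a (b))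
    (hw_f : Cj w f (g))
    (hw_b : Cj w b (a))
    (hw_g : Cj w g (f))
    (hw_t : Cj w t (t)) :
    ∃ φ : K →* G, φ gz = z ∧ φ ge = e ∧ φ gu = u ∧ φ gk = k ∧ φ ga = a ∧ φ gf = f ∧ φ gb = b ∧ φ gg = g ∧ φ gt = t ∧ φ gw = w ∧
      ∀ H : Subgroup G, z ∈ H → e ∈ H → u ∈ H → k ∈ H → a ∈ H → f ∈ H → b ∈ H → g ∈ H → t ∈ H → w ∈ H → φ.range ≤ H := by
  obtain ⟨φ, h⟩ := Pc.exists_hom (x := LES.tup [z, e, u, k, a, f, b, g, t, w]) (R := R) (by
    simp only [R, List.forall_mem_cons, List.not_mem_nil, false_imp_iff, implies_true, and_true]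
    exact ⟨hz, he, he_z, hu, hu_z, hu_e, hk, hk_z, hk_e, hk_u, ha, ha_z, ha_e, ha_u, ha_k, hf, hf_z, hf_e, hf_u, hf_k, hf_a, hb, hb_z, hb_e, hb_u, hb_k, hb_a, hb_f, hg, hg_z, hg_e, hg_u, hg_k, hg_a, hg_f, hg_b, ht, ht_z, ht_e, ht_u, ht_k, ht_a, ht_f, ht_b, ht_g, hw, hw_z, hw_e, hw_u, hw_k, hw_a, hw_f, hw_b, hw_g, hw_t⟩) hc (by decide +kernel)
  refine ⟨φ, h 0 (by decide), h 1 (by decide), h 2 (by decide), h 3 (by decide), h 4 (by decide), h 5 (by decide), h 6 (by decide), h 7 (by decide), h 8 (by decide), h 9 (by decide), fun H m0 m1 m2 m3 m4 m5 m6 m7 m8 m9 => Pc.range_le hc φ fun i hi => ?_⟩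
  rw [h i hi]; change i < 10 at hi
  interval_cases i <;> assumption

open Pc Equiv

/-- `α₁, α₂, β₁, β₂` -/
noncomputable abbrev gm (i : Fin 4) : K := TG.e (lk 0xc0003000800020 i.val)
/-- the commutators `e, e, z e, z e` -/
noncomputable abbrev ep (i : Fin 4) : K := TG.e (lk 0x3000300020002 i.val)
abbrev l4 : List (Fin 4) := [0, 1, 2, 3]
def om : Perm (Fin 4) := swap 0 1 * swap 2 3
def ta : Perm (Fin 4) := swap 0 2 * swap 1 3
def et : Perm (Fin 4) := swap 0 1
noncomputable abbrev reps : List K :=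
  TG.es [0, 16, 32, 48, 64, 80, 96, 112, 128, 144, 160, 176, 192, 208, 224, 240]
noncomputable abbrev gW : List K := [gz, ge, gu, gk, ga, gf, gb, gg]
noncomputable abbrev gZ : List K := [gz, ge, gu, gk]
noncomputable abbrev gU : List K := [gz, ge, gu]
noncomputable abbrev gV : List K := [gz, ge]
noncomputable abbrev gY : List K := [gz, ge, gu, ga, gf, gb, gg]
noncomputable abbrev gA : List K := [gz, ge, gu, gk, ga, gf]
noncomputable abbrev gB : List K := [gz, ge, gu, gk, gb, gg]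
noncomputable abbrev gC : List K := [gz, ge, gf * gg]

theorem all4 {p : Fin 4 → Prop} (h : ∀ i ∈ l4, p i) (i : Fin 4) : p i := h i (by revert i; decide)

/-- `p` describes the subgroup generated by `gs`, which has order `n` -/
def Gen (gs : List K) (p : K → Prop) (n : ℕ) : Prop :=
  (∀ k, k ∈ Subgroup.closure {g | g ∈ gs} ↔ p k) ∧ Nat.card {k // p k} = n

theorem tW : Gen gW (Msk 768) 256 := ⟨mem_closure_iff _ _ (BD.of (by decide +kernel))
  (BD.of (by decide +kernel)), (TG.card_eq _).trans (by decide +kernel)⟩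
theorem tZ : Gen gZ (Msk 1008) 16 := ⟨mem_closure_iff _ _ (BD.of (by decide +kernel))
  (BD.of (by decide +kernel)), (TG.card_eq _).trans (by decide +kernel)⟩
theorem tU : Gen gU (Msk 1016) 8 := ⟨mem_closure_iff _ _ (BD.of (by decide +kernel))
  (BD.of (by decide +kernel)), (TG.card_eq _).trans (by decide +kernel)⟩
theorem tV : Gen gV (Msk 1020) 4 := ⟨mem_closure_iff _ _ (BD.of (by decide +kernel))
  (BD.of (by decide +kernel)), (TG.card_eq _).trans (by decide +kernel)⟩
theorem tY : Gen gY (Msk 776) 128 := ⟨mem_closure_iff _ _ (BD.of (by decide +kernel))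
  (BD.of (by decide +kernel)), (TG.card_eq _).trans (by decide +kernel)⟩
theorem tA : Gen gA (Msk 960) 64 := ⟨mem_closure_iff _ _ (BD.of (by decide +kernel))
  (BD.of (by decide +kernel)), (TG.card_eq _).trans (by decide +kernel)⟩
theorem tB : Gen gB (Msk 816) 64 := ⟨mem_closure_iff _ _ (BD.of (by decide +kernel))
  (BD.of (by decide +kernel)), (TG.card_eq _).trans (by decide +kernel)⟩
theorem tC : Gen gC (fun k => Msk 860 k ∧ Evn 160 k) 8 := ⟨mem_closure_iff _ _ (BD.of (by decide +kernel))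
  (BD.of (by decide +kernel)), (TG.card_eq _).trans (by decide +kernel)⟩
theorem top : ∀ k : K, k = 1 ∨ ∃ g ∈ gs, (g * k).v < k.v :=
  BD.of (by decide +kernel)
theorem cen : ∀ k : K, (∀ g ∈ gs, k * g = g * k) → k * k = 1 → k = 1 ∨ k ∈ [gz] :=
  BD.of (by decide +kernel)
theorem gmv : gm 0 = gf ∧ gm 1 = gg ∧ gm 2 = ga * gf ∧ gm 3 = gb * gg ∧ ep 0 = ge ∧ ep 2 = gz * ge ∧
    ga = gm 2 * gm 0 ∧ gb = gm 3 * gm 1 :=
  BD.of (by decide +kernel)
theorem nW : ∀ g ∈ gs, ∀ m ∈ gW, Msk 768 (g * m * g⁻¹) :=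
  BD.of (by decide +kernel)
theorem nC : ∀ g ∈ gW, ∀ m ∈ gC, Msk 860 (g * m * g⁻¹) ∧ Evn 160 (g * m * g⁻¹) :=
  BD.of (by decide +kernel)
theorem cZ : ∀ m : K, Msk 768 m → (∀ i ∈ l4, Commute (gm i) m) → Msk 1008 m :=
  BD.of (by decide +kernel)
theorem Zc : ∀ m : K, Msk 1008 m → Msk 768 m ∧ m * m = 1 ∧ ∀ g : K, Msk 768 g → Commute g m :=
  BD.of (by decide +kernel)
theorem sqV : ∀ m : K, Msk 768 m → Msk 1020 (m * m) ∧ m ^ 4 = 1 ∧ (∃ c ∈ reps, Msk 1008 (c⁻¹ * m)) ∧
    (∀ i ∈ l4, Msk 1008 ((gm i)⁻¹ * (m * gm i * m⁻¹))) ∧ (Msk 776 m ∨ Msk 776 (m * gk⁻¹)) :=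
  BD.of (by decide +kernel)
theorem Vsq : ∀ m : K, Msk 1020 m → Msk 1016 m ∧ Msk 1008 m ∧ (Msk 860 m ∧ Evn 160 m) ∧
    Commute gw m ∧ (m = 1 ∨ m = gz ∨ m = ge ∨ m = gz * ge) ∧
    ∃ n ∈ [1, gf * gg, ga * gf * (gb * gg), gf * gg * (ga * gf * (gb * gg))], Msk 768 n ∧ m = n * n :=
  BD.of (by decide +kernel)
theorem Uz : ∀ m : K, Msk 1016 m → Msk 1008 m ∧ Msk 776 m ∧ (Msk 1020 m ∨ Msk 1020 (gu⁻¹ * m)) :=
  BD.of (by decide +kernel)
theorem Zu : ∀ m : K, Msk 1008 m → (Msk 1016 m ∨ Msk 1016 (m * gk⁻¹)) ∧ (Commute gw m → Msk 1020 m) :=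
  BD.of (by decide +kernel)
theorem repW : ∀ c ∈ reps, Msk 768 c :=
  BD.of (by decide +kernel)
theorem gmW : ∀ i ∈ l4, Msk 768 (gm i) ∧ Msk 776 (gm i) ∧ gm i * gm i = 1 ∧ ¬ Msk 1008 (gm i) ∧
    gt * gm i * gt⁻¹ = gm (ta i) ∧ gw * gm i * gw⁻¹ = gm (om i) ∧
    gm i * gm (om i) * (gm i)⁻¹ * (gm (om i))⁻¹ = ep i ∧ (∃ g ∈ [1, gt, gw, gt * gw], Cj g gf (gm i)) ∧
    ∀ j ∈ l4, (Commute (gm i) (gm j) ↔ j.val ≠ (om i).val) ∧ (Msk 1008 ((gm i)⁻¹ * gm j) → i.val = j.val) :=
  BD.of (by decide +kernel)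
theorem f2 : ∀ c ∈ reps, c * c = 1 → ∀ r ∈ reps, Commute c r → ∀ s ∈ reps, Commute c s →
    ¬ Commute r s → c = 1 ∨ ∃ i ∈ l4, c = gm i :=
  BD.of (by decide +kernel)
theorem f3 : ∀ σ ∈ [ta, ta * om, et, et * om], ∀ c ∈ reps, c * c = 1 →
    (∀ i ∈ l4, Commute c (gm i) ↔ Commute c (gm (σ i))) → ∀ r ∈ reps, r * r = 1 →
    (∀ i ∈ l4, Commute r (gm i) ↔ Commute r (gm (σ i))) → Commute c r → c = 1 ∨ r = 1 ∨ c = r :=
  BD.of (by decide +kernel)
theorem f4 : ∀ c ∈ reps, c * c = 1 → (∀ i ∈ l4, Commute c (gm i) ↔ Commute c (gm (om i))) → c = 1 :=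
  BD.of (by decide +kernel)
theorem cas : ∀ m : K, Msk 768 m ∨ Msk 768 (m * gt) ∨ Msk 768 (m * gw) ∨ Msk 768 (m * (gt * gw)) :=
  BD.of (by decide +kernel)
theorem sq4 : ∀ m : K, Commute m gt → m ^ 4 = 1 → m * m = 1 ∨ m * m = gz :=
  BD.of (by decide +kernel)
theorem ww : ∀ m : K, Msk 768 (m * gw) → m * m = 1 →
    (Commute (gk * gf * (m * gf * m⁻¹)) m ∧ gk * gf * (m * gf * m⁻¹) * (gk * gf * (m * gf * m⁻¹)) = ge) ∧
    Commute (gu * gk * gm 2 * (m * gm 2 * m⁻¹)) m ∧
      gu * gk * gm 2 * (m * gm 2 * m⁻¹) * (gu * gk * gm 2 * (m * gm 2 * m⁻¹)) = gz * ge :=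
  BD.of (by decide +kernel)
theorem f5 : ∀ m : K, Msk 1008 m → ∀ j ∈ l4, ∃ g ∈ [1, gt, gw, gt * gw, gg, gg * gt, gg * gw, gg * gt * gw],
    ∃ s ∈ [1, gu, gk, gu * gk], (Cj g (gm j * m) (gf * s) ∨ Cj g (gm j * m) (gf * ge * gz * s)) ∧
      Msk 1008 (ge * s) ∧ Msk 1008 (gz * s) ∧ (Msk 1020 (ge * s) ∨ Msk 1020 (gz * s) → Msk 1020 m) :=
  BD.of (by decide +kernel)
theorem msc : gt * gt = 1 ∧ gw * gw = 1 ∧ gt * gw = gw * gt ∧ ¬ Msk 768 gt ∧ ¬ Msk 776 gk ∧ ¬ Msk 1016 gk ∧
    Cj gt gu gu ∧ Cj gw gu (gu * gz) ∧ gz ≠ 1 ∧ ge ≠ 1 ∧ gz * ge ≠ 1 ∧ gz * ge ≠ ge ∧ gz * gz = 1 ∧ ge * ge = 1 ∧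
    (gw * ga) ^ 4 ≠ 1 ∧ Cj gt ge (gz * ge) ∧ Cj gt (gz * ge) ge ∧ Cj (gb * gg) (ge * ga) (ga * gz) ∧
    gz * ge * (gz * ge) = 1 ∧ gk * gk = 1 ∧ gu * gu = 1 :=
  BD.of (by decide +kernel)

end I0DT

end Cfsg.Agent.HSD
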