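import Mathlib
import Cfsg.Agent.HSD.I0DT

/-! HSD/I0D1: the action of `N(W)` on the four cosets `αᵢ Z₁`, `βᵢ Z₁`. -/

set_option autoImplicit false
set_option linter.unusedSectionVars false
set_option linter.unusedVariables false

namespace Cfsg.Agent.HSD.I0DT

open Cfsg Subgroup Cfsg.Agent.PLocal Cfsg.Agent.PLocal.Amb Cfsg.Agent.MacW
open Cfsg.Agent.Comp Cfsg.Agent.X32 Pc Equiv

variable {G : Type*} [Group G] [Finite G] {φ : K →* G} {l : List K} {p : K → Prop} {n : ℕ}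
  {v x y : G} {σ τ : Perm (Fin 4)}

/-- the image of the subgroup generated by a list -/
noncomputable def sb (φ : K →* G) (l : List K) : Subgroup G := (closure {g | g ∈ l}).map φ

theorem Gen.mem (H : Gen l p n) : v ∈ sb φ l ↔ ∃ m, p m ∧ φ m = v :=
  exists_congr fun m => and_congr_left' (H.1 m)

theorem Gen.of (H : Gen l p n) {m : K} (h : p m) : φ m ∈ sb φ l := H.mem.2 ⟨m, h, rfl⟩

theorem Gen.mem' (H : Gen l p n) (hi : Function.Injective φ) {m : K} (h : φ m ∈ sb φ l) : p m :=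
  let ⟨_, h1, e⟩ := H.mem.1 h; hi e ▸ h1

theorem Gen.card (H : Gen l p n) (hi : Function.Injective φ) : Nat.card (sb φ l) = n := by
  rw [sb, card_map hi, ← H.2]
  exact Nat.card_congr (Equiv.subtypeEquivRight H.1)

theorem sb_le {H : Subgroup G} (h : ∀ g ∈ l, φ g ∈ H) : sb φ l ≤ H :=
  map_le_iff_le_comap.2 ((closure_le _).2 h)

theorem mem_sb {g : K} (h : g ∈ l) : φ g ∈ sb φ l := mem_map_of_mem φ (subset_closure h)

theorem norm_sb (h : ∀ g ∈ l, x * φ g * x⁻¹ ∈ sb φ l) : x ∈ 𝐍[sb φ l] :=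
  mem_normalizer_of_cj_le (cj_le_iff.2 (sb_le fun g hg => mem_cj.2 (by simpa using h g hg)))

theorem rle {H : Subgroup G} (h : ∀ g ∈ gs, φ g ∈ H) : φ.range ≤ H := by
  rintro _ ⟨m, rfl⟩
  exact (TG.top_of_rank (H := H.comap φ) gs h top).ge (mem_top m)

theorem rN : φ.range ≤ 𝐍[sb φ gW] := rle fun g hg => norm_sb fun m hm => by
  simpa using tW.of (φ := φ) (nW g hg m hm)

theorem Zp (h : v ∈ sb φ gZ) : v ∈ sb φ gW ∧ v * v = 1 ∧ ∀ y ∈ sb φ gW, Commute y v := by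
  obtain ⟨m, hm, rfl⟩ := tZ.mem.1 h
  refine ⟨tW.of (Zc m hm).1, by rw [← map_mul, (Zc m hm).2.1, map_one], fun y hy => ?_⟩
  obtain ⟨g, hg, rfl⟩ := tW.mem.1 hy
  exact ((Zc m hm).2.2 g hg).map φ

theorem gm_W (i : Fin 4) : φ (gm i) ∈ sb φ gW := tW.of (all4 gmW i).1

theorem V_Z (h : v ∈ sb φ gV) : v ∈ sb φ gZ :=
  let ⟨m, hm, e⟩ := tV.mem.1 h; e ▸ tZ.of (Vsq m hm).2.1

theorem V_U (h : v ∈ sb φ gV) : v ∈ sb φ gU :=
  let ⟨m, hm, e⟩ := tV.mem.1 h; e ▸ tU.of (Vsq m hm).1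

theorem V_C (h : v ∈ sb φ gV) : v ∈ sb φ gC :=
  let ⟨m, hm, e⟩ := tV.mem.1 h; e ▸ tC.of (Vsq m hm).2.2.1

theorem U_Y (h : v ∈ sb φ gU) : v ∈ sb φ gY :=
  let ⟨m, hm, e⟩ := tU.mem.1 h; e ▸ tY.of (Uz m hm).2.1

theorem nV (hx : x ∈ 𝐍[sb φ gW]) (h : v ∈ sb φ gV) : x * v * x⁻¹ ∈ sb φ gV := by
  obtain ⟨m, hm, rfl⟩ := tV.mem.1 h
  obtain ⟨k, -, hk, rfl⟩ := (Vsq m hm).2.2.2.2.2
  obtain ⟨c, hc, e⟩ := tW.mem.1 (conj_mem_of_mem_normalizer hx (tW.of hk))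
  rw [map_mul, ← conj_mul, ← e, ← map_mul]
  exact tV.of (sqV c hc).1

theorem cls (h : v ∈ sb φ gW) : ∃ c ∈ reps, ∃ ζ ∈ sb φ gZ, v = φ c * ζ := by
  obtain ⟨m, hm, rfl⟩ := tW.mem.1 h
  obtain ⟨c, hc, e⟩ := (sqV m hm).2.2.1
  exact ⟨c, hc, _, tZ.of e, by simp⟩

theorem comm_cls {a b ζ ξ : G} (ha : a ∈ sb φ gW) (hb : b ∈ sb φ gW) (h1 : ζ ∈ sb φ gZ)
    (h2 : ξ ∈ sb φ gZ) : a * ζ * (b * ξ) * (a * ζ)⁻¹ * (b * ξ)⁻¹ = a * b * a⁻¹ * b⁻¹ := by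
  have e1 := Cj.of_comm ((Zp h1).2.2 _ (mul_mem hb (Zp h2).1)).eq.symm
  have e2 := Cj.of_comm ((Zp h2).2.2 _ (inv_mem ha)).eq.symm
  rw [show a * ζ * (b * ξ) * (a * ζ)⁻¹ = a * (ζ * (b * ξ) * ζ⁻¹) * a⁻¹ by group, (e1 : _ = _),
    show a * (b * ξ) * a⁻¹ * (b * ξ)⁻¹ = a * b * (ξ * a⁻¹ * ξ⁻¹) * b⁻¹ by group, (e2 : _ = _)]

theorem comm_iff {a b : G} : Commute a b ↔ a * b * a⁻¹ * b⁻¹ = 1 := by
  rw [mul_inv_eq_one, mul_inv_eq_iff_eq_mul]; rfl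

theorem comm_cls' {a b ζ ξ : G} (ha : a ∈ sb φ gW) (hb : b ∈ sb φ gW) (h1 : ζ ∈ sb φ gZ)
    (h2 : ξ ∈ sb φ gZ) : Commute (a * ζ) (b * ξ) ↔ Commute a b := by
  rw [comm_iff, comm_cls ha hb h1 h2, comm_iff]

theorem sq_cls {a ζ : G} (ha : a ∈ sb φ gW) (h1 : ζ ∈ sb φ gZ) (h : a * ζ * (a * ζ) = 1) :
    a * a = 1 := by
  rwa [mul_assoc, ← mul_assoc ζ, ← ((Zp h1).2.2 a ha).eq, mul_assoc, (Zp h1).2.1, mul_one] at h

theorem cj_comm {a b : G} : Commute (x * a * x⁻¹) (x * b * x⁻¹) ↔ Commute a b :=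
  (MulAut.conj x).injective.eq_iff.symm.trans (by simp only [map_mul]; rfl) |>.symm

theorem map_comm (hi : Function.Injective φ) {a b : K} : Commute (φ a) (φ b) ↔ Commute a b :=
  ⟨fun h => h.of_map hi, fun h => h.map φ⟩

theorem memZ (hi : Function.Injective φ) (h : v ∈ sb φ gW) (c : ∀ i, Commute (φ (gm i)) v) :
    v ∈ sb φ gZ := by
  obtain ⟨m, hm, rfl⟩ := tW.mem.1 h
  exact tZ.of (cZ m hm fun i _ => (c i).of_map hi)

theorem nZ (hi : Function.Injective φ) (hx : x ∈ 𝐍[sb φ gW]) (h : v ∈ sb φ gZ) :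
    x * v * x⁻¹ ∈ sb φ gZ :=
  memZ hi (conj_mem_of_mem_normalizer hx (Zp h).1) fun i => by
    simpa [mul_assoc] using (cj_comm (x := x)).2
      ((Zp h).2.2 _ (inv_conj_mem_of_mem_normalizer hx (gm_W i)))

/-- `x` permutes the four cosets as `σ` -/
def Pm (φ : K →* G) (x : G) (σ : Perm (Fin 4)) : Prop :=
  ∀ i, ∃ ζ ∈ sb φ gZ, x * φ (gm i) * x⁻¹ = φ (gm (σ i)) * ζ

theorem gm_comm (i j : Fin 4) : Commute (gm i) (gm j) ↔ j ≠ om i :=
  (all4 (all4 gmW i).2.2.2.2.2.2.2.2 j).1.trans Fin.val_ne_iff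

theorem ex_pm (hi : Function.Injective φ) (hx : x ∈ 𝐍[sb φ gW]) :
    ∃ σ, Pm φ x σ ∧ Commute σ om := by
  have hv : ∀ i, x * φ (gm i) * x⁻¹ ∈ sb φ gW := fun i => conj_mem_of_mem_normalizer hx (gm_W i)
  choose c hc ζ hζ e using fun i => cls (hv i)
  have cW : ∀ i, φ (c i) ∈ sb φ gW := fun i => tW.of (repW _ (hc i))
  have k : ∀ i j, Commute (c i) (c j) ↔ j ≠ om i := fun i j => by
    rw [← map_comm hi, ← comm_cls' (cW i) (cW j) (hζ i) (hζ j), ← e, ← e, cj_comm, map_comm hi, gm_comm]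
  have h1 : ∀ i, ∃ j, c i = gm j := fun i => by
    rcases f2 _ (hc i) (hi (by
        rw [map_mul, map_one]
        refine sq_cls (cW i) (hζ i) ?_
        rw [← e, conj_mul, ← map_mul, (all4 gmW i).2.2.1]; simp))
      _ (hc (ta i)) ((k _ _).2 (by revert i; decide)) _ (hc (om (ta i)))
      ((k _ _).2 (by revert i; decide)) (fun e => (k _ _).1 e rfl) with e1 | ⟨j, -, e1⟩
    · refine ((all4 gmW i).2.2.2.1 (tZ.mem' hi ?_)).elim
      have := nZ hi (inv_mem hx) (hζ i)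
      rwa [← one_mul (ζ i), ← map_one φ, ← e1, ← e, inv_inv, mul_assoc, inv_mul_cancel_right,
        inv_mul_cancel_left] at this
    · exact ⟨j, e1⟩
  choose s hs using h1
  have h2 : ∀ s : Fin 4 → Fin 4, (∀ i j, s j ≠ om (s i) ↔ j ≠ om i) →
      Function.Bijective s ∧ ∀ i, s (om i) = om (s i) := by decide +kernel
  obtain ⟨h3, h4⟩ := h2 s fun i j => by rw [← gm_comm, ← hs, ← hs, k]
  exact ⟨Equiv.ofBijective s h3, fun i => ⟨ζ i, hζ i, by rw [e, hs]; rfl⟩, Equiv.ext h4⟩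

theorem Pm.mul (hi : Function.Injective φ) (hx : x ∈ 𝐍[sb φ gW]) (h1 : Pm φ x σ) (h2 : Pm φ y τ) :
    Pm φ (x * y) (σ * τ) := fun i => by
  obtain ⟨ζ, hζ, e⟩ := h2 i
  obtain ⟨ξ, hξ, e'⟩ := h1 (τ i)
  refine ⟨_, mul_mem hξ (nZ hi hx hζ), ?_⟩
  rw [Perm.mul_apply, ← mul_assoc, ← e', conj_mul, ← e]; group

theorem Pm.uniq (hi : Function.Injective φ) (h1 : Pm φ x σ) (h2 : Pm φ x τ) : σ = τ :=
  Equiv.ext fun i => by
    obtain ⟨ζ, hζ, e⟩ := h1 i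
    obtain ⟨ξ, hξ, e'⟩ := h2 i
    refine Fin.ext ((all4 (all4 gmW _).2.2.2.2.2.2.2.2 _).2 (tZ.mem' hi ?_))
    rw [map_mul, map_inv, eq_mul_inv_of_mul_eq (e'.symm.trans e), mul_assoc, inv_mul_cancel_left]
    exact mul_mem hζ (inv_mem hξ)

theorem pm_W (h : v ∈ sb φ gW) : Pm φ v 1 := fun i => by
  obtain ⟨m, hm, rfl⟩ := tW.mem.1 h
  exact ⟨_, tZ.of ((sqV m hm).2.2.2.1 i (by revert i; decide)), by simp⟩

theorem pm_t : Pm φ (φ gt) ta := fun i =>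
  ⟨1, one_mem _, by rw [mul_one, ← (all4 gmW i).2.2.2.2.1]; simp⟩

theorem pm_w : Pm φ (φ gw) om := fun i =>
  ⟨1, one_mem _, by rw [mul_one, ← (all4 gmW i).2.2.2.2.2.1]; simp⟩

theorem Pm.ep (h : Pm φ x σ) (hc : Commute σ om) (i : Fin 4) : Cj x (φ (ep i)) (φ (ep (σ i))) := by
  obtain ⟨ζ, hζ, e⟩ := h i
  obtain ⟨ξ, hξ, e'⟩ := h (om i)
  rw [← (all4 gmW _).2.2.2.2.2.2.1, ← (all4 gmW _).2.2.2.2.2.2.1]
  simp only [map_mul, map_inv]
  rw [← comm_cls (gm_W (σ i)) (gm_W _) hζ hξ, ← e, show om (σ i) = σ (om i) from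
    (congrArg (· i) hc.eq).symm, ← e']
  unfold Cj; group

/-- a fixed element of `W` has an invariant class -/
theorem Pm.fix (hi : Function.Injective φ) (h : Pm φ x σ) {c : K} (hc : c ∈ reps) {ζ : G}
    (hζ : ζ ∈ sb φ gZ) (e : Commute x (φ c * ζ)) :
    ∀ i ∈ l4, Commute c (gm i) ↔ Commute c (gm (σ i)) := fun i _ => by
  obtain ⟨ξ, hξ, e'⟩ := h i
  have cW : φ c ∈ sb φ gW := tW.of (repW _ hc)
  rw [← map_comm hi, ← map_comm hi, ← comm_cls' cW (gm_W (σ i)) hζ hξ, ← e',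
    ← comm_cls' cW (gm_W _) hζ (one_mem _), mul_one, ← cj_comm (x := x), (Cj.of_comm e.eq : _ = _)]

theorem card_two {A B : Subgroup G} (h : ∀ x ∈ A, ∀ y ∈ A, x ∉ B → y ∉ B → x * y⁻¹ ∈ B) :
    Nat.card A ≤ 2 * Nat.card ↥(A ⊓ B) := by
  by_cases hA : A ≤ B
  · rw [inf_eq_left.2 hA]; omega
  obtain ⟨x, hx, hx'⟩ := SetLike.not_le_iff_exists.1 hA
  have h2 : B.relIndex A = 2 := by
    refine relIndex_eq_two_iff.2 ⟨x⁻¹, inv_mem hx, fun y hy => ?_⟩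
    by_cases hB : y ∈ B
    · exact Or.inr ⟨hB, fun e => hx' (by simpa using mul_mem (inv_mem e) hB)⟩
    · exact Or.inl ⟨h y hy x hx hB hx', hB⟩
  have := relIndex_mul_relIndex ⊥ _ _ bot_le (inf_le_left : A ⊓ B ≤ A)
  rw [relIndex_bot_left, relIndex_bot_left, inf_relIndex_left, h2] at this
  omega

theorem two_le {A B : Subgroup G} (h : A < B) : 2 * Nat.card A ≤ Nat.card B := by
  obtain ⟨c, hc⟩ := card_dvd_of_le h.le
  have h2 : Nat.card A < Nat.card B := Set.ncard_lt_ncard (show (A : Set G) ⊂ B from h)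
  have h3 : 2 ≤ c := by
    by_contra h3
    interval_cases c <;> omega
  rw [hc, mul_comm]
  exact Nat.mul_le_mul_left _ h3

theorem card_fib {A B : Subgroup G} (h : ∀ v ∈ A, v * x * v⁻¹ * x⁻¹ ∈ B) :
    Nat.card A ≤ Nat.card B * Nat.card ↥(A ⊓ centralizer {x}) := by
  classical
  let f : A → B := fun v => ⟨_, h v v.2⟩
  let s : A → A := fun v => Function.invFun f (f v)
  have hs : ∀ v : A, (s v).1 * x * (s v).1⁻¹ = v * x * v.1⁻¹ := fun v =>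
    mul_right_cancel (congrArg Subtype.val (Function.invFun_eq (f := f) ⟨v, rfl⟩))
  rw [← Nat.card_prod]
  refine Nat.card_le_card_of_injective (fun v => (f v, ⟨(s v).1⁻¹ * v, mem_inf.2
    ⟨mul_mem (inv_mem (s v).2) v.2, mem_centralizer_singleton_iff.2 ?_⟩⟩)) fun v v' e => ?_
  · rw [mul_assoc, inv_mul_eq_iff_eq_mul, ← mul_assoc, ← mul_assoc, hs, inv_mul_cancel_right]
  · have e1 : s v = s v' := congrArg (Function.invFun f) (congrArg Prod.fst e)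
    have e2 := congrArg (fun q => q.2.1) e
    simp only [e1] at e2
    exact Subtype.ext (mul_left_cancel e2)

/-- the setting -/
structure St (d : Dat G) (φ : K →* G) (ρ : G) : Prop where
  h : d.Cfg
  inj : Function.Injective φ
  t : φ gt = d.t
  SR : d.S ≤ φ.range
  cS : Nat.card d.S = 64
  o8 : φ (gw * ga) ∈ d.S
  nT : ∀ y ∈ sb φ gW, ¬ d.T y
  out : ∀ y, y * d.t ∈ sb φ gW → y * y = 1 → ∃ p ∈ sb φ gW, Cj p d.t y
  lO : ∀ n ∈ 𝐍[sb φ gW], (φ gu)⁻¹ * (n * φ gu * n⁻¹) ∈ sb φ gV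
  rz : Cj ρ (φ gz) (φ ga)
  ra : Cj ρ (φ ga) (φ ga * φ gz)
  re : Cj ρ (φ ge) (φ gf)
  rf : Cj ρ (φ gf) (φ ge * φ gf)⁻¹
  ru : Cj ρ (φ gu) (φ gu)
  rk : Cj ρ (φ gk) (φ gk)
  mX : ∀ g ∈ [gz, ge, ga, gf, gb, gg], φ g ∈ d.X

/-- a Sylow subgroup and the permutation action -/
structure SP (d : Dat G) (φ : K →* G) (ρ : G) (π : G → Perm (Fin 4)) (P : Subgroup G) : Prop
    extends St d φ ρ where
  pm : ∀ x ∈ 𝐍[sb φ gW], Pm φ x (π x)
  d8 : ∀ x ∈ 𝐍[sb φ gW], Commute (π x) om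
  syl : IsSyl 2 P ⊤
  le : φ.range ≤ P

variable {d : Dat G} {ρ : G} {π : G → Perm (Fin 4)} {P : Subgroup G}

theorem St.ex (s : St d φ ρ) : ∃ π P, SP d φ ρ π P := by
  classical
  have : ∀ x, ∃ σ, x ∈ 𝐍[sb φ gW] → Pm φ x σ ∧ Commute σ om := fun x => by
    by_cases hx : x ∈ 𝐍[sb φ gW]
    · exact (ex_pm s.inj hx).imp fun _ h _ => h
    · exact ⟨1, fun h => (hx h).elim⟩
  choose π hπ using this
  obtain ⟨P, h1, h2⟩ := exists_isSyl_ge
    ((pgrp hc).of_surjective _ φ.rangeRestrict_surjective) le_top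
  exact ⟨π, P, s, fun x hx => (hπ x hx).1, fun x hx => (hπ x hx).2, h1, h2⟩

theorem St.nU (s : St d φ ρ) (hx : x ∈ 𝐍[sb φ gW]) : x ∈ 𝐍[sb φ gU] := norm_sb (by
  simp only [List.forall_mem_cons, List.not_mem_nil, false_imp_iff, implies_true, and_true]
  exact ⟨V_U (nV hx (mem_sb (by simp))), V_U (nV hx (mem_sb (by simp))), by
    simpa using mul_mem (mem_sb (l := gU) (g := gu) (by simp)) (V_U (s.lO x hx))⟩)

theorem St.nk (s : St d φ ρ) (hx : x ∈ 𝐍[sb φ gW]) : x * φ gk * x⁻¹ * (φ gk)⁻¹ ∈ sb φ gU := by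
  obtain ⟨m, hm, e⟩ := tZ.mem.1 (nZ s.inj hx (mem_sb (g := gk) (by simp)))
  rcases (Zu m hm).1 with h | h
  · refine (msc.2.2.2.2.2.1 (tU.mem' s.inj ?_)).elim
    simpa [e, mul_assoc] using inv_conj_mem_of_mem_normalizer (s.nU hx) (tU.of h)
  · simpa [e] using tU.of (φ := φ) h

namespace SP

variable (s : SP d φ ρ π P)
include s

theorem mul (hx : x ∈ 𝐍[sb φ gW]) (hy : y ∈ 𝐍[sb φ gW]) : π (x * y) = π x * π y :=
  (s.pm _ (mul_mem hx hy)).uniq s.inj ((s.pm x hx).mul s.inj hx (s.pm y hy))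

theorem one (h : v ∈ sb φ gW) : π v = 1 := (s.pm _ (le_normalizer h)).uniq s.inj (pm_W h)

theorem inv (hx : x ∈ 𝐍[sb φ gW]) : π x⁻¹ = (π x)⁻¹ :=
  eq_inv_of_mul_eq_one_left (by rw [← s.mul (inv_mem hx) hx, inv_mul_cancel, s.one (one_mem _)])

theorem pt : π (φ gt) = ta := (s.pm _ (rN ⟨_, rfl⟩)).uniq s.inj pm_t

theorem pw : π (φ gw) = om := (s.pm _ (rN ⟨_, rfl⟩)).uniq s.inj pm_w

theorem rng (hx : x ∈ φ.range) (h : π x = 1 ∨ π x = ta) : x ∈ sb φ gW ∨ x * φ gt ∈ sb φ gW := by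
  obtain ⟨m, rfl⟩ := hx
  have k : ∀ g : K, Msk 768 (m * g) → π (φ m) * π (φ g) = 1 := fun g hg => by
    rw [← s.mul (rN ⟨_, rfl⟩) (rN ⟨_, rfl⟩), ← map_mul, s.one (tW.of hg)]
  rcases cas m with e | e | e | e
  · exact Or.inl (tW.of e)
  · exact Or.inr (map_mul φ _ _ ▸ tW.of e)
  · have := k _ e
    rw [s.pw] at this
    rcases h with h | h <;> rw [h] at this <;> exact absurd this (by decide)
  · have := k _ e
    rw [map_mul, s.mul (rN ⟨_, rfl⟩) (rN ⟨_, rfl⟩), s.pw, s.pt] at this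
    rcases h with h | h <;> rw [h] at this <;> exact absurd this (by decide)

theorem ker (hP : x ∈ P) (hx : x ∈ 𝐍[sb φ gW]) (h : π x = 1) : x ∈ sb φ gW := by
  have : Fact (Nat.Prime 2) := ⟨Nat.prime_two⟩
  let R : Subgroup G :=
    { carrier := {x | (x ∈ P ∧ x ∈ 𝐍[sb φ gW]) ∧ (π x = 1 ∨ π x = ta)}
      one_mem' := ⟨⟨one_mem _, one_mem _⟩, Or.inl (s.one (one_mem _))⟩
      mul_mem' := fun {a b} ha hb => ⟨⟨mul_mem ha.1.1 hb.1.1, mul_mem ha.1.2 hb.1.2⟩, by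
        rw [s.mul ha.1.2 hb.1.2]
        rcases ha.2 with h | h <;> rcases hb.2 with h' | h' <;> rw [h, h'] <;> decide⟩
      inv_mem' := fun {a} ha => ⟨⟨inv_mem ha.1.1, inv_mem ha.1.2⟩, by
        rw [s.inv ha.1.2]
        rcases ha.2 with h | h <;> rw [h] <;> decide⟩ }
  have tR : φ gt ∈ R ⊓ φ.range := ⟨⟨⟨s.le ⟨_, rfl⟩, rN ⟨_, rfl⟩⟩, Or.inr s.pt⟩, ⟨_, rfl⟩⟩
  have e : R ⊓ φ.range = R := eq_of_inf_normalizer_le (s.syl.pgrp.to_le fun _ h => h.1.1)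
    inf_le_left fun y hy => by
      have h1 := conj_mem_of_mem_normalizer hy.2 tR
      obtain ⟨q, hq, c⟩ := s.out _ (s.t ▸ (s.rng h1.2 h1.1.2).resolve_left fun e => msc.2.2.2.1
        (tW.mem' s.inj (by
          simpa [mul_assoc] using inv_conj_mem_of_mem_normalizer hy.1.1.2 e)))
        (by rw [conj_mul, s.h.tt]; simp)
      have qr : q ∈ φ.range := map_le_range _ _ hq
      have := s.SR (s.h.regS s.syl.pgrp (s.SR.trans s.le) (mul_mem (inv_mem (s.le qr)) hy.1.1.1)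
        (Cj.comp (show Cj y d.t _ from s.t ▸ rfl) c.symm))
      exact ⟨hy.1, by simpa using mul_mem qr this⟩
  refine (s.rng (e.ge (show x ∈ R from ⟨⟨hP, hx⟩, Or.inl h⟩)).2 (Or.inl h)).resolve_right fun e => ?_
  have := s.one e
  rw [s.mul hx (rN ⟨_, rfl⟩), h, s.pt] at this
  exact absurd this (by decide)

theorem ker' (hP : x ∈ P) (hx : x ∈ 𝐍[sb φ gW]) (hP' : y ∈ P) (hy : y ∈ 𝐍[sb φ gW])
    (h : π x = π y) : x * y⁻¹ ∈ sb φ gW :=
  s.ker (mul_mem hP (inv_mem hP')) (mul_mem hx (inv_mem hy)) (by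
    rw [s.mul hx (inv_mem hy), s.inv hy, h, mul_inv_cancel])

/-- an element acting as `ω` acts on `Z₁` as `w` -/
theorem om_Z (hP : x ∈ P) (hx : x ∈ 𝐍[sb φ gW]) (h : π x = om) (hv : v ∈ sb φ gZ) :
    x * v * x⁻¹ = φ gw * v * (φ gw)⁻¹ := by
  have h1 := s.ker' hP hx (s.le ⟨gw, rfl⟩) (rN ⟨_, rfl⟩) (h.trans s.pw.symm)
  rw [← (Cj.of_comm ((Zp (nZ s.inj (rN ⟨gw, rfl⟩) hv)).2.2 _ h1).eq : _ = _)]
  group

theorem mv_u (hP : x ∈ P) (hx : x ∈ 𝐍[sb φ gW]) (h : π x = et ∨ π x = et * om) :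
    ¬ Commute x (φ gu) := fun c => by
  have t1 : φ gt ∈ 𝐍[sb φ gW] := rN ⟨_, rfl⟩
  have t2 := s.le ⟨gt, rfl⟩
  have c1 : Cj (φ gt) (φ gu) (φ gu) := map_cj φ msc.2.2.2.2.2.2.1
  have h1 := s.om_Z (x := x * (φ gt * x * (φ gt)⁻¹)) (mul_mem hP (mul_mem (mul_mem t2 hP) (inv_mem t2)))
    (mul_mem hx (mul_mem (mul_mem t1 hx) (inv_mem t1))) (by
      rw [s.mul hx (mul_mem (mul_mem t1 hx) (inv_mem t1)), s.mul (mul_mem t1 hx) (inv_mem t1),
        s.mul t1 hx, s.inv t1, s.pt]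
      rcases h with h | h <;> rw [h] <;> decide) (mem_sb (g := gu) (by simp))
  have ct : Commute (φ gt) (φ gu) := c1.comm
  rw [(Cj.of_comm (c.mul_left ((ct.mul_left c).mul_left ct.inv_left)).eq : _ = _),
    (map_cj φ msc.2.2.2.2.2.2.2.1 : _ = _), s.inj.eq_iff, left_eq_mul] at h1
  exact msc.2.2.2.2.2.2.2.2.1 h1

/-- every `E₆₄` of `N_P(W)` lies in `W` -/
theorem e64 {F : Subgroup G} (hF : F ≤ P ⊓ 𝐍[sb φ gW]) (he : ∀ v ∈ F, v * v = 1)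
    (hc : Nat.card F = 64) : F ≤ sb φ gW := by
  have cm : ∀ a ∈ F, ∀ b ∈ F, Commute a b := fun a ha b hb =>
    comm_of_sq (fun a ha => by rw [sq, he a ha]) ha hb
  have sq : ∀ a ∈ F, π a * π a = 1 := fun a ha => by
    rw [← s.mul (hF ha).2 (hF ha).2, he a ha, s.one (one_mem _)]
  have cp : ∀ a ∈ F, ∀ b ∈ F, π a * π b = π b * π a := fun a ha b hb => by
    rw [← s.mul (hF ha).2 (hF hb).2, (cm a ha b hb).eq, s.mul (hF hb).2 (hF ha).2]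
  have k1 : ∀ a ∈ F, a ∉ sb φ gW → π a ≠ 1 := fun a ha h e => h (s.ker (hF ha).1 (hF ha).2 e)
  by_contra hh
  by_cases hw : ∃ x ∈ F, π x = om
  · obtain ⟨x, hx, e⟩ := hw
    have h1 : F ⊓ sb φ gW ≤ sb φ gV := fun v hv => by
      obtain ⟨c, hc, ζ, hζ, rfl⟩ := cls hv.2
      obtain rfl := f4 c hc (s.inj (by
        rw [map_mul, map_one]; exact sq_cls (tW.of (repW _ hc)) hζ (he _ hv.1)))
        ((e ▸ s.pm x (hF hx).2 : Pm φ x om).fix s.inj hc hζ (cm _ hx _ hv.1))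
      rw [map_one, one_mul] at hv ⊢
      have h2 := s.om_Z (hF hx).1 (hF hx).2 e hζ
      rw [(Cj.of_comm (cm _ hx _ hv.1).eq : _ = _)] at h2
      obtain ⟨m, hm, rfl⟩ := tZ.mem.1 hζ
      exact tV.of ((Zu m hm).2 ((map_comm s.inj).1 (Cj.comm h2.symm)))
    let f : F →* Perm (Fin 4) := MonoidHom.mk' (fun a => π a) fun a b => s.mul (hF a.2).2 (hF b.2).2
    have h2 := f.ker.card_mul_index
    rw [index_ker, hc] at h2
    have h3 : Nat.card f.ker ≤ 4 := by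
      rw [← card_map F.subtype_injective]
      refine (card_le_of_le ?_).trans (tV.card s.inj).le
      rintro _ ⟨a, ha, rfl⟩
      exact h1 ⟨a.2, s.ker (hF a.2).1 (hF a.2).2 ha⟩
    have h4 := card_subgroup_dvd_card f.range
    rw [Nat.card_perm, Nat.card_fin] at h4
    have h5 := Nat.le_of_dvd (by norm_num) (Nat.dvd_gcd h4 (Dvd.intro_left _ h2))
    rw [show Nat.gcd (Nat.factorial 4) 64 = 8 by decide] at h5
    nlinarith
  push Not at hw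
  obtain ⟨x, hx, hx'⟩ := SetLike.not_le_iff_exists.1 hh
  have h1 := card_two (A := F) (B := sb φ gW) fun a ha b hb a1 b1 => by
    have : ∀ a b : Perm (Fin 4), a * om = om * a → b * om = om * b → a * a = 1 → b * b = 1 →
        a * b = b * a → a ≠ 1 → b ≠ 1 → a ≠ om → b ≠ om → a * b ≠ om → a = b := by decide +kernel
    exact s.ker' (hF ha).1 (hF ha).2 (hF hb).1 (hF hb).2 (this _ _ (s.d8 _ (hF ha).2)
      (s.d8 _ (hF hb).2) (sq a ha) (sq b hb) (cp a ha b hb) (k1 a ha a1) (k1 b hb b1) (hw a ha)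
      (hw b hb) (s.mul (hF ha).2 (hF hb).2 ▸ hw _ (mul_mem ha hb)))
  have h0 : π x ∈ [ta, ta * om, et, et * om] := by
    have : ∀ a : Perm (Fin 4), a * om = om * a → a * a = 1 → a ≠ 1 → a ≠ om →
      a = ta ∨ a = ta * om ∨ a = et ∨ a = et * om := by decide +kernel
    simpa using this _ (s.d8 _ (hF hx).2) (sq x hx) (k1 x hx hx') (hw x hx)
  have h2 := card_two (A := F ⊓ sb φ gW) (B := sb φ gZ) fun a ha b hb a1 b1 => by
    obtain ⟨c, hc, ζ, hζ, rfl⟩ := cls ha.2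
    obtain ⟨r, hr, ξ, hξ, rfl⟩ := cls hb.2
    have cW : φ c ∈ sb φ gW := tW.of (repW _ hc)
    have rW : φ r ∈ sb φ gW := tW.of (repW _ hr)
    rcases f3 _ h0 c hc (s.inj (by rw [map_mul, map_one]; exact sq_cls cW hζ (he _ ha.1)))
      ((s.pm x (hF hx).2).fix s.inj hc hζ (cm _ hx _ ha.1)) r hr
      (s.inj (by rw [map_mul, map_one]; exact sq_cls rW hξ (he _ hb.1)))
      ((s.pm x (hF hx).2).fix s.inj hr hξ (cm _ hx _ hb.1))
      ((map_comm s.inj).1 ((comm_cls' cW rW hζ hξ).1 (cm _ ha.1 _ hb.1))) with rfl | rfl | rfl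
    · exact (a1 (by simpa using hζ)).elim
    · exact (b1 (by simpa using hξ)).elim
    · simpa [mul_assoc] using nZ s.inj (le_normalizer cW) (mul_mem hζ (inv_mem hξ))
  have h3 := two_le (A := F ⊓ sb φ gW ⊓ sb φ gZ) (lt_of_le_of_ne inf_le_right fun e => by
    have c : ∀ g ∈ gZ, Commute x (φ g) := fun g hg => cm _ hx _ (e.ge (mem_sb hg)).1.1
    simp only [List.mem_cons, List.not_mem_nil, or_false] at h0
    have k : π x 0 = 2 ∨ π x 0 = 3 → False := fun h => by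
      have h4 := (s.pm x (hF hx).2).ep (s.d8 _ (hF hx).2) 0
      have : ep (π x 0) = gz * ge := by
        rcases h with h | h <;> rw [h] <;> exact BD.of (by decide +kernel)
      rw [this, gmv.2.2.2.2.1] at h4
      exact msc.2.2.2.2.2.2.2.2.2.2.2.1 (s.inj (h4.unique (Cj.of_comm (c _ (by simp)).eq)))
    rcases h0 with h | h | h | h
    · exact k (by rw [h]; decide)
    · exact k (by rw [h]; decide)
    · exact s.mv_u (hF hx).1 (hF hx).2 (Or.inl h) (c _ (by simp))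
    · exact s.mv_u (hF hx).1 (hF hx).2 (Or.inr h) (c _ (by simp)))
  rw [tZ.card s.inj] at h3
  omega

end SP

end Cfsg.Agent.HSD.I0DT
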