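import Mathlib
import Cfsg.Agent.HSD.I0D1

/-! HSD/I0D2: weak closure of `W`, and the transfer arguments. -/

set_option autoImplicit false
set_option linter.unusedSectionVars false
set_option linter.unusedVariables false
set_option maxRecDepth 100000

namespace Cfsg.Agent.HSD.I0DT

open Cfsg Subgroup Cfsg.Agent.PLocal Cfsg.Agent.PLocal.Amb Cfsg.Agent.MacW
open Cfsg.Agent.Comp Cfsg.Agent.X32 Pc Equiv

variable {G : Type*} [Group G] [Finite G] {φ : K →* G} {v x y g : G}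
  {d : Dat G} {ρ : G} {π : G → Perm (Fin 4)} {P : Subgroup G}

theorem elAB : ∀ m : K, Msk 960 m ∨ Msk 816 m → m * m = 1 := BD.of (by decide +kernel)

theorem fgC : ∀ m ∈ [gm 0 * (gm 1)⁻¹, gm 1 * (gm 0)⁻¹], Msk 860 m ∧ Evn 160 m :=
  BD.of (by decide +kernel)

theorem epv : ∀ i ∈ l4, (ep i = ge ↔ i.val = 0 ∨ i.val = 1) := BD.of (by decide +kernel)

theorem xfer' {L Y R N : Subgroup G} (hL : ⁅L, L⁆ = L) (hY : IsSyl 2 Y L) (hN : Y ≤ 𝐍[N])
    (hc : ∀ x ∈ Y, ∀ y ∈ Y, x * y * x⁻¹ * y⁻¹ ∈ N) {u : G} (hu : u ∈ Y) (uu : u * u = 1)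
    (hR : IsPGroup 2 R) (hRL : R ≤ L) (hRu : ∀ r ∈ R, r * u = u * r)
    (h : ∀ g, cj(g, R) ≤ Y → g * u * g⁻¹ * u⁻¹ ∈ N) : u ∈ N := by
  have := normal_subgroupOf' hN
  let _ : CommGroup (Y ⧸ N.subgroupOf Y) :=
    { (inferInstance : Group (Y ⧸ N.subgroupOf Y)) with
      mul_comm := fun a b => by
        obtain ⟨a, rfl⟩ := QuotientGroup.mk_surjective a
        obtain ⟨b, rfl⟩ := QuotientGroup.mk_surjective b
        rw [← QuotientGroup.mk_mul, ← QuotientGroup.mk_mul, QuotientGroup.eq_iff_div_mem,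
          div_eq_mul_inv, mem_subgroupOf]
        simpa [mul_assoc] using hc a a.2 b b.2 }
  exact (QuotientGroup.eq_one_iff (N := N.subgroupOf Y) ⟨u, hu⟩).1
    (xfer hL hY (QuotientGroup.mk' (N.subgroupOf Y)) (hY.le hu) uu hR hRL hRu _ fun g _ _ e =>
      QuotientGroup.eq_iff_div_mem.2 (by rw [div_eq_mul_inv, mem_subgroupOf]; exact h g e))

theorem ab6 {P Q : Type*} [Group P] [Group Q] (μ : P →* Q) (π : P →* Perm (Fin 4))
    (hk : ∀ v, π v = 1 → (∀ x, Commute (μ v) (μ x)) ∧ μ v * μ v = 1) (d8 : ∀ x, Commute (π x) om)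
    {t w : P} (pt : π t = ta) (pw : π w = om) (ww : w * w = 1) {Y : Subgroup P}
    (hn : ∀ y ∈ Y, t * y * t⁻¹ ∈ Y) (nt : ∀ y ∈ Y, π y ≠ ta) {x y : P} (hx : x ∈ Y) (hy : y ∈ Y) :
    Commute (μ x) (μ y) := by
  have k1 : ∀ a b c : P, π b = π c → Commute (μ a) (μ c) → Commute (μ a) (μ b) := fun a b c e h => by
    rw [show b = b * c⁻¹ * c by group, map_mul]
    exact ((hk _ (by simp [e])).1 a).symm.mul_right h
  have k2 : ∀ a : P, π a = et ∨ π a = et * om → Commute (μ a) (μ (t * a * t⁻¹)) := fun a h => by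
    have h1 := hk (a * a) (by rw [map_mul]; rcases h with h | h <;> rw [h] <;> decide)
    have h2 := hk (a * (t * a * t⁻¹) * w⁻¹) (by
      simp only [map_mul, map_inv, pt, pw]; rcases h with h | h <;> rw [h] <;> decide)
    have h3 : μ (t * a * t⁻¹) * μ (t * a * t⁻¹) = μ a * μ a := by
      rw [← map_mul, conj_mul, map_mul, map_mul, ← (h1.1 t).eq, map_inv, mul_inv_cancel_right, map_mul]
    have h4 : μ a * μ (t * a * t⁻¹) * (μ a * μ (t * a * t⁻¹)) = 1 := by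
      rw [← map_mul, show a * (t * a * t⁻¹) = a * (t * a * t⁻¹) * w⁻¹ * w by group, map_mul, ← sq,
        (h2.1 w).mul_pow, sq, sq, h2.2, ← map_mul, ww, map_one, one_mul]
    have h5 := h1.2
    have h6 := (h1.1 (t * a * t⁻¹)).eq
    rw [map_mul] at h5 h6
    generalize μ (t * a * t⁻¹) = b at *
    generalize μ a = a at *
    calc a * b = a * b * (a * b * (a * b)) := by rw [h4, mul_one]
      _ = a * b := by rw [h4, mul_one]
      _ = b⁻¹ * a⁻¹ := by rw [← mul_inv_rev]; exact eq_inv_of_mul_eq_one_left h4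
      _ = b⁻¹ * (a * a * (a * a)) * a⁻¹ := by rw [h5, mul_one]
      _ = b⁻¹ * (b * b * (a * a)) * a⁻¹ := by rw [h3]
      _ = b * a := by group
  have k3 : ∀ a b : P, (∃ i ∈ [0, 1, 2, 3], π b = π a ^ i) ∨ ((π a = et ∨ π a = et * om) ∧
      (π b = ta * π a * ta⁻¹ ∨ π b = π a * (ta * π a * ta⁻¹))) → Commute (μ a) (μ b) := by
    rintro a b (⟨i, -, e⟩ | ⟨h, e | e⟩)
    · exact k1 a b (a ^ i) (by rw [e, map_pow]) (by rw [map_pow]; exact Commute.self_pow _ _)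
    · exact k1 a b _ (by simp [e, pt]) (k2 a h)
    · exact k1 a b (a * (t * a * t⁻¹)) (by simp [e, pt])
        (by rw [map_mul]; exact (Commute.refl _).mul_right (k2 a h))
  have k4 : ∀ a b : Perm (Fin 4), a * om = om * a → b * om = om * b → a ≠ ta → b ≠ ta → a * b ≠ ta →
      b * a ≠ ta → a * b * a⁻¹ ≠ ta → b * a * b⁻¹ ≠ ta →
      ((∃ i ∈ [0, 1, 2, 3], b = a ^ i) ∨ ((a = et ∨ a = et * om) ∧
        (b = ta * a * ta⁻¹ ∨ b = a * (ta * a * ta⁻¹)))) ∨ (∃ i ∈ [0, 1, 2, 3], a = b ^ i) ∨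
        ((b = et ∨ b = et * om) ∧ (a = ta * b * ta⁻¹ ∨ a = b * (ta * b * ta⁻¹))) := by
    set_option synthInstance.maxSize 2048 in decide +kernel
  rcases k4 _ _ (d8 x) (d8 y) (nt x hx) (nt y hy) (map_mul π _ _ ▸ nt _ (mul_mem hx hy))
    (map_mul π _ _ ▸ nt _ (mul_mem hy hx))
    (by simpa using nt _ (mul_mem (mul_mem hx hy) (inv_mem hx)))
    (by simpa using nt _ (mul_mem (mul_mem hy hx) (inv_mem hy))) with h | h
  exacts [k3 x y h, (k3 y x h).symm]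

namespace SP

variable (s : SP d φ ρ π P)
include s

theorem WP : sb φ gW ≤ P := (map_le_range _ _).trans s.le

theorem wc0 (h : cj(g, sb φ gW) ≤ P ⊓ 𝐍[sb φ gW]) : g ∈ 𝐍[sb φ gW] := by
  have k : ∀ {l : List K} {p : K → Prop}, Gen l p 64 → (∀ m, p m → m * m = 1) → (∀ m ∈ l, m ∈ gW) →
      ∀ m ∈ l, g * φ m * g⁻¹ ∈ sb φ gW := fun H h1 h2 m hm =>
    s.e64 ((cj_mono g (sb_le fun m hm => mem_sb (h2 m hm))).trans h) (fun v hv => by
      obtain ⟨y, hy, rfl⟩ := mem_cj_iff_exists.1 hv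
      obtain ⟨c, hc, rfl⟩ := H.mem.1 hy
      rw [conj_mul, ← map_mul, h1 c hc]; simp) ((card_cj _ _).trans (H.card s.inj))
      (conj_mem_cj g (mem_sb hm))
  have a := k tA (fun m h => elAB m (Or.inl h)) (by simp)
  have b := k tB (fun m h => elAB m (Or.inr h)) (by simp)
  simp only [List.forall_mem_cons] at a b
  refine norm_sb ?_
  simp only [List.forall_mem_cons]
  exact ⟨a.1, a.2.1, a.2.2.1, a.2.2.2.1, a.2.2.2.2.1, a.2.2.2.2.2.1, b.2.2.2.2⟩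

theorem PN : P ≤ 𝐍[sb φ gW] := by
  have : Fact (Nat.Prime 2) := ⟨Nat.prime_two⟩
  exact (eq_of_inf_normalizer_le s.syl.pgrp (inf_le_left (b := 𝐍[sb φ gW])) fun y hy => ⟨hy.1,
    s.wc0 (cj_le_of_mem_normalizer (le_inf s.WP le_normalizer) hy.2)⟩).ge.trans inf_le_right

theorem wc (h : cj(g, sb φ gW) ≤ P) : g ∈ 𝐍[sb φ gW] := s.wc0 (le_inf h (h.trans s.PN))

theorem fus (hv : v ∈ sb φ gZ) (hy : y ∈ sb φ gZ) (c : IsConj v y) :
    ∃ n ∈ 𝐍[sb φ gW], n * v * n⁻¹ = y := by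
  have : Fact (Nat.Prime 2) := ⟨Nat.prime_two⟩
  obtain ⟨g, rfl⟩ := isConj_iff.1 c
  have pW := s.syl.pgrp.to_le s.WP
  obtain ⟨R, hR, h1⟩ := exists_isSyl_ge pW (L := centralizer {g * v * g⁻¹})
    fun a ha => mem_centralizer_singleton_iff.2 ((Zp hy).2.2 a ha)
  obtain ⟨c, hc, h2⟩ := hR.exists_cj_le (isPGroup_cj g pW) (by
    rw [centralizer_singleton_conj]
    exact cj_mono g fun a ha => mem_centralizer_singleton_iff.2 ((Zp hv).2.2 a ha))
  obtain ⟨k, -, h3⟩ := s.syl.exists_cj_le hR.pgrp le_top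
  have h4 := s.wc ((cj_mono k h1).trans h3)
  have h5 := s.wc (g := k * (c * g)) (by rw [cj_mul, cj_mul]; exact (cj_mono k h2).trans h3)
  refine ⟨c * g, by simpa using mul_mem (inv_mem h4) h5, ?_⟩
  rw [← (Cj.of_comm (mem_centralizer_singleton_iff.1 hc) : _ = _)]
  group

theorem four (hx : x ∈ 𝐍[sb φ gW]) (i : Fin 4) :
    ∃ ζ ∈ sb φ gV, x * φ (gm i) * x⁻¹ = φ (gm (π x i)) * ζ := by
  obtain ⟨ζ, hζ, e⟩ := s.pm x hx i
  obtain ⟨m, hm, rfl⟩ := tZ.mem.1 hζ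
  refine ⟨_, tV.of ?_, e⟩
  obtain ⟨g, -, r, hr, h1, h2, h3, h4⟩ := all4 (f5 m hm) (π x i)
  obtain ⟨q, -, hq⟩ := (all4 gmW i).2.2.2.2.2.2.2.1
  have c1 : IsConj (φ ge) (φ (gm (π x i) * m)) := (s.re.isConj.trans (map_cj φ hq).isConj).trans
    (isConj_iff.2 ⟨x, by rw [e, map_mul]⟩)
  have c2 : Cj ρ (φ r) (φ r) := by
    simp only [List.mem_cons, List.not_mem_nil, or_false] at hr
    rcases hr with rfl | rfl | rfl | rfl
    exacts [map_one φ ▸ Cj.one ρ, s.ru, s.rk, map_mul φ _ _ ▸ s.ru.mul s.rk]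
  have k : ∀ a : K, Msk 1008 a → IsConj (φ ge) (φ a) → Msk 1020 a := fun a ha c => by
    obtain ⟨n, hn, e⟩ := s.fus (mem_sb (by simp)) (tZ.of ha) c
    exact tV.mem' s.inj (e ▸ nV hn (mem_sb (by simp)))
  refine h4 (h1.imp (fun h => k _ h2 ?_) fun h => k _ h3 ?_)
  · refine (c1.trans (map_cj φ h).isConj).trans ?_
    rw [map_mul, map_mul]
    exact (s.re.mul c2).isConj.symm
  · have a1 : ∀ r ∈ [1, gu, gk, gu * gk], Cj (gb * gg) ((ge * gf)⁻¹ * gf * ga * r) (ga * gz * r) ∧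
        ga * gz * ga * r = gz * r := BD.of (by decide +kernel)
    have a2 := ((s.rf.mul s.re).mul s.rz).mul c2
    have a3 := map_cj φ (a1 r hr).1
    have a4 := (s.ra.mul s.rz).mul c2
    have a5 := congrArg φ (a1 r hr).2
    simp only [map_mul, map_inv] at a3 a5
    refine (c1.trans (map_cj φ h).isConj).trans ?_
    simp only [map_mul]
    exact (a2.isConj.trans a3.isConj).trans (a5 ▸ a4.isConj)

theorem nY (hx : x ∈ 𝐍[sb φ gW]) : x ∈ 𝐍[sb φ gY] := by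
  have k : ∀ i, x * φ (gm i) * x⁻¹ ∈ sb φ gY := fun i => by
    obtain ⟨ζ, hζ, e⟩ := s.four hx i
    exact e ▸ mul_mem (tY.of (all4 gmW _).2.1) (U_Y (V_U hζ))
  have k' : ∀ m ∈ gU, x * φ m * x⁻¹ ∈ sb φ gY := fun m hm =>
    U_Y (conj_mem_of_mem_normalizer (s.nU hx) (mem_sb hm))
  refine norm_sb ?_
  simp only [List.forall_mem_cons, List.not_mem_nil, false_imp_iff, implies_true, and_true]
  refine ⟨k' _ (by simp), k' _ (by simp), k' _ (by simp), ?_, gmv.1 ▸ k 0, ?_, gmv.2.1 ▸ k 1⟩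
  · rw [gmv.2.2.2.2.2.2.1, map_mul, ← conj_mul]; exact mul_mem (k 2) (k 0)
  · rw [gmv.2.2.2.2.2.2.2, map_mul, ← conj_mul]; exact mul_mem (k 3) (k 1)

theorem T_sq (h : d.T x) : x * x = 1 := by
  obtain ⟨g, hg⟩ := h.exists
  rw [← (hg.mul hg : _ = _), s.h.tt]; group

theorem five_w (hP : x ∈ P) (h : π x = om) : ¬ d.T x := fun hT => by
  have h1 := s.ker' hP (s.PN hP) (s.le ⟨gw, rfl⟩) (rN ⟨_, rfl⟩) (h.trans s.pw.symm)
  obtain ⟨m, rfl⟩ : x ∈ φ.range := by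
    simpa using mul_mem (map_le_range _ _ h1) (⟨gw, rfl⟩ : φ gw ∈ φ.range)
  obtain ⟨⟨a1, a2⟩, a3, a4⟩ := ww m (tW.mem' s.inj (by
    rwa [← map_inv, inv_eq_of_mul_eq_one_left msc.2.1, ← map_mul] at h1))
    (s.inj (by rw [map_mul, s.T_sq hT, map_one]))
  obtain ⟨g, -, l⟩ := s.h.conjT hT (R := φ.range ⊓ centralizer {φ m})
    ((s.syl.pgrp.to_le s.le).to_inf_left) fun r hr => mem_centralizer_singleton_iff.1 hr.2
  have k : ∀ a b : K, Commute a m → a * a = b → b * b = 1 → b ≠ 1 → g * φ b * g⁻¹ = φ gz := by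
    intro a b c e b2 b1
    have h2 := l (conj_mem_cj g (show φ a ∈ _ from ⟨⟨a, rfl⟩, mem_centralizer_singleton_iff.2 (c.map φ)⟩))
    obtain ⟨n, hn⟩ := s.SR h2
    have h3 : φ (n * n) = g * φ b * g⁻¹ := by rw [map_mul, hn, conj_mul, ← map_mul, e]
    rcases sq4 n ((map_comm s.inj).1 (by
      rw [hn, s.t]; exact mem_centralizer_singleton_iff.1 (s.h.syl.le h2))) (s.inj (by
        rw [show n ^ 4 = n * n * (n * n) by simp only [pow_succ, pow_zero, one_mul, mul_assoc], map_mul, h3, conj_mul, ← map_mul, b2]; simp))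
      with e1 | e1
    · exact (b1 (s.inj (by simpa [e1] using h3.symm))).elim
    · rw [← h3, e1]
  have h4 := (k _ _ a3 a4 msc.2.2.2.2.2.2.2.2.2.2.2.2.2.2.2.2.2.2.1 msc.2.2.2.2.2.2.2.2.2.2.1).trans
    (k _ _ a1 a2 msc.2.2.2.2.2.2.2.2.2.2.2.2.2.1 msc.2.2.2.2.2.2.2.2.2.1).symm
  exact msc.2.2.2.2.2.2.2.2.2.2.2.1 (s.inj (mul_left_cancel (mul_right_cancel h4)))

theorem five_e (hP : x ∈ P) (h : π x = et) : ¬ d.T x := fun hT => by
  have hx := s.PN hP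
  have xx := s.T_sq hT
  have fV : ∀ v ∈ sb φ gV, x * v * x⁻¹ = v := fun v hv => by
    have a := (s.pm x hx).ep (s.d8 x hx) 0
    have b := (s.pm x hx).ep (s.d8 x hx) 2
    rw [h, (all4 epv (et 0)).2 (by decide), gmv.2.2.2.2.1] at a
    rw [h, show et 2 = 2 by decide, gmv.2.2.2.2.2.1, map_mul] at b
    refine Cj.of_comm (mem_centralizer_singleton_iff.1 (sb_le (H := centralizer {x}) ?_ hv)).symm
    simp only [List.forall_mem_cons, List.not_mem_nil, false_imp_iff, implies_true, and_true,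
      mem_centralizer_singleton_iff]
    exact ⟨(by simpa using b.mul a.inv : Cj x (φ gz) (φ gz)).comm.symm, a.comm.symm⟩
  have nC' : sb φ gW ≤ 𝐍[sb φ gC] := sb_le fun g hg => norm_sb fun m hm => by
    simpa using tC.of (φ := φ) (nC g hg m hm)
  let H : Subgroup G :=
    { carrier := {v | v ∈ sb φ gW ∧ v * x * v⁻¹ * x⁻¹ ∈ sb φ gC}
      one_mem' := ⟨one_mem _, by simp [one_mem]⟩
      mul_mem' := fun {a b} ha hb => ⟨mul_mem ha.1 hb.1, by
        convert mul_mem (conj_mem_of_mem_normalizer (nC' ha.1) hb.2) ha.2 using 1; group⟩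
      inv_mem' := fun {a} ha => ⟨inv_mem ha.1, by
        convert inv_conj_mem_of_mem_normalizer (nC' ha.1) (inv_mem ha.2) using 1; group⟩ }
  have k : ∀ a b : K, Msk 768 a → (Msk 860 (a * b⁻¹) ∧ Evn 160 (a * b⁻¹)) →
      (∃ ζ ∈ sb φ gV, x * φ a * x⁻¹ = φ b * ζ) → φ a ∈ H := by
    rintro a b ha hb ⟨ζ, hζ, e⟩
    refine ⟨tW.of ha, ?_⟩
    have := mul_mem (V_C (nV (le_normalizer (tW.of ha)) (inv_mem hζ))) (tC.of hb)
    rw [map_mul, map_inv, eq_mul_inv_of_mul_eq e.symm] at this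
    convert this using 1; group
  have k0 : ∀ a ∈ gW, Msk 768 a ∧ Msk 860 (a * a⁻¹) ∧ Evn 160 (a * a⁻¹) := BD.of (by decide +kernel)
  have k1 : ∀ i, φ (gm i) ∈ H := fun i => k _ (gm (π x i)) (all4 gmW i).1 (by
    rw [h]
    exact all4 (p := fun i => Msk 860 (gm i * (gm (et i))⁻¹) ∧ Evn 160 (gm i * (gm (et i))⁻¹))
      (BD.of (by decide +kernel)) i) (s.four hx i)
  have k2 : ∀ a ∈ gV, φ a ∈ H := fun a ha => by
    have : a ∈ gW := by revert a; simp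
    exact k a a (k0 a this).1 (k0 a this).2 ⟨1, one_mem _, by rw [fV _ (mem_sb ha), mul_one]⟩
  have hu := s.lO x hx
  have hk : ∃ ζ ∈ sb φ gV, x * φ gk * x⁻¹ = φ gk * ζ := by
    obtain ⟨m, hm, e⟩ := tU.mem.1 (s.nk hx)
    have kW : φ gk ∈ sb φ gW := mem_sb (by simp)
    have uW : φ gu ∈ sb φ gW := mem_sb (by simp)
    rcases (Uz m hm).2.2 with a | a
    · exact ⟨φ m, tV.of a, by rw [((Zp (V_Z (tV.of a))).2.2 _ kW).eq, e, inv_mul_cancel_right]⟩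
    refine (s.mv_u hP hx (Or.inl h) ?_).elim
    have hη := tV.of (φ := φ) a
    rw [map_mul, map_inv, e] at hη
    obtain ⟨η, hη', e1⟩ : ∃ η ∈ sb φ gV, x * φ gk * x⁻¹ = φ gu * η * φ gk := ⟨_, hη, by group⟩
    have e2 : x * (x * φ gk * x⁻¹) * x⁻¹ = φ gk := by
      rw [show x * (x * φ gk * x⁻¹) * x⁻¹ = x * x * φ gk * (x * x)⁻¹ by group, xx]; group
    rw [e1, ← conj_mul, ← conj_mul, fV _ hη', e1, ← mul_assoc, mul_eq_right,
      ((Zp (V_Z hη')).2.2 _ uW).eq, mul_assoc, ← mul_assoc η, (Zp (V_Z hη')).2.1, one_mul] at e2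
    have uu : φ gu * φ gu = 1 := (Zp (mem_sb (by simp))).2.1
    exact Cj.comm (mul_right_cancel (e2.trans uu.symm))
  have WH : sb φ gW ≤ H := sb_le (by
    simp only [List.forall_mem_cons, List.not_mem_nil, false_imp_iff, implies_true, and_true]
    refine ⟨k2 _ (by simp), k2 _ (by simp), k _ gu (k0 _ (by simp)).1 (k0 _ (by simp)).2 ⟨_, hu, by simp⟩,
      k _ gk (k0 _ (by simp)).1 (k0 _ (by simp)).2 hk, ?_, gmv.1 ▸ k1 0, ?_, gmv.2.1 ▸ k1 1⟩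
    · rw [gmv.2.2.2.2.2.2.1, map_mul]; exact mul_mem (k1 2) (k1 0)
    · rw [gmv.2.2.2.2.2.2.2, map_mul]; exact mul_mem (k1 3) (k1 1))
  have h1 := card_fib (x := x) fun v hv => (WH hv).2
  rw [tW.card s.inj, tC.card s.inj] at h1
  have h2 := two_le (A := sb φ gW ⊓ centralizer {x}) (B := (sb φ gW ⊓ centralizer {x}) ⊔ zpowers x)
    (left_lt_sup.2 fun e => absurd (h.symm.trans (s.one (zpowers_le.1 e).1)) (by decide))
  obtain ⟨g, -, l⟩ := s.h.conjT hT (R := (sb φ gW ⊓ centralizer {x}) ⊔ zpowers x)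
    (s.syl.pgrp.to_le (sup_le (inf_le_left.trans s.WP) (zpowers_le.2 hP))) fun r hr =>
      mem_centralizer_singleton_iff.1 (sup_le inf_le_right
        (zpowers_le.2 (mem_centralizer_singleton_iff.2 rfl)) hr)
  obtain ⟨r, hr, e⟩ := mem_cj_iff_exists.1
    ((eq_of_le_of_card_ge l (by rw [card_cj, s.cS]; omega)).ge s.o8)
  obtain ⟨a, ha, _, ⟨i, rfl⟩, rfl⟩ := (mem_sup_of_le_normalizer_right (inf_le_right.trans (by
    rw [← Amb.centralizer_zpowers]; exact centralizer_le_normalizer' _))).1 hr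
  obtain ⟨m, hm, rfl⟩ := tW.mem.1 ha.1
  refine msc.2.2.2.2.2.2.2.2.2.2.2.2.2.2.1 (s.inj ?_)
  have c : Commute (φ m) x := mem_centralizer_singleton_iff.1 ha.2
  rw [map_pow, ← e, conj_pow, (c.zpow_right i).mul_pow, ← map_pow, (sqV m hm).2.1, ← zpow_natCast,
    ← zpow_mul, mul_comm i, zpow_mul, zpow_natCast, show x ^ 4 = x * x * (x * x) by simp only [pow_succ, pow_zero, one_mul, mul_assoc], xx]
  simp

theorem memM (hx : x ∈ 𝐍[sb φ gW]) :
    x ∈ centralizer {φ ge} ↔ (π x 0).val = 0 ∨ (π x 0).val = 1 := by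
  have a := (s.pm x hx).ep (s.d8 x hx) 0
  rw [gmv.2.2.2.2.1] at a
  rw [← all4 epv, ← s.inj.eq_iff, ← (a : _ = _), mul_inv_eq_iff_eq_mul, mem_centralizer_singleton_iff]

theorem noT (hy : y ∈ P ⊓ centralizer {φ ge}) : ¬ d.T y := fun hT => by
  have : ∀ a : Perm (Fin 4), a * om = om * a → (a 0).val = 0 ∨ (a 0).val = 1 →
    a = 1 ∨ a = om ∨ a = et ∨ ta * a * ta⁻¹ = et := by decide +kernel
  have hN := s.PN hy.1
  have t1 : φ gt ∈ 𝐍[sb φ gW] := rN ⟨_, rfl⟩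
  have t2 := s.le ⟨gt, rfl⟩
  rcases this _ (s.d8 y hN) ((s.memM hN).1 hy.2) with e | e | e | e
  · exact s.nT y (s.ker hy.1 hN e) hT
  · exact s.five_w hy.1 e hT
  · exact s.five_e hy.1 e hT
  · exact s.five_e (mul_mem (mul_mem t2 hy.1) (inv_mem t2)) (by
      rw [s.mul (mul_mem t1 hN) (inv_mem t1), s.mul t1 hN, s.inv t1, s.pt, e]) (hT.cj rfl)

theorem false : False := by
  have t1 : φ gt ∈ 𝐍[sb φ gW] := rN ⟨_, rfl⟩
  have t2 := s.le ⟨gt, rfl⟩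
  have pW := s.syl.pgrp.to_le s.WP
  have hi : (P ⊓ centralizer {φ ge}).relIndex P = 2 := by
    rw [inf_relIndex_left]
    refine relIndex_eq_two_iff.2 ⟨_, t2, fun b hb => ?_⟩
    have : ∀ a : Perm (Fin 4), a * om = om * a → ((((a * ta) 0).val = 0 ∨ ((a * ta) 0).val = 1) ↔
      ¬ ((a 0).val = 0 ∨ (a 0).val = 1)) := by decide +kernel
    rw [s.memM (s.PN hb), s.memM (mul_mem (s.PN hb) t1), s.mul (s.PN hb) t1, s.pt]
    exact (xor_iff_iff_not).2 (this _ (s.d8 b (s.PN hb)))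
  have ht : d.t ∉ d.X := s.h.thompson s.syl inf_le_left hi s.h.tt (R := ⊥) IsPGroup.of_bot (by simp)
    fun g hg _ => s.noT hg (d.T_t.cj rfl)
  have ZX : ∀ y ∈ sb φ gZ, y ∈ d.X := fun y hy => s.h.mem_X s.syl inf_le_left hi (fun _ => s.noT)
    (Zp hy).2.1 pW (Zp hy).2.2 fun g h1 h2 => ⟨h1, mem_centralizer_singleton_iff.2
      ((Zp (mem_sb (by simp))).2.2 _ (Zp (nZ s.inj (s.wc h2) hy)).1)⟩
  have WX : sb φ gW ≤ d.X := sb_le (by
    have := s.mX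
    simp only [List.forall_mem_cons] at this ⊢
    exact ⟨this.1, this.2.1, ZX _ (mem_sb (by simp)), ZX _ (mem_sb (by simp)), this.2.2⟩)
  have kZ : φ gk ∈ sb φ gZ := mem_sb (by simp)
  have hN : P ≤ 𝐍[sb φ gY] := fun x hx => s.nY (s.PN hx)
  refine msc.2.2.2.2.1 (tY.mem' s.inj (xfer' s.h.perf (s.h.sylX s.syl) (inf_le_left.trans hN)
    (fun x hx y hy => ?_) ⟨s.WP (Zp kZ).1, ZX _ kZ⟩ (Zp kZ).2.1 pW WX (Zp kZ).2.2
    fun g hg => U_Y (s.nk (s.wc (hg.trans inf_le_left)))))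
  have := normal_subgroupOf' hN
  have nX := s.h.nX
  let μ := QuotientGroup.mk' ((sb φ gY).subgroupOf P)
  have hμ : ∀ a b : P, μ a = μ b ↔ a.1 * b.1⁻¹ ∈ sb φ gY := fun a b =>
    QuotientGroup.eq_iff_div_mem.trans (by rw [div_eq_mul_inv, mem_subgroupOf]; rfl)
  have h1 := ab6 μ (MonoidHom.mk' (fun a : P => π a) fun a b => s.mul (s.PN a.2) (s.PN b.2))
    (fun v hv => ?_) (fun a => s.d8 _ (s.PN a.2)) (t := ⟨_, t2⟩) (w := ⟨_, s.le ⟨gw, rfl⟩⟩) s.pt s.pw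
    (Subtype.ext (by simpa using congrArg φ msc.2.1)) (Y := d.X.subgroupOf P)
    (fun a ha => nX.conj_mem _ ha _) (fun a ha e => ht ?_) (x := ⟨x, hx.1⟩) (y := ⟨y, hy.1⟩) hx.2 hy.2
  · simpa [mul_assoc] using (hμ (⟨x, hx.1⟩ * ⟨y, hy.1⟩) (⟨y, hy.1⟩ * ⟨x, hx.1⟩)).1
      (by simpa only [map_mul] using h1.eq)
  · obtain ⟨m, hm, e⟩ := tW.mem.1 (s.ker v.2 (s.PN v.2) hv)
    rcases (sqV m hm).2.2.2.2 with a | a
    · rw [(hμ v 1).2 (by simpa [e] using tY.of (φ := φ) a), map_one]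
      exact ⟨fun _ => Commute.one_left _, mul_one 1⟩
    · rw [(hμ v ⟨_, s.WP (Zp kZ).1⟩).2 (by simpa [e] using tY.of (φ := φ) a)]
      refine ⟨fun x => ((hμ (x * _) (_ * x)).2 ?_).symm, ?_⟩
      · simpa [mul_assoc] using U_Y (s.nk (s.PN x.2))
      · rw [← map_mul, ← map_one μ]; exact congrArg μ (Subtype.ext (Zp kZ).2.1)
  · simpa [s.t] using mul_mem (inv_mem (WX (s.ker' a.2 (s.PN a.2) t2 t1 (e.trans s.pt.symm))))
      (mem_subgroupOf.1 ha)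

end SP

theorem St.false (s : St d φ ρ) : False :=
  let ⟨_, _, h⟩ := s.ex; h.false

end Cfsg.Agent.HSD.I0DT
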