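import Cfsg.Agent.HSD.I1e

/-! Type (I, I), `4 × 4 × 4` layers: the table `s = true` contradicts `noQ8`. -/

set_option autoImplicit false
set_option linter.unusedSectionVars false
set_option linter.unusedVariables false
set_option linter.unusedSimpArgs false
set_option maxRecDepth 100000
set_option synthInstance.maxSize 4000

namespace Cfsg.Agent.HSD.I1

open Cfsg Subgroup Cfsg.Agent.PLocal Cfsg.Agent.PLocal.Amb Cfsg.Agent.MacW
open Cfsg.Agent.Comp Cfsg.Agent.X32 Pc Dat.Cfg

variable {G : Type*} [Group G] [Finite G] {d : Dat G} {e k f ρ o c l w : G}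

theorem frat {P C R : Subgroup G} (hP : IsSyl 2 P ⊤) (hC : P ≤ 𝐍[C]) (hR : IsPGroup 2 R) {g : G}
    (h : cj(g, R) ≤ P ⊔ C) : ∃ c ∈ C, ∀ r ∈ R, ∀ r' ∈ P, g * r * g⁻¹ * r'⁻¹ ∈ C →
      c * g * r * (c * g)⁻¹ * r'⁻¹ ∈ P ⊓ C := by
  have : Fact (Nat.Prime 2) := ⟨Nat.prime_two⟩
  obtain ⟨m, hm, a⟩ := (hP.mono le_sup_left le_top).exists_cj_le (isPGroup_cj g hR) h
  obtain ⟨p, hp, c, hc, rfl⟩ := (mem_sup_of_le_normalizer_right hC).1 hm
  refine ⟨c, hc, fun r hr r' hr' b => mem_inf.2 ⟨?_, ?_⟩⟩
  · convert mul_mem (mul_mem (mul_mem (inv_mem hp) (a (conj_mem_cj _ (conj_mem_cj g hr)))) hp)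
      (inv_mem hr') using 1
    group
  · convert mul_mem (mul_mem hc b) (conj_mem_of_mem_normalizer (hC hr') (inv_mem hc)) using 1
    group

theorem stb_norm {A V : Subgroup G} (h : V ≤ A) {g : G} (hg : ∀ y ∈ A, g * y * g⁻¹ * y⁻¹ ∈ V) :
    g ∈ 𝐍[A] := mem_normalizer_fintype fun y hy => by simpa using mul_mem (h (hg y hy)) hy

/-- the elements acting trivially on `A / V` -/
def stb {A V : Subgroup G} (h : V ≤ A) : Subgroup G where
  carrier := {g | ∀ y ∈ A, g * y * g⁻¹ * y⁻¹ ∈ V}
  one_mem' y _ := by simp
  mul_mem' {a b} ha hb y hy := by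
    convert mul_mem (mul_mem (ha _ (h (hb y hy))) (hb y hy)) (ha y hy) using 1
    group
  inv_mem' {a} ha y hy := by
    convert inv_mem (ha _ (inv_conj_mem_of_mem_normalizer (stb_norm h ha) hy)) using 1
    group

theorem norm_stb {A V : Subgroup G} (h : V ≤ A) {g : G} (h1 : g ∈ 𝐍[A]) (h2 : g ∈ 𝐍[V]) :
    g ∈ 𝐍[stb h] := mem_normalizer_fintype fun c hc y hy => by
  convert conj_mem_of_mem_normalizer h2 (hc _ (inv_conj_mem_of_mem_normalizer h1 hy)) using 1
  group

open I1T

def oT : ℕ := 0x2ee02ef00e500e402ea02eb00e100e002e602e700ec00ed02e202e300e800e9000000000000000000000000000000000000000000000000000000000000000002ce02cf00c500c402ca02cb00c100c002c602c700cc00cd02c202c300c800c9000000000000000000000000000000000000000000000000000000000000000002a402a500af00ae02a002a100ab00aa02ad02ac00a700a602a902a800a300a2000000000000000000000000000000000000000000000000000000000000000002840285008f008e02800281008b008a028d028c0087008602890288008300820000000000000000000000000000000000000000000000000000000000000000026e026f00650064026a026b006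1006002660267006c006d02620263006800690000000000000000000000000000000000000000000000000000000000000000024e024f00450044024a024b0041004002460247004c004d0242024300480049000000000000000000000000000000000000000000000000000000000000000002240225002f002e02200221002b002a022d022c002700260229022800230022000000000000000000000000000000000000000000000000000000000000000002040205000f000e02000201000b000a020d020c0007000602090208000300020000000000000000000000000000000000000000000000000000000000000000000000000000000000000000000000000000000000000000000000000000000000000000000000000000000000000000000000000000000000000000000000000000000000000000000000000000000000000000000000000000000000000000000000000000000000000000000000000000000000000000000000000000000000000000000000000000000000000000000000000000000000000000000000000000000000000000000000000000000000000000000000000000000000000000000000000000000000000000000000000000000000000000000000000000000000000000000000000000000000000000000000000000000000000000000000000000000000000000000000000000000000000000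000000000000000000000000000000000000000000000000000000000000000000000000000000000000000000000000000000000000000000000000000000000000000000000000000000000000000000000000000000000000000000000000000000000000000000000000000000000000000000000000000000000000000000000000000000000000000000000000000000000000000000000000000000000000000000000000000000000000000000000000000000000000000000000000000000000000000000000000000000000000000000000000000000000000000000000000000000000000000002ed02ec00e700e602e902e800e300e202e502e400ee00ef02e102e000ea00eb000000000000000000000000000000000000000000000000000000000000000002cd02cc00c700c602c902c800c300c202c502c400ce00cf02c102c000ca00cb000000000000000000000000000000000000000000000000000000000000000002a702a600ad00ac02a302a200a900a802ae02af00a500a402aa02ab00a100a0000000000000000000000000000000000000000000000000000000000000000002870286008d008c0283028200890088028e028f00850084028a028b008100800000000000000000000000000000000000000000000000000000000000000000026d026c00670066026902680063006202650264006e006f02610260006a006b0000000000000000000000000000000000000000000000000000000000000000024d024c00470046024902480043004202450244004e004f02410240004a004b000000000000000000000000000000000000000000000000000000000000000002270226002d002c0223022200290028022e022f00250024022a022b00210020000000000000000000000000000000000000000000000000000000000000000002070206000d000c0203020200090008020e020f00050004020a020b00010000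
def sT : ℕ := 0xd800d800da00da0016001600140014001a001a0018001800d400d400d600d601f001f001f201f20136013601340134013a013a0138013801fc01fc01fe01fe000000000000000000000000000000000000000000000000000000000000000000000000000000000000000000000000000000000000000000000000000000000000000000000000000000000000000000000000000000000000000000000000000000000000000000000000000000000000000000000000000000000000000000b200b200b000b0007c007c007e007e007000700072007200be00be00bc00bc01980198019a019a015e015e015c015c015201520150015001940194019601960000000000000000000000000000000000000000000000000000000000000000000000000000000000000000000000000000000000000000000000000000000000ba00ba00b800b8007400740076007600780078007a007a00b600b600b400b40192019201900190015401540156015601580158015a015a019e019e019c019c00d000d000d200d2001e001e001c001c001200120010001000dc00dc00de00de01fa01fa01f801f8013c013c013e013e013001300132013201f601f601f401f4000000000000000000000000000000000000000000000000000000000000000000000000000000000000000000000000000000000000000000000000000000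000000000000000000000000000000000000000000000000000000000000000000000000000000000000000000000000000000000000000000000000000000000001ee01ee01ec01ec012a012a01280128012601260124012401e201e201e001e000c400c400c600c600080008000a000a000400040006000600c800c800ca00ca01860186018401840142014201400140014e014e014c014c018a018a0188018800ae00ae00ac00ac0062006200600060006e006e006c006c00a200a200a000a00000000000000000000000000000000000000000000000000000000000000000000000000000000000000000000000000000000000000000000000000000000001460146014401440182018201800180018e018e018c018c014a014a01480148006400640066006600a800a800aa00aa00a400a400a600a600680068006a006a0000000000000000000000000000000000000000000000000000000000000000000000000000000000000000000000000000000000000000000000000000000000000000000000000000000000000000000000000000000000000000000000000000000000000000000000000000000000000000000000000000000000000000012e012e012c012c01ea01ea01e801e801e601e601e401e40122012201200120000e000e000c000c00c200c200c000c000ce00ce00cc00cc0002000200000000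
def xT : ℕ := 0xc700c600c600c7001e001f001f001e001100100010001100c800c900c900c8012501240124012501f501f401f401f501fb01fa01fa01fb012b012a012a012b00000000000000000000000000000000000000000000000000000000000000000000000000000000000000000000000000000000000000000000000000000000000000000000000000000000000000000000000000000000000000000000000000000000000000000000000000000000000000000000000000000000000000000189018801880189015901580158015901560157015701560186018701870186006200630063006200b900b800b800b900b700b600b600b7006c006d006d006c0000000000000000000000000000000000000000000000000000000000000000000000000000000000000000000000000000000000000000000000000000000000b000b100b100b0006b006a006a006b006500640064006500be00bf00bf00be01510150015001510180018101810180018e018f018f018e015f015e015e015f01fc01fd01fd01fc012d012c012c012d012201230123012201f301f201f201f3001700160016001700ce00cf00cf00ce00c100c000c000c10018001900190018000000000000000000000000000000000000000000000000000000000000000000000000000000000000000000000000000000000000000000000000000000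0000000000000000000000000000000000000000000000000000000000000000000000000000000000000000000000000000000000000000000000000000000000000800090009000800d000d100d100d000de00df00df00de000700060006000701e201e301e301e20130013101310130013f013e013e013f01ec01ed01ed01ec014e014f014f014e019c019d019d019c0193019201920193014001410141014000ac00ad00ad00ac0076007700770076007800790079007800a300a200a200a30000000000000000000000000000000000000000000000000000000000000000000000000000000000000000000000000000000000000000000000000000000000aa00ab00ab00aa0071007000700071007f007e007e007f00a500a400a400a50148014901490148019a019b019b019a01940195019501940147014601460147000000000000000000000000000000000000000000000000000000000000000000000000000000000000000000000000000000000000000000000000000000000000000000000000000000000000000000000000000000000000000000000000000000000000000000000000000000000000000000000000000000000000000001e401e501e501e40136013701370136013801390139013801eb01ea01ea01eb000f000e000e000f00d600d700d700d600d800d900d900d80000000100010000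

abbrev Qp (x : K) : Prop := Msk 272 x ∧ Evn 480 x
abbrev Kp (x : K) : Prop := Msk 512 x ∧ Evn 480 x
noncomputable abbrev gQ : List K := [kz, kb, ku, ke, kh * kt, kh * kk, ka]
noncomputable abbrev gK : List K := [kz, kb, ku, ke, kf, kh * kt, kh * kk, kh * kl]
noncomputable abbrev th0 (q : K) : K := lkE oT (kl * lkE oT (kl * lkE oT q * kl⁻¹) * kl⁻¹)

variable {φ : K →* G}

theorem memQ {g : G} : g ∈ sub φ gQ ↔ ∃ k, Qp k ∧ φ k = g := mem_sub (BD.of (by decide +kernel))
theorem memK {g : G} : g ∈ sub φ gK ↔ ∃ k, Kp k ∧ φ k = g := mem_sub (BD.of (by decide +kernel))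
theorem memV {g : G} : g ∈ sub φ [kz, kb] ↔ ∃ k, Msk 1020 k ∧ φ k = g :=
  mem_sub (BD.of (by decide +kernel))
theorem V_le : sub φ [kz, kb] ≤ sub φ gK := closure_mono (Set.image_mono fun x hx => by
  simp only [Set.mem_ofPred_eq, List.mem_cons] at hx ⊢; tauto)

theorem t_n : ∀ g ∈ (ks : List K), (∀ s ∈ gQ, Qp (g * s * g⁻¹)) ∧ (∀ s ∈ gK, Kp (g * s * g⁻¹)) ∧
    ∀ s ∈ ([kz, kb] : List K), Msk 1020 (g * s * g⁻¹) := BD.of (by decide +kernel)
theorem nQ : φ.range ≤ 𝐍[sub φ gQ] := ffT.le fun g hg => norm_sub fun s hs =>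
  memQ.2 ⟨_, (t_n g hg).1 s hs, by simp only [map_mul, map_inv]⟩
theorem nK : φ.range ≤ 𝐍[sub φ gK] := ffT.le fun g hg => norm_sub fun s hs =>
  memK.2 ⟨_, (t_n g hg).2.1 s hs, by simp only [map_mul, map_inv]⟩
theorem nV : φ.range ≤ 𝐍[sub φ [kz, kb]] := ffT.le fun g hg => norm_sub fun s hs =>
  memV.2 ⟨_, (t_n g hg).2.2 s hs, by simp only [map_mul, map_inv]⟩

/-- action on `K_Y / V₂` -/
def AcV (φ : K →* G) (g : G) (O : K → K) : Prop := g ∈ 𝐍[sub φ [kz, kb]] ∧
  ∀ y, Kp y → Kp (O y) ∧ g * φ y * g⁻¹ * (φ (O y))⁻¹ ∈ sub φ [kz, kb]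

section
variable {g g' : G} {O O' : K → K}

theorem AcV.of (h : ∀ y, Kp y → g * φ y * g⁻¹ * (φ (O y))⁻¹ ∈ sub φ [kz, kb])
    (h' : (∀ y, Kp y → Kp (O y)) ∧ ∀ s ∈ ([kz, kb] : List K), Kp s ∧ Msk 1020 (O s)) : AcV φ g O :=
  ⟨norm_sub fun s hs => by
    simpa using mul_mem (h s (h'.2 s hs).1) (memV.2 ⟨_, (h'.2 s hs).2, rfl⟩),
    fun y hy => ⟨h'.1 y hy, h y hy⟩⟩

theorem AcV.comp (h : AcV φ g O) (h' : AcV φ g' O') : AcV φ (g * g') fun y => O (O' y) :=
  ⟨mul_mem h.1 h'.1, fun y hy => ⟨(h.2 _ (h'.2 y hy).1).1, by
    convert mul_mem (conj_mem_of_mem_normalizer h.1 (h'.2 y hy).2) (h.2 _ (h'.2 y hy).1).2 using 1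
    group⟩⟩

theorem AcV.congr (h : AcV φ g O) (e : ∀ y, Kp y → Kp (O' y) ∧ Msk 1020 (O y * (O' y)⁻¹)) :
    AcV φ g O' := ⟨h.1, fun y hy => ⟨(e y hy).1, by
  convert mul_mem (h.2 y hy).2 (memV.2 ⟨_, (e y hy).2, rfl⟩) using 1
  simp⟩⟩

theorem AcV.norm (h : AcV φ g O) : g ∈ 𝐍[sub φ gK] := mem_normalizer_fintype fun _ hx => by
  obtain ⟨y, hy, rfl⟩ := memK.1 hx
  simpa using mul_mem (V_le (h.2 y hy).2) (memK.2 ⟨_, (h.2 y hy).1, rfl⟩)

theorem AcV.cent (h : AcV φ g O) (h' : AcV φ g' O) : g * g'⁻¹ ∈ stb (V_le (φ := φ)) := fun y hy => by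
  obtain ⟨x, hx, e⟩ := memK.1 (inv_conj_mem_of_mem_normalizer h'.norm hy)
  convert mul_mem (h.2 x hx).2 (inv_mem (h'.2 x hx).2) using 1
  rw [e]; group

theorem AcV.stb (hc : g' ∈ stb (V_le (φ := φ))) (h : AcV φ g O) : AcV φ (g' * g) O :=
  AcV.comp (O := id) ⟨stb_norm le_rfl fun y hy => hc y (V_le hy),
    fun y hy => ⟨hy, hc _ (memK.2 ⟨y, hy, rfl⟩)⟩⟩ h

theorem AcV.inner (m : K) (h : (∀ y, Kp y → Kp (m * y * m⁻¹)) ∧
    ∀ s ∈ ([kz, kb] : List K), Kp s ∧ Msk 1020 (m * s * m⁻¹)) : AcV φ (φ m) fun y => m * y * m⁻¹ :=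
  .of (fun y _ => by simp) h

end

theorem t_o : ∀ k : K, Msk 272 k → (k = 1 ∧ lkE oT k = 1) ∨ ∃ s ∈ [kz, kb, ku, ke, kh, kt, kk, ka],
    Msk 272 (s * k) ∧ (s * k).v < k.v ∧ lkE oT (s * k) = lkE oT s * lkE oT k := BD.of (by decide +kernel)
theorem t_q : ∀ q : K, Qp q → Msk 272 (kl * lkE oT q * kl⁻¹ : K) ∧
    Msk 272 (kl * lkE oT (kl * lkE oT q * kl⁻¹) * kl⁻¹ : K) ∧ Qp (th0 q) := BD.of (by decide +kernel)
theorem t_s : ∀ y : K, Kp y → ∀ q ∈ gQ, Qp q ∧ Qp (y * q * y⁻¹) ∧
    Cj (lkE sT y) (th0 q) (th0 (y * q * y⁻¹)) := BD.of (by decide +kernel)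
theorem t_c : ∀ n : K, (∀ q ∈ gQ, q * n = n * q) → Msk 1020 n := BD.of (by decide +kernel)
theorem t_k : ∀ g ∈ gK, ∀ y : K, Kp y → Msk 1020 (g * y * g⁻¹ * y⁻¹) := BD.of (by decide +kernel)
theorem t_j : ∀ j : K, (∀ g ∈ gK, Msk 1020 (j * g * j⁻¹ * g⁻¹)) → j * (kt * ka) * (j * (kt * ka)) = 1 →
    ∃ r, Kp r ∧ Cj r (j * (kt * ka)) (kt * ka) := BD.of (by decide +kernel)
theorem t_p : ∀ v : K, Msk 1020 v → ∀ p ∈ [v * lkE xT ku * ku⁻¹], Kp p ∧ p * p ≠ 1 ∧
    ¬ Msk 1020 (p * (lkE xT p)⁻¹) ∧ ¬ Msk 1020 (p⁻¹ * (lkE xT p)⁻¹) := BD.of (by decide +kernel)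

theorem sigma (h : d.Cfg) (J : TI d e k f ρ o c l true) (H : TH d φ e f k c l)
    (hP : IsSyl 2 φ.range ⊤) : ∃ σ, AcV φ σ (lkE sT) := by
  obtain ⟨p0, p1, p2, p3, p4, p5, p6, p7, p8, p9⟩ := H.all
  have ao : ∀ x, Msk 272 x → Cj o (φ x) (φ (lkE oT x)) := act_tab φ o _ _ _ (by
    have ee : e * e = d.z := J.lay.ee
    have : (kz : K) = lkE oT kz ∧ (ka * kb * ke : K) = lkE oT kb ∧ (ku : K) = lkE oT ku ∧
      (ke : K) = lkE oT ke ∧ (kh : K) = lkE oT kh ∧ (kt * kb * ke : K) = lkE oT kt ∧
      (kk : K) = lkE oT kk ∧ (kb : K) = lkE oT ka := BD.of (by decide +kernel)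
    obtain ⟨a1, a2, a3, a4, a5, a6, a7, a8⟩ := this
    simp only [List.forall_mem_cons, List.not_mem_nil, false_imp_iff, implies_true, and_true, ← a1,
      ← a2, ← a3, ← a4, ← a5, ← a6, ← a7, ← a8, map_mul, ← p0, ← p1, ← p2, ← p3, ← p5, ← p6, ← p7, ← p9]
    exact ⟨ee ▸ J.oe.mul J.oe, J.aco.b, J.aco.u, J.oe, J.oh, J.aco.t, J.ok, J.aco.a⟩) t_o
  set g := o * (φ kl * (o * (φ kl * o)))
  have ag : ∀ q, Qp q → Cj g (φ q) (φ (th0 q)) := fun q hq =>
    ((((ao q hq.1).comp (map_cj φ rfl)).comp (ao _ (t_q q hq).1)).comp (map_cj φ rfl)).comp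
      (ao _ (t_q q hq).2.1)
  have ng : g ∈ 𝐍[sub φ gQ] := mem_normalizer_fintype fun _ hx => by
    obtain ⟨y, hy, rfl⟩ := memQ.1 hx
    exact memQ.2 ⟨_, (t_q y hy).2.2, Eq.symm (ag y hy)⟩
  have key : ∀ y, Kp y → g * φ y * g⁻¹ * (φ (lkE sT y))⁻¹ ∈ 𝐂[sub φ gQ] := fun y hy => by
    have a : g⁻¹ * ((φ (lkE sT y))⁻¹ * (g * φ y)) ∈ 𝐂[sub φ gQ] := mem_cent_closure (by
      rintro _ ⟨q, hq, rfl⟩
      obtain ⟨b1, b2, b3⟩ := t_s y hy q hq
      exact (((map_cj φ rfl).comp (ag _ b2)).comp (map_cj φ b3).symm).comp (ag q b1).symm)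
    convert conj_mem_of_mem_normalizer (normalizer_le_normalizer_centralizer _
      (mul_mem (nQ ⟨lkE sT y, rfl⟩) ng)) a using 1
    group
  obtain ⟨x, -, hx⟩ := frat hP (le_normalizer_centralizer nQ) (hP.pgrp.to_le (sub_le φ gK)) (g := g)
    (cj_le_iff_forall.2 fun _ hx => by
      obtain ⟨y, hy, rfl⟩ := memK.1 hx
      simpa using mul_mem (mem_sup_right (key y hy) : _ ∈ φ.range ⊔ _) (mem_sup_left ⟨lkE sT y, rfl⟩))
  refine ⟨x * g, .of (fun y hy => ?_) (BD.of (by decide +kernel))⟩
  obtain ⟨⟨n, hn⟩, b⟩ := hx _ (memK.2 ⟨y, hy, rfl⟩) _ ⟨_, rfl⟩ (key y hy)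
  exact memV.2 ⟨n, t_c n fun q hq => H.inj (by rw [map_mul, map_mul, hn]; exact b _ (gen_sub hq)), hn⟩

theorem caseT (h : d.Cfg) (W : d.E2 w) (J : TI d e k f ρ o c l true) : False := by
  obtain ⟨φ, H⟩ := thT h J
  obtain ⟨p0, p1, p2, p3, p4, p5, p6, p7, p8, p9⟩ := H.all
  have hP := ffT.syl h H J W
  obtain ⟨σ, S⟩ := sigma h J H hP
  have R : AcV φ ρ (lkE cT) := .of (fun y hy => by
    rw [show ρ * φ y * ρ⁻¹ = _ from ffT.act h H J y hy.1]; simp) (BD.of (by decide +kernel))
  have A : AcV φ _ _ := .inner ka (BD.of (by decide +kernel))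
  have B : AcV φ _ _ := .inner (kt * ka) (BD.of (by decide +kernel))
  have X := (R.comp (A.comp (S.comp (R.comp (S.comp (S.comp R)))))).congr (O' := lkE xT)
    (BD.of (by decide +kernel))
  generalize ρ * (φ ka * (σ * (ρ * (σ * (σ * ρ))))) = x at X
  have c1 := ((X.comp B).congr (BD.of (by decide +kernel))).cent (B.comp X)
  set τ := φ (kt * ka) with hτ
  have tt : τ * τ = 1 := by
    rw [hτ, ← map_mul, show (kt * ka * (kt * ka) : K) = 1 from BD.of (by decide +kernel), map_one]
  have c2 : x * τ * x⁻¹ * τ⁻¹ ∈ stb (V_le (φ := φ)) := by simpa [mul_assoc] using c1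
  obtain ⟨y, hy, b⟩ := frat hP (fun p hp => norm_stb V_le (nK hp) (nV hp))
    (isPGroup_zpowers (x := τ) ⟨1, by rw [pow_one, pow_two, tt]⟩) (g := x) (by
      rw [MonoidHom.map_zpowers, zpowers_le]
      simpa using mul_mem (mem_sup_right c2 : _ ∈ φ.range ⊔ _) (mem_sup_left (⟨_, rfl⟩ : τ ∈ φ.range)))
  obtain ⟨⟨j, hj⟩, b⟩ := b τ (mem_zpowers τ) τ ⟨_, rfl⟩ c2
  have c3 : Cj (y * x) τ (φ (j * (kt * ka))) := by rw [map_mul, hj, Cj, inv_mul_cancel_right]
  obtain ⟨r, r1, r2⟩ := t_j j (fun g hg => by
    obtain ⟨v, hv, e⟩ := memV.1 (b _ (gen_sub hg))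
    rw [← hj, ← map_inv, ← map_inv, ← map_mul, ← map_mul, ← map_mul] at e
    exact H.inj e ▸ hv)
    (H.inj (by rw [map_mul, map_one]; exact (c3.mul c3).unique (by rw [tt]; exact Cj.one _)))
  have KS : sub φ gK ≤ stb (V_le (φ := φ)) := (closure_le _).2 (by
    rintro _ ⟨g, hg, rfl⟩ _ hx
    obtain ⟨y, hy, rfl⟩ := memK.1 hx
    exact memV.2 ⟨_, t_k g hg y hy, by simp only [map_mul, map_inv]⟩)
  have N := AcV.stb (KS (memK.2 ⟨r, r1, rfl⟩)) (AcV.stb hy X)
  have c4 : Cj (φ r * (y * x)) τ τ := c3.comp (map_cj φ r2)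
  generalize φ r * (y * x) = n at N c4
  obtain ⟨i, hi⟩ := exists_odd_part n
  have N' : ∀ i : ℕ, AcV φ (n ^ 4 ^ i) (lkE xT) := fun i => by
    induction i with
    | zero => simpa using N
    | succ i ih =>
      rw [pow_succ, pow_mul, show 4 = 3 + 1 from rfl, pow_succ', pow_three]
      exact (ih.comp (ih.comp (ih.comp ih))).congr (BD.of (by decide +kernel))
  have N := N' i
  have c4 : Cj (n ^ 4 ^ i) τ τ := rg_mem'.1 (pow_mem (rg_mem'.2 c4) _)
  generalize n ^ 4 ^ i = n at N c4 hi
  have tT : d.T τ := (d.T_t.cj J.ack.t).cj' (g := o) (by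
    rw [hτ, map_mul, ← p6, ← p9]
    refine (J.aco.t.mul J.aco.a).to ?_
    simp only [p1, p3, p6, ← map_mul]
    exact congrArg _ (BD.of (by decide +kernel)))
  have uK : Kp ku := BD.of (by decide +kernel)
  obtain ⟨v, hv, e⟩ := memV.1 (N.2 ku uK).2
  obtain ⟨q1, q2, q3, q4⟩ := t_p v hv _ (List.mem_singleton_self _)
  have fin : ∀ {a b : K}, Cj n (φ a) (φ b) → Kp a → Msk 1020 (b * (lkE xT a)⁻¹) := fun {a b} e ha => by
    obtain ⟨v, hv, e'⟩ := memV.1 (N.2 a ha).2
    rw [show n * φ a * n⁻¹ = _ from e, ← map_inv, ← map_mul] at e'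
    exact H.inj e' ▸ hv
  rcases h.noQ8 tT hi c4 (hP.pgrp.to_le (sub_le φ gK)) N.norm (memK.2 ⟨_, uK, rfl⟩)
    (map_cj φ (BD.of (by decide +kernel))) (p := φ (v * lkE xT ku * ku⁻¹))
    (by rw [map_mul, map_mul, e, map_inv]; group)
    (by rw [← map_mul]; exact mt (map_eq_one_iff φ H.inj).1 q2) with a | a
  · exact q3 (fin a q1)
  · exact q4 (fin (map_inv φ _ ▸ a) q1)

end Cfsg.Agent.HSD.I1
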