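import Mathlib
import Cfsg.Agent.HSD.Defs
import Cfsg.Agent.Spor.OutHe

/-! An outer involution of the Held group. -/

set_option autoImplicit false
set_option linter.unusedSectionVars false
set_option linter.unusedVariables false

namespace Cfsg.Agent.HSD

open Cfsg Subgroup Cfsg.Agent.PLocal Cfsg.Agent.PLocal.Amb Cfsg.Agent.MacW

variable {G : Type*} [Group G] [Finite G]

theorem fh_key {H Γ : Type*} [Group H] [Group Γ] {K : Subgroup Γ} (e : H ≃* K) {s x y a b c : Γ}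
    (hs : s ∈ normalizer (K : Set Γ)) (s2 : s * s = 1)
    (hn : ∀ g ∈ K, ¬ ∀ k ∈ K, g * k * g⁻¹ = s * k * s⁻¹)
    (hK : ∀ u ∈ [x, y, a, b, c], u ∈ K ∧ s * u = u * s) (hx : x ^ 7 = 1) (hy : y ^ 7 = 1)
    (hxy : orderOf (x * y) = 2) (ha : a ^ 4 = 1) (hb : b ^ 4 = 1) (hc : c ^ 4 = 1)
    (hg : orderOf (a ^ 2 * b ^ 2 * c ^ 2) = 21) :
    ∃ σ : MulAut H, σ * σ = 1 ∧ (∀ g, σ ≠ MulAut.conj g) ∧
      (∃ x y, σ x = x ∧ σ y = y ∧ x ^ 7 = 1 ∧ y ^ 7 = 1 ∧ ¬ Odd (orderOf (x * y))) ∧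
      ∃ g ∈ closure {y | ∃ j, σ j = j ∧ j ^ 4 = 1 ∧ y = j ^ 2}, orderOf g = 21 := by
  let f : H →* Γ := K.subtype.comp e.toMonoidHom
  have fi : Function.Injective f := K.subtype_injective.comp e.injective
  have fs : ∀ k ∈ K, ∃ h, f h = k := fun k hk => ⟨e.symm ⟨k, hk⟩, by simp [f]⟩
  let σ : MulAut H := e.trans ((K.normalizerMonoidHom ⟨s, hs⟩).trans e.symm)
  have hσ : ∀ h, f (σ h) = s * f h * s⁻¹ := fun h => by simp [f, σ]
  have k : ∀ u ∈ [x, y, a, b, c], ∃ h, f h = u ∧ σ h = h := fun u hu => by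
    obtain ⟨h, rfl⟩ := fs u (hK u hu).1
    exact ⟨h, rfl, fi (by rw [hσ, (hK _ hu).2, mul_inv_cancel_right])⟩
  have pw : ∀ {h : H} {n : ℕ}, f h ^ n = 1 → h ^ n = 1 := fun e => fi (by rw [map_pow, e, map_one])
  obtain ⟨x, rfl, x1⟩ := k x (by simp)
  obtain ⟨y, rfl, y1⟩ := k y (by simp)
  obtain ⟨a, rfl, a1⟩ := k a (by simp)
  obtain ⟨b, rfl, b1⟩ := k b (by simp)
  obtain ⟨c, rfl, c1⟩ := k c (by simp)
  refine ⟨σ, MulEquiv.ext fun h => fi ?_, fun g hg => hn (f g) (e g).2 fun u hu => ?_,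
    ⟨x, y, x1, y1, pw hx, pw hy, ?_⟩, a ^ 2 * b ^ 2 * c ^ 2,
    mul_mem (mul_mem (subset_closure ⟨a, a1, pw ha, rfl⟩) (subset_closure ⟨b, b1, pw hb, rfl⟩))
      (subset_closure ⟨c, c1, pw hc, rfl⟩), ?_⟩
  · rw [MulAut.mul_apply, hσ, hσ, MulAut.one_apply]
    calc _ = s * s * f h * (s * s)⁻¹ := by group
      _ = _ := by rw [s2, one_mul, inv_one, mul_one]
  · obtain ⟨h, rfl⟩ := fs u hu
    rw [← hσ, hg, MulAut.conj_apply, map_mul, map_mul, map_inv]
  · rw [← orderOf_injective f fi, map_mul, hxy]; decide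
  · rw [← orderOf_injective f fi, map_mul, map_mul, map_pow, map_pow, map_pow, hg]

section He

open Cfsg.Agent.Comp Cfsg.Agent.Spor Cfsg.Agent.Spor.OutHe

local notation "𝐾" => gen ns [[0], [2], [4], [6], [8], [10], [12]]

theorem fh_rel : ∀ e ∈ [(od.a, powW od.a 3), (od.b, od.b), (od.c, [40, 40, 48, 42, 40, 51, 55, 61, 58, 57, 66])],
    wp ns e.2 ∈ 𝐾 ∧ wp ns [72] * wp ns e.1 * (wp ns [72])⁻¹ = wp ns e.2 := fun e he => by
  obtain ⟨h1, h2⟩ := (and'_eq_true _ _).1 (forall_mem_of_allL (p := fun e : List ℕ × List ℕ =>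
    and' (inK 68719476735 e.2) (eqW 4096 12 ns (appendR [72] e.1) (appendR e.2 [72]))) (by decide +kernel) e he)
  have := wp_eq_of_eqW ctx h2
  simp only [appendR_eq, wp_append] at this
  exact ⟨kG_0.word h1, by rw [this, mul_inv_cancel_right]⟩

theorem fh_nrm : wp ns [72] ∈ normalizer ((𝐾 : Subgroup (Equiv.Perm ℕ)) : Set (Equiv.Perm ℕ)) := by
  have : Finite 𝐾 := finite_gen ctx.ok _
  have h2 : 𝐾 ≤ (𝐾).comap (MulAut.conj (wp ns [72])).toMonoidHom := by
    nth_rw 1 [← B_ex.2.2]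
    refine gen_le_iff.2 fun u hu => ?_
    obtain ⟨e, he, rfl⟩ : ∃ e ∈ [(od.a, powW od.a 3), (od.b, od.b),
      (od.c, [40, 40, 48, 42, 40, 51, 55, 61, 58, 57, 66])], e.1 = u := by simpa [od, eq_comm] using hu
    change wp ns [72] * wp ns e.1 * (wp ns [72])⁻¹ ∈ 𝐾
    rw [(fh_rel e he).2]; exact (fh_rel e he).1
  exact mem_normalizer_fintype fun n hn => h2 hn

theorem fh_ne {u : List ℕ} {n : ℕ} (h : movesW ns (powW u n) 0 = true) : wp ns u ^ n ≠ 1 := fun e =>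
  ne_of_movesW ctx h (by norm_num) (by rw [wp_powW, e]; rfl)

end He

/-- In the permutation model of `Spor/OutHe` the letter `72` is a permutation `π` normalizing the group and
inducing the outer automorphism; `σ` is conjugation by the involution `g π`, `g = [50, 17]`. -/
theorem heOuter : ∃ σ : MulAut Spor.He, σ * σ = 1 ∧ (∀ g, σ ≠ MulAut.conj g) ∧
    (∃ x y, σ x = x ∧ σ y = y ∧ x ^ 7 = 1 ∧ y ^ 7 = 1 ∧ ¬ Odd (orderOf (x * y))) ∧
    ∃ g ∈ closure {y | ∃ j, σ j = j ∧ j ^ 4 = 1 ∧ y = j ^ 2}, orderOf g = 21 := by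
  open Cfsg.Agent.Comp Cfsg.Agent.Spor Cfsg.Agent.Spor.OutHe in
  have hw : wp ns [50, 17] ∈ _ := kG_0.word (by decide +kernel)
  have es : wp ns [50, 17, 72] = wp ns [50, 17] * wp ns [72] := wp_append ns [50, 17] [72]
  refine fh_key (ModelHe.equiv.trans (MulEquiv.subgroupCongr geq)) (s := wp ns [50, 17, 72])
    (x := wp ns [28, 71, 24, 23, 48]) (y := wp ns [49, 20, 35, 20, 38]) (a := wp ns [23, 52, 58, 22])
    (b := wp ns [29, 24, 40, 38]) (c := wp ns [15, 1, 66, 14, 8]) (es ▸ mul_mem (le_normalizer hw) fh_nrm)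
    ((sq _).symm.trans (pow_eq_one_of_eqW ctx (by decide +kernel))) (fun g hg h => ?_) (fun u hu => ?_)
    (pow_eq_one_of_eqW ctx (by decide +kernel)) (pow_eq_one_of_eqW ctx (by decide +kernel)) ?_
    (pow_eq_one_of_eqW ctx (by decide +kernel)) (pow_eq_one_of_eqW ctx (by decide +kernel))
    (pow_eq_one_of_eqW ctx (by decide +kernel)) ?_
  · refine ninn _ (mul_mem (inv_mem hw) hg) fun e he => ?_
    have k := h _ (kG_0.word (forall_mem_of_allL (p := fun e => inK 68719476735 e.1) (by decide +kernel) e he))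
    rw [← (fh_rel e (by simp only [NI_as, List.mem_cons] at he ⊢; tauto)).2, mul_assoc,
      mul_inv_eq_iff_eq_mul.1 k, es]
    group
  · obtain ⟨v, hv, rfl⟩ := List.mem_map.1 (show u ∈ List.map (wp ns) [[28, 71, 24, 23, 48], [49, 20, 35, 20, 38],
      [23, 52, 58, 22], [29, 24, 40, 38], [15, 1, 66, 14, 8]] from hu)
    obtain ⟨h1, h2⟩ := (and'_eq_true _ _).1 (forall_mem_of_allL (p := fun v : List ℕ => and' (inK 68719476735 v)
      (eqW 4096 12 ns (appendR [50, 17, 72] v) (appendR v [50, 17, 72]))) (by decide +kernel) v hv)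
    have := wp_eq_of_eqW ctx h2
    simp only [appendR_eq, wp_append] at this
    exact ⟨kG_0.word h1, this⟩
  · rw [← wp_append]
    exact orderOf_eq_prime (pow_eq_one_of_eqW ctx (by decide +kernel))
      (pow_one (wp ns _) ▸ fh_ne (by decide +kernel))
  · rw [← wp_powW, ← wp_powW, ← wp_powW, ← wp_append, ← wp_append, ← appendR_eq, ← appendR_eq]
    refine orderOf_eq_of_pow_and_pow_div_prime (by norm_num) (pow_eq_one_of_eqW ctx (by decide +kernel))
      fun p hp hd => ?_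
    rcases (Nat.Prime.dvd_mul hp).1 (show p ∣ 3 * 7 from hd) with h | h <;>
      rw [(Nat.prime_dvd_prime_iff_eq hp (by norm_num)).1 h] <;> exact fh_ne (by decide +kernel)

end Cfsg.Agent.HSD
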