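import Cfsg.Agent.HSD.Basic

/-! Tables for the group `W` in type (I, I) with elementary abelian layers. -/

set_option autoImplicit false
set_option maxRecDepth 100000
set_option synthInstance.maxHeartbeats 400000
set_option synthInstance.maxSize 4000

namespace Cfsg.Agent.HSD

open Cfsg.Agent.Comp Cfsg.Agent.X32

namespace OW0

def C0 : ℕ := 0x0
def C1 : ℕ := 0x10000
def C2 : ℕ := 0x3000200010000
def C3 : ℕ := 0x70006000500040003000200010000
def C4 : ℕ := 0xf000e000d000c000b000a0009000800070006000500040003000200010000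
def C5 : ℕ := 0x1f001e001d001c001b001a0019001800170016001500140013001200110010000f000e000d000c000b000a0009000800070006000500040003000200010000
def C6 : ℕ := 0x3a003b00380039003e003f003c003d00320033003000310036003700340035002b002a00290028002f002e002d002c00230022002100200027002600250024001e001f001c001d001a001b0018001900160017001400150012001300100011000f000e000d000c000b000a0009000800070006000500040003000200010000
def C7 : ℕ := 0x7f007e007d007c007b007a0079007800770076007500740073007200710070006b006a00690068006f006e006d006c00630062006100600067006600650064005b005a00590058005f005e005d005c00530052005100500057005600550054004f004e004d004c004b004a0049004800470046004500440043004200410040003f003e003d003c003b003a0039003800370036003500340033003200310030002b002a00290028002f002e002d002c00230022002100200027002600250024001b001a00190018001f001e001d001c00130012001100100017001600150014000f000e000d000c000b000a0009000800070006000500040003000200010000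
def L : List Pc.Lv := [⟨7, 128, 256, 0, C7⟩, ⟨6, 64, 128, 0, C6⟩, ⟨5, 32, 64, 0, C5⟩, ⟨4, 16, 32, 0, C4⟩, ⟨3, 8, 16, 0, C3⟩, ⟨2, 4, 8, 0, C2⟩, ⟨1, 2, 4, 0, C1⟩, ⟨0, 1, 2, 0, C0⟩]
def R : List (ℕ × ℕ × List ℕ) := [(0, 0, []), (1, 1, []), (1, 0, [0]), (2, 2, []), (2, 0, [0]), (2, 1, [1]), (3, 3, []), (3, 0, [0]), (3, 1, [1]), (3, 2, [2]), (4, 4, []), (4, 0, [0]), (4, 1, [1]), (4, 2, [2]), (4, 3, [3]), (5, 5, []), (5, 0, [0]), (5, 1, [1]), (5, 2, [2]), (5, 3, [3]), (5, 4, [4]), (6, 6, []), (6, 0, [0]), (6, 1, [1]), (6, 2, [2]), (6, 3, [3]), (6, 4, [4, 0]), (6, 5, [2, 5]), (7, 7, []), (7, 0, [0]), (7, 1, [1]), (7, 2, [2]), (7, 3, [3]), (7, 4, [2, 4]), (7, 5, [2, 5]), (7, 6, [6])]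
theorem hc : Pc.chk L = true := by decide +kernel
instance ok : Fact (Pc.tab L).OK := ⟨Pc.ok hc⟩
abbrev K := TG (Pc.tab L)
noncomputable abbrev gz : K := Pc.gn 0
noncomputable abbrev gu : K := Pc.gn 1
noncomputable abbrev ge : K := Pc.gn 2
noncomputable abbrev gh : K := Pc.gn 3
noncomputable abbrev ga : K := Pc.gn 4
noncomputable abbrev gf : K := Pc.gn 5
noncomputable abbrev gb : K := Pc.gn 6
noncomputable abbrev gg : K := Pc.gn 7
noncomputable abbrev gs : List K := [gz, gu, ge, gh, ga, gf, gb, gg]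
theorem card : Nat.card K = 256 := Pc.card hc
theorem hom {G : Type*} [Group G] {z u e h a f b g : G}
    (hz : z * z = 1)
    (hu : u * u = 1)
    (hu_z : Cj u z (z))
    (he : e * e = 1)
    (he_z : Cj e z (z))
    (he_u : Cj e u (u))
    (hh : h * h = 1)
    (hh_z : Cj h z (z))
    (hh_u : Cj h u (u))
    (hh_e : Cj h e (e))
    (ha : a * a = 1)
    (ha_z : Cj a z (z))
    (ha_u : Cj a u (u))
    (ha_e : Cj a e (e))
    (ha_h : Cj a h (h))
    (hf : f * f = 1)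
    (hf_z : Cj f z (z))
    (hf_u : Cj f u (u))
    (hf_e : Cj f e (e))
    (hf_h : Cj f h (h))
    (hf_a : Cj f a (a))
    (hb : b * b = 1)
    (hb_z : Cj b z (z))
    (hb_u : Cj b u (u))
    (hb_e : Cj b e (e))
    (hb_h : Cj b h (h))
    (hb_a : Cj b a (a * z))
    (hb_f : Cj b f (e * f))
    (hg : g * g = 1)
    (hg_z : Cj g z (z))
    (hg_u : Cj g u (u))
    (hg_e : Cj g e (e))
    (hg_h : Cj g h (h))
    (hg_a : Cj g a (e * a))
    (hg_f : Cj g f (e * f))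
    (hg_b : Cj g b (b)) :
    ∃ φ : K →* G, φ gz = z ∧ φ gu = u ∧ φ ge = e ∧ φ gh = h ∧ φ ga = a ∧ φ gf = f ∧ φ gb = b ∧ φ gg = g ∧
      ∀ H : Subgroup G, z ∈ H → u ∈ H → e ∈ H → h ∈ H → a ∈ H → f ∈ H → b ∈ H → g ∈ H → φ.range ≤ H := by
  obtain ⟨φ, h⟩ := Pc.exists_hom (x := LES.tup [z, u, e, h, a, f, b, g]) (R := R) (by
    simp only [R, List.forall_mem_cons, List.not_mem_nil, false_imp_iff, implies_true, and_true]
    exact ⟨hz, hu, hu_z, he, he_z, he_u, hh, hh_z, hh_u, hh_e, ha, ha_z, ha_u, ha_e, ha_h, hf, hf_z, hf_u, hf_e, hf_h, hf_a, hb, hb_z, hb_u, hb_e, hb_h, hb_a, hb_f, hg, hg_z, hg_u, hg_e, hg_h, hg_a, hg_f, hg_b⟩) hc (by decide +kernel)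
  refine ⟨φ, h 0 (by decide), h 1 (by decide), h 2 (by decide), h 3 (by decide), h 4 (by decide), h 5 (by decide), h 6 (by decide), h 7 (by decide), fun H m0 m1 m2 m3 m4 m5 m6 m7 => Pc.range_le hc φ fun i hi => ?_⟩
  rw [h i hi]; change i < 8 at hi
  interval_cases i <;> assumption

end OW0

namespace OW1

def C0 : ℕ := 0x0
def C1 : ℕ := 0x10000
def C2 : ℕ := 0x3000200010000
def C3 : ℕ := 0x70006000500040003000200010000
def C4 : ℕ := 0xf000e000d000c000b000a0009000800070006000500040003000200010000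
def C5 : ℕ := 0x1f001e001d001c001b001a0019001800170016001500140013001200110010000f000e000d000c000b000a0009000800070006000500040003000200010000
def C6 : ℕ := 0x3a003b00380039003e003f003c003d00320033003000310036003700340035002b002a00290028002f002e002d002c00230022002100200027002600250024001e001f001c001d001a001b0018001900160017001400150012001300100011000f000e000d000c000b000a0009000800070006000500040003000200010000
def C7 : ℕ := 0x7e007f007c007d007a007b0078007900760077007400750072007300700071006a006b00680069006e006f006c006d00620063006000610066006700640065005b005a00590058005f005e005d005c00530052005100500057005600550054004f004e004d004c004b004a0049004800470046004500440043004200410040003e003f003c003d003a003b0038003900360037003400350032003300300031002a002b00280029002e002f002c002d00220023002000210026002700240025001b001a00190018001f001e001d001c00130012001100100017001600150014000f000e000d000c000b000a0009000800070006000500040003000200010000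
def L : List Pc.Lv := [⟨7, 128, 256, 0, C7⟩, ⟨6, 64, 128, 0, C6⟩, ⟨5, 32, 64, 0, C5⟩, ⟨4, 16, 32, 0, C4⟩, ⟨3, 8, 16, 0, C3⟩, ⟨2, 4, 8, 0, C2⟩, ⟨1, 2, 4, 0, C1⟩, ⟨0, 1, 2, 0, C0⟩]
def R : List (ℕ × ℕ × List ℕ) := [(0, 0, []), (1, 1, []), (1, 0, [0]), (2, 2, []), (2, 0, [0]), (2, 1, [1]), (3, 3, []), (3, 0, [0]), (3, 1, [1]), (3, 2, [2]), (4, 4, []), (4, 0, [0]), (4, 1, [1]), (4, 2, [2]), (4, 3, [3]), (5, 5, []), (5, 0, [0]), (5, 1, [1]), (5, 2, [2]), (5, 3, [3]), (5, 4, [4]), (6, 6, []), (6, 0, [0]), (6, 1, [1]), (6, 2, [2]), (6, 3, [3]), (6, 4, [4, 0]), (6, 5, [2, 5]), (7, 7, []), (7, 0, [0]), (7, 1, [1]), (7, 2, [2]), (7, 3, [3]), (7, 4, [2, 4]), (7, 5, [2, 0, 5]), (7, 6, [6])]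
theorem hc : Pc.chk L = true := by decide +kernel
instance ok : Fact (Pc.tab L).OK := ⟨Pc.ok hc⟩
abbrev K := TG (Pc.tab L)
noncomputable abbrev gz : K := Pc.gn 0
noncomputable abbrev gu : K := Pc.gn 1
noncomputable abbrev ge : K := Pc.gn 2
noncomputable abbrev gh : K := Pc.gn 3
noncomputable abbrev ga : K := Pc.gn 4
noncomputable abbrev gf : K := Pc.gn 5
noncomputable abbrev gb : K := Pc.gn 6
noncomputable abbrev gg : K := Pc.gn 7
noncomputable abbrev gs : List K := [gz, gu, ge, gh, ga, gf, gb, gg]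
theorem card : Nat.card K = 256 := Pc.card hc
theorem hom {G : Type*} [Group G] {z u e h a f b g : G}
    (hz : z * z = 1)
    (hu : u * u = 1)
    (hu_z : Cj u z (z))
    (he : e * e = 1)
    (he_z : Cj e z (z))
    (he_u : Cj e u (u))
    (hh : h * h = 1)
    (hh_z : Cj h z (z))
    (hh_u : Cj h u (u))
    (hh_e : Cj h e (e))
    (ha : a * a = 1)
    (ha_z : Cj a z (z))
    (ha_u : Cj a u (u))
    (ha_e : Cj a e (e))
    (ha_h : Cj a h (h))
    (hf : f * f = 1)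
    (hf_z : Cj f z (z))
    (hf_u : Cj f u (u))
    (hf_e : Cj f e (e))
    (hf_h : Cj f h (h))
    (hf_a : Cj f a (a))
    (hb : b * b = 1)
    (hb_z : Cj b z (z))
    (hb_u : Cj b u (u))
    (hb_e : Cj b e (e))
    (hb_h : Cj b h (h))
    (hb_a : Cj b a (a * z))
    (hb_f : Cj b f (e * f))
    (hg : g * g = 1)
    (hg_z : Cj g z (z))
    (hg_u : Cj g u (u))
    (hg_e : Cj g e (e))
    (hg_h : Cj g h (h))
    (hg_a : Cj g a (e * a))
    (hg_f : Cj g f (e * z * f))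
    (hg_b : Cj g b (b)) :
    ∃ φ : K →* G, φ gz = z ∧ φ gu = u ∧ φ ge = e ∧ φ gh = h ∧ φ ga = a ∧ φ gf = f ∧ φ gb = b ∧ φ gg = g ∧
      ∀ H : Subgroup G, z ∈ H → u ∈ H → e ∈ H → h ∈ H → a ∈ H → f ∈ H → b ∈ H → g ∈ H → φ.range ≤ H := by
  obtain ⟨φ, h⟩ := Pc.exists_hom (x := LES.tup [z, u, e, h, a, f, b, g]) (R := R) (by
    simp only [R, List.forall_mem_cons, List.not_mem_nil, false_imp_iff, implies_true, and_true]
    exact ⟨hz, hu, hu_z, he, he_z, he_u, hh, hh_z, hh_u, hh_e, ha, ha_z, ha_u, ha_e, ha_h, hf, hf_z, hf_u, hf_e, hf_h, hf_a, hb, hb_z, hb_u, hb_e, hb_h, hb_a, hb_f, hg, hg_z, hg_u, hg_e, hg_h, hg_a, Eq.trans hg_f (by simp only [mul_assoc]; rfl), hg_b⟩) hc (by decide +kernel)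
  refine ⟨φ, h 0 (by decide), h 1 (by decide), h 2 (by decide), h 3 (by decide), h 4 (by decide), h 5 (by decide), h 6 (by decide), h 7 (by decide), fun H m0 m1 m2 m3 m4 m5 m6 m7 => Pc.range_le hc φ fun i hi => ?_⟩
  rw [h i hi]; change i < 8 at hi
  interval_cases i <;> assumption

end OW1

/-- product with binary exponents -/
def ps {G : Type*} [Group G] : List G → ℕ → G
  | [], _ => 1
  | g :: l, y => g ^ (y % 2) * ps l (y / 2)

instance evPs {T : Tab} [Fact T.OK] (a b c d : TG T) (y : ℕ) {m : ℕ}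
    [h : TG.EV (a ^ (y % 2) * (b ^ (y / 2 % 2) * (c ^ (y / 2 / 2 % 2) * (d ^ (y / 2 / 2 / 2 % 2) * 1)))) m] :
    TG.EV (ps [a, b, c, d] y) m := ⟨h.h⟩

theorem OW1.sq : ∀ w : OW1.K, w * w ∈ [1, OW1.gz, OW1.ge, OW1.gz * OW1.ge] := BD.of (by decide +kernel)

namespace OW0

theorem cen : ∀ k : K, (∀ w ∈ gs, Commute w k) → k = ps [gz, gu, ge, gh] k.v := BD.of (by decide +kernel)

/-- non-central involutions with only one non-trivial commutator -/
abbrev Y (c x : K) : Prop := x * x = 1 ∧ (¬ ∀ w, Commute w x) ∧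
  ∀ w, x * w * x⁻¹ * w⁻¹ = 1 ∨ x * w * x⁻¹ * w⁻¹ = c

/-- congruence modulo the centre to one of two elements -/
abbrev A (p q x : K) : Prop := (∀ w, Commute w (p⁻¹ * x)) ∨ ∀ w, Commute w (q⁻¹ * x)

theorem y4 : Y ge gf ∧ Y ge gg ∧ Y (ge * gz) (ga * gf) ∧ Y (ge * gz) (gb * gg) := BD.of (by decide +kernel)

theorem ycl : ∀ x : K, x * x = 1 → (∀ w, Commute w x) ∨
    (A gf gg x ∧ ∃ w ∈ gs, x * w * x⁻¹ * w⁻¹ = ge) ∨
    (A (ga * gf) (gb * gg) x ∧ ∃ w ∈ gs, x * w * x⁻¹ * w⁻¹ = ge * gz) ∨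
    ∃ w ∈ gs, ∃ v ∈ gs, x * w * x⁻¹ * w⁻¹ ≠ 1 ∧ x * v * x⁻¹ * v⁻¹ ≠ 1 ∧
      x * w * x⁻¹ * w⁻¹ ≠ x * v * x⁻¹ * v⁻¹ := BD.of (by decide +kernel)

theorem misc : ge ≠ 1 ∧ ge * gz ≠ 1 ∧ ge ≠ ge * gz ∧ (ge * gz)⁻¹ * ge = gz ∧
    (¬ ∀ w, Commute w (gf⁻¹ * gg)) ∧ ¬ ∀ w, Commute w ((ga * gf)⁻¹ * (gb * gg)) :=
  BD.of (by decide +kernel)

end OW0

/-- the relations of `W` -/
structure R8 {G : Type*} [Group G] (z u e h a f b g c : G) : Prop where
  hz : z * z = 1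
  hu : u * u = 1
  u_z : Cj u z z
  he : e * e = 1
  e_z : Cj e z z
  e_u : Cj e u u
  hh : h * h = 1
  h_z : Cj h z z
  h_u : Cj h u u
  h_e : Cj h e e
  ha : a * a = 1
  a_z : Cj a z z
  a_u : Cj a u u
  a_e : Cj a e e
  a_h : Cj a h h
  hf : f * f = 1
  f_z : Cj f z z
  f_u : Cj f u u
  f_e : Cj f e e
  f_h : Cj f h h
  f_a : Cj f a a
  hb : b * b = 1
  b_z : Cj b z z
  b_u : Cj b u u
  b_e : Cj b e e
  b_h : Cj b h h
  b_a : Cj b a (a * z)
  b_f : Cj b f (e * f)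
  hg : g * g = 1
  g_z : Cj g z z
  g_u : Cj g u u
  g_e : Cj g e e
  g_h : Cj g h h
  g_a : Cj g a (e * a)
  g_f : Cj g f (c * f)
  g_b : Cj g b b

theorem R8.hom0 {G : Type*} [Group G] {z u e h a f b g : G} (r : R8 z u e h a f b g e) :
    ∃ φ : OW0.K →* G, φ OW0.gz = z ∧ φ OW0.gu = u ∧ φ OW0.ge = e ∧ φ OW0.gh = h ∧ φ OW0.ga = a ∧
      φ OW0.gf = f ∧ φ OW0.gb = b ∧ φ OW0.gg = g ∧
      φ.range = Subgroup.closure {z, u, e, h, a, f, b, g} := by
  obtain ⟨φ, p1, p2, p3, p4, p5, p6, p7, p8, p⟩ := OW0.hom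
    r.hz r.hu r.u_z r.he r.e_z r.e_u r.hh r.h_z r.h_u r.h_e r.ha r.a_z r.a_u r.a_e r.a_h r.hf r.f_z r.f_u
    r.f_e r.f_h r.f_a r.hb r.b_z r.b_u r.b_e r.b_h r.b_a r.b_f r.hg r.g_z r.g_u r.g_e r.g_h r.g_a r.g_f
    r.g_b
  refine ⟨φ, p1, p2, p3, p4, p5, p6, p7, p8, le_antisymm (p _ ?_ ?_ ?_ ?_ ?_ ?_ ?_ ?_)
    ((Subgroup.closure_le _).2 ?_)⟩
  iterate 8 exact Subgroup.subset_closure (by simp)
  rintro _ (rfl | rfl | rfl | rfl | rfl | rfl | rfl | rfl) <;> exact ⟨_, ‹_›⟩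

theorem R8.hom1 {G : Type*} [Group G] {z u e h a f b g : G} (r : R8 z u e h a f b g (e * z)) :
    ∃ φ : OW1.K →* G, φ OW1.gz = z ∧ φ OW1.gu = u ∧ φ OW1.ge = e ∧ φ OW1.gh = h ∧ φ OW1.ga = a ∧
      φ OW1.gf = f ∧ φ OW1.gb = b ∧ φ OW1.gg = g ∧
      φ.range = Subgroup.closure {z, u, e, h, a, f, b, g} := by
  obtain ⟨φ, p1, p2, p3, p4, p5, p6, p7, p8, p⟩ := OW1.hom
    r.hz r.hu r.u_z r.he r.e_z r.e_u r.hh r.h_z r.h_u r.h_e r.ha r.a_z r.a_u r.a_e r.a_h r.hf r.f_z r.f_u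
    r.f_e r.f_h r.f_a r.hb r.b_z r.b_u r.b_e r.b_h r.b_a r.b_f r.hg r.g_z r.g_u r.g_e r.g_h r.g_a r.g_f
    r.g_b
  refine ⟨φ, p1, p2, p3, p4, p5, p6, p7, p8, le_antisymm (p _ ?_ ?_ ?_ ?_ ?_ ?_ ?_ ?_)
    ((Subgroup.closure_le _).2 ?_)⟩
  iterate 8 exact Subgroup.subset_closure (by simp)
  rintro _ (rfl | rfl | rfl | rfl | rfl | rfl | rfl | rfl) <;> exact ⟨_, ‹_›⟩

end Cfsg.Agent.HSD
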