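import Cfsg.Agent.HSD.I1B

/-! Type (I, I), `4 × 4 × 4` layers: the cases `ε = 1` and `β = 1`. -/

set_option autoImplicit false
set_option linter.unusedSectionVars false
set_option linter.unusedVariables false
set_option linter.unusedSimpArgs false
set_option maxRecDepth 100000

namespace Cfsg.Agent.HSD.I1

open Cfsg Subgroup Cfsg.Agent.PLocal Cfsg.Agent.PLocal.Amb Cfsg.Agent.MacW
open Cfsg.Agent.Comp Cfsg.Agent.X32 Pc I1Q

variable {G : Type*} [Group G] [Finite G] {d : Dat G} {e k f₁ f₂ ρ₁ ρ₂ : G} {β : Bool}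

theorem cj_cj {g x y c : G} (h : Cj g x y) : Cj (c * g * c⁻¹) (c * x * c⁻¹) (c * y * c⁻¹) := by
  unfold Cj at *; rw [← h]; group

theorem cj_tr {g c x y x' y' : G} (h : Cj g x y) (h1 : Cj c x x') (h2 : Cj c y y') :
    Cj (c * g * c⁻¹) x' y' := h1 ▸ h2 ▸ cj_cj h

theorem f2u (h : d.Cfg) (L : d.LI e k f₁ f₂ ρ₁ ρ₂ true β) : Cj f₂ d.u d.u := by
  have : Cj f₂ (d.u * d.z * d.z) (d.u * d.z * d.z) := L.l2.fu.mul L.l2.fz
  rwa [← h.u_sw] at this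

theorem f2e (h : d.Cfg) (L : d.LI e k f₁ f₂ ρ₁ ρ₂ true β) : Cj f₂ e e := by
  simpa using L.l2.fe.mul ((f2u h L).bp β).inv

theorem li_q1 (h : d.Cfg) (L : d.LI e k f₁ f₂ ρ₁ ρ₂ true β) : ∃ φ, QH d φ d.a e f₁ k :=
  qhom h (.inl rfl) L.l1.ee L.l1.ac.a L.l1.ac.u L.l1.ac.t L.l1.ff L.l1.fz L.l1.fu L.l1.fe L.l1.ft
    L.hh (h.cz' L.ach.a L.ach.b) L.ach.a L.he L.hf1 L.ach.t

theorem li_q2 (h : d.Cfg) (L : d.LI e k f₁ f₂ ρ₁ ρ₂ true β) : ∃ φ, QH d φ d.b e f₂ k :=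
  qhom h (.inr rfl) L.l1.ee L.l1.ac.b L.l1.ac.u L.l1.ac.t L.l2.ff L.l2.fz (f2u h L) (f2e h L) L.l2.ft
    L.hh (h.cz' L.ach.a L.ach.b) L.ach.b L.he L.hf2 L.ach.t

theorem li_s (h : d.Cfg) (L : d.LI e k f₁ f₂ ρ₁ ρ₂ true β) : ∃ ψ, SH d ψ e k :=
  shom h L.l1.ee L.l1.ac L.hh L.ach L.he

theorem y_act (h : d.Cfg) (L : d.LI e k f₁ f₂ ρ₁ ρ₂ true β) :
    Cj (f₁ * f₂ * f₁) d.t (d.t * (e * bp d.u β)) ∧ Cj (f₁ * f₂ * f₁) d.u d.u ∧
      Cj (f₁ * f₂ * f₁) d.z d.z ∧ Cj (f₁ * f₂ * f₁) d.a (bp d.u β * d.b) := by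
  obtain ⟨ψ, S⟩ := li_s h L
  have a1 : Cj f₂ d.a (e * bp d.u β * d.b * d.a) := L.l2.fb
  have a2 : Cj f₁ (e * bp d.u β) (e * bp d.u β) := L.l1.fe.mul (L.l1.fu.bp β)
  rw [mul_assoc]
  refine ⟨?_, (L.l1.fu.comp (f2u h L)).comp L.l1.fu, (L.l1.fz.comp L.l2.fz).comp L.l1.fz, ?_⟩
  · have a3 : Cj f₂ (d.t * d.a) (d.t * (e * bp d.u β) * d.a) := (L.l2.ft.mul a1).to (by
      cases β <;> simp only [Dat.sw, bp_true, bp_false, mul_one] <;>
        simp only [S.all, ← map_mul] <;> exact congrArg _ (BD.of (by decide +kernel)))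
    refine (L.l1.ft.comp a3).comp (((L.l1.ft.mul a2).mul L.l1.fa).to ?_)
    cases β <;> simp only [bp_true, bp_false, mul_one] <;>
      simp only [S.all, ← map_mul] <;> exact congrArg _ (BD.of (by decide +kernel))
  · refine (L.l1.fa.comp a1).comp (((a2.mul L.l1.fb).mul L.l1.fa).to ?_)
    cases β <;> simp only [bp_true, bp_false, mul_one, one_mul] <;>
      simp only [S.all, ← map_mul] <;> exact congrArg _ (BD.of (by decide +kernel))

theorem q_tr : ∀ x : K, lab 3 x = 8 ∨ lab 3 x = 9 → (∀ g : K, Msk 120 (x⁻¹ * (g * x * g⁻¹))) ∧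
    ∀ v, Msk 120 v → ∃ m, Cj m x (x * v) := BD.of (by decide +kernel)

variable {φ : K →* G} {c f : G}

theorem QH.norm (H : QH d φ c e f k) {P U : Subgroup G} {x : K} (hx : lab 3 x = 8 ∨ lab 3 x = 9)
    (hU : U = closure {d.u, d.z, c}) (hP : ∀ y, y ∈ P ↔ y ∈ U ∨ (φ x)⁻¹ * y ∈ U) :
    φ.range ≤ 𝐍[P] ⊓ 𝐂[U] := by
  rintro _ ⟨g, rfl⟩
  have m : ∀ s ∈ ({d.u, d.z, c} : Set G), s ∈ U := fun s hs => hU ▸ subset_closure hs
  have hc : φ g ∈ 𝐂[U] := hU ▸ mem_cent_closure (by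
    rintro _ (rfl | rfl | rfl)
    · exact H.all.2.2.1 ▸ map_cj φ (q_cen _ (BD.of (by decide +kernel)) g)
    · exact H.all.1 ▸ map_cj φ (q_cen _ (BD.of (by decide +kernel)) g)
    · exact H.all.2.1 ▸ map_cj φ (q_cen _ (BD.of (by decide +kernel)) g))
  refine ⟨mem_normalizer_fintype fun y hy => ?_, hc⟩
  rcases (hP y).1 hy with h1 | h1
  · exact rg_cm (Cj.of_cent hc h1) hy
  · refine (hP _).2 (.inr ?_)
    have := mul_mem (H.memU (m _ (by simp)) (m _ (by simp)) (m _ (by simp)) ((q_tr x hx).1 g))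
      (rg_cm (Cj.of_cent hc h1) h1)
    simp only [map_mul, map_inv] at this
    convert this using 1
    group

theorem memA (h : d.Cfg) (y : G) : y ∈ d.A1 ↔ y ∈ d.U1 ∨ d.t⁻¹ * y ∈ d.U1 := by
  have le : d.U1 ≤ d.A1 := closure_mono fun x hx => .inr hx
  refine ⟨fun hy => ?_, fun hy => hy.elim (fun a => le a) fun a => by
    simpa using mul_mem h.t_A1 (le a)⟩
  obtain ⟨i, j, l, m, rfl⟩ := h.mem_A1.1 hy
  cases i
  · exact .inl (h.mem_U1.2 ⟨_, _, _, rfl⟩)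
  · exact .inr (h.mem_U1.2 ⟨j, l, m, by simp [Dat.el, mul_assoc]⟩)

theorem exists_y (h : d.Cfg) (ε : d.Eps) (L : d.LI e k f₁ f₂ ρ₁ ρ₂ true β)
    (H : QH d φ d.b e f₂ k) : ∃ y, Cj y d.t (d.t * (e * bp d.u β)) ∧ Cj y d.u d.u ∧ Cj y d.z d.z ∧
      Cj y d.a (bp d.u β * d.b) ∧ y * ρ₁ * y⁻¹ ∈ 𝐍[φ.range] := by
  have : Fact (Nat.Prime 2) := ⟨Nat.prime_two⟩
  obtain ⟨φ₁, H₁⟩ := li_q1 h L
  obtain ⟨y1, y2, y3, y4⟩ := y_act h L
  set y := f₁ * f₂ * f₁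
  obtain ⟨x, hx, ex⟩ : ∃ x : K, lab 3 x = 9 ∧ φ x = d.t * (e * bp d.u β) := by
    cases β
    · exact ⟨gt * ge, BD.of (by decide +kernel), by simp [H.all]⟩
    · exact ⟨gt * (ge * gu), BD.of (by decide +kernel), by simp [H.all]⟩
  have u2 : d.u ∈ d.U2 := subset_closure (by simp)
  have eU : cj(y, d.U1) = d.U2 := by
    refine eq_of_le_of_card_ge (cj_le_iff_forall.2 fun x hx => ?_) (by
      rw [card_cj, card_U2 h, ← h.sw_U2, card_U2 h.sw])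
    obtain ⟨j, l, m, rfl⟩ := h.mem_U1.1 hx
    refine rg_cm ((((Cj.one y).mul (y2.bp j)).mul (y4.bp l)).mul (Cj.one y) |>.mul (y3.bp m)) ?_
    exact mul_mem (mul_mem (mul_mem (mul_mem (one_mem _) (bp_mem u2 _)) (bp_mem (mul_mem (bp_mem u2 _)
      (subset_closure (by simp))) _)) (one_mem _)) (bp_mem (subset_closure (by simp)) _)
  have hP : ∀ v, v ∈ cj(y, d.A1) ↔ v ∈ d.U2 ∨ (φ x)⁻¹ * v ∈ d.U2 := fun v => by
    rw [mem_cj, memA h, ← eU, mem_cj, mem_cj, ex, ← (y1 : _ = _)]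
    simp only [mul_inv_rev, inv_inv, mul_assoc, inv_mul_cancel_left]
  set P := cj(y, d.A1) with hPd
  have UP : d.U2 ≤ P := fun v hv => (hP v).2 (.inl hv)
  have pP : IsPGroup 2 P := isPGroup_cj y h.pA1
  have sP : IsSyl 2 P 𝐂[P] := by rw [hPd, centralizer_cj]; exact (h.sylA1 ε).cj y
  have q2 := H.norm (.inr hx) rfl hP
  have UQ : d.U2 ≤ φ.range := (closure_le _).2 (by
    rintro _ (rfl | rfl | rfl)
    exacts [⟨_, H.all.2.2.1.symm⟩, ⟨_, H.all.1.symm⟩, ⟨_, H.all.2.1.symm⟩])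
  have mU : ∀ v ∈ d.U2, ∃ v₀, Msk 120 v₀ ∧ φ v₀ = v := fun v hv => by
    obtain ⟨j, l, m, rfl⟩ := h.mem_U2.1 hv
    refine ⟨bp gu j * bp gb l * bp gz m, ?_, ?_⟩
    · cases j <;> cases l <;> cases m <;> exact BD.of (by decide +kernel)
    · cases j <;> cases l <;> cases m <;> simp [Dat.el, H.all]
  have PQ : P ≤ φ.range := fun v hv => ((hP v).1 hv).elim (fun a => UQ a) fun a => by
    simpa using mul_mem (⟨x, rfl⟩ : φ x ∈ φ.range) (UQ a)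
  have xP : φ x ∈ P := (hP _).2 (.inr (by simp))
  have sQ : IsSyl 2 φ.range (𝐍[P] ⊓ 𝐂[d.U2]) := ⟨q2, H.pgrp, fun R hR h1 h2 r hr => by
    rcases (hP _).1 (conj_mem_of_mem_normalizer (h2 hr).1 xP) with a | a
    · have := (Cj.of_cent (h2 hr).2 a).unique (show Cj r (r * φ x * r⁻¹) _ from rfl)
      have e1 : φ x = r * φ x * r⁻¹ := Eq.symm (by simpa using this.symm)
      obtain ⟨v, hv, e2⟩ := mU _ a
      rw [H.inj (e2.trans e1.symm)] at hv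
      have : ∀ x : K, lab 3 x = 9 → ¬ Msk 120 x := BD.of (by decide +kernel)
      exact absurd hv (this x hx)
    obtain ⟨v, hv, e2⟩ := mU _ a
    obtain ⟨m, hm⟩ := (q_tr x (.inr hx)).2 v hv
    have c1 : Cj ((φ m)⁻¹ * r) (φ x) (φ x) :=
      Cj.comp (show Cj r (φ x) (φ (x * v)) by rw [map_mul, e2]; simp [Cj]) (map_cj φ hm).symm
    have c2 : (φ m)⁻¹ * r ∈ 𝐂[P] := fun w hw => by
      have c3 : (φ m)⁻¹ * r ∈ 𝐂[d.U2] :=
        mul_mem (inv_mem (mem_inf.1 (q2 ⟨m, rfl⟩)).2) (mem_inf.1 (h2 hr)).2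
      rcases (hP w).1 hw with b | b
      · exact c3 w b
      · simpa using (c1.mul (Cj.of_cent c3 b)).comm.symm
    have := sP.max (R ⊓ 𝐂[P]) hR.to_inf_left (le_inf (PQ.trans h1) sP.le) inf_le_right
      ⟨R.mul_mem (R.inv_mem (h1 ⟨m, rfl⟩)) hr, c2⟩
    simpa using mul_mem (⟨m, rfl⟩ : φ m ∈ φ.range) (PQ this)⟩
  have q1 := H₁.norm (P := d.A1) (x := gt) (.inl (BD.of (by decide +kernel))) rfl
    (by rw [← H₁.all.2.2.2.2.2.2]; exact memA h)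
  obtain ⟨o, ho, hle⟩ := two_join (le_inf (centralizer_le_normalizer' P) (centralizer_anti UP))
    inf_le_left (fun g hg ho => odd_flag ho pP UP (by rw [card_cj, h.card_A1, card_U2 h]) hg.1 hg.2)
    sQ (isPGroup_cj y H₁.pgrp) (by
      rw [hPd, normalizer_cj, ← eU, centralizer_cj, ← cj_inf]; exact cj_mono y q1)
  rw [← cj_mul] at hle
  have eQ := eq_of_le_of_card_ge hle (by rw [card_cj, H.card, H₁.card])
  have co : ∀ {s s' : G}, Cj y s s' → s ∈ d.A1 → Cj (o * y) s s' := fun a b =>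
    a.comp (Cj.of_cent ho (a ▸ conj_mem_cj y b))
  refine ⟨o * y, co y1 h.t_A1, co y2 h.u_A1, co y3 (subset_closure (by simp)), co y4 h.a_A1, ?_⟩
  rw [← eQ, normalizer_cj]
  refine conj_mem_cj _ (gens_range I1Q.hc fun i hi => ?_)
  obtain ⟨p1, p2, p3, p4, p5, p6, p7⟩ := H₁.all
  change i < 7 at hi
  interval_cases i
  · exact rg_cm (p1 ▸ L.l1.pz) ⟨_, p2.symm⟩
  · exact rg_cm (p2 ▸ L.l1.pa) ⟨gb * gz, by rw [map_mul, ← p1]⟩
  · exact rg_cm (p3 ▸ L.l1.pu) ⟨_, rfl⟩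
  · exact rg_cm (p4 ▸ L.l1.pe) ⟨_, p5.symm⟩
  · exact rg_cm (p5 ▸ L.l1.pf) ⟨(ge * gf)⁻¹, by rw [map_inv, map_mul, ← p4]⟩
  · exact rg_cm (p6 ▸ L.p1h) ⟨_, rfl⟩
  · exact rg_cm (p7 ▸ L.l1.pt) ⟨_, rfl⟩

theorem rho2_norm (h : d.Cfg) (L : d.LI e k f₁ f₂ ρ₁ ρ₂ true β) (H : QH d φ d.b e f₂ k) :
    ρ₂ ∈ 𝐍[φ.range] ∧ Cj ρ₂ d.u (d.u * d.z * d.b) := by
  have pu : Cj ρ₂ d.u (d.u * d.z * d.b) := by
    have : Cj ρ₂ (d.u * d.z * d.z) (d.u * d.z * d.b) := L.l2.pu.mul L.l2.pz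
    rwa [← h.u_sw] at this
  obtain ⟨p1, p2, p3, p4, p5, p6, p7⟩ := H.all
  have mz : d.z ∈ φ.range := ⟨_, p1.symm⟩
  have mb : d.b ∈ φ.range := ⟨_, p2.symm⟩
  have mu : d.u ∈ φ.range := ⟨_, p3.symm⟩
  have me : e ∈ φ.range := ⟨_, p4.symm⟩
  have mf : f₂ ∈ φ.range := ⟨_, p5.symm⟩
  have mk : k ∈ φ.range := ⟨_, p6.symm⟩
  have m3 := mul_mem (mul_mem mu mz) mb
  have pe : Cj ρ₂ e (f₂ * (bp (d.u * d.z * d.b) β)⁻¹) := by simpa using L.l2.pe.mul (pu.bp β).inv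
  have m4 := mul_mem mf (inv_mem (bp_mem m3 β))
  refine ⟨gens_range I1Q.hc fun i hi => ?_, pu⟩
  change i < 7 at hi
  interval_cases i
  · exact p1 ▸ rg_cm L.l2.pz mb
  · exact p2 ▸ rg_cm L.l2.pa (mul_mem mb mz)
  · exact p3 ▸ rg_cm pu m3
  · exact p4 ▸ rg_cm pe m4
  · exact p5 ▸ rg_cm L.l2.pf (inv_mem (mul_mem (mul_mem me (bp_mem mu β)) mf))
  · exact p6 ▸ rg_cm (by simpa using (L.p2h.mul pu.inv).mul pe.inv)
      (mul_mem (mul_mem (mul_mem (mul_mem mk me) mu) (inv_mem m3)) (inv_mem m4))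
  · exact p7 ▸ rg_cm L.l2.pt ⟨_, p7.symm⟩

theorem caseI1a (h : d.Cfg) (L : d.LI e k f₁ f₂ ρ₁ ρ₂ true β)
    (sy : d.E1 ∨ (d.Eps ∧ β = true)) : False := by
  have ε : d.Eps := sy.elim .inl And.left
  obtain ⟨φ, H⟩ := li_q2 h L
  obtain ⟨y, y1, y2, y3, y4, hy⟩ := exists_y h ε L H
  obtain ⟨n2, pu⟩ := rho2_norm h L H
  obtain ⟨p1, p2, p3, p4, p5, p6, p7⟩ := H.all
  have r1 := cj_tr L.l1.pt y1 y1
  have r2 := cj_tr L.l1.pu y2 y2
  have r3 := cj_tr L.l1.pz y3 y4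
  have r4 := r2.bp β |>.inv.mul (cj_tr L.l1.pa y4 (y4.mul y3))
  have A2 : AcF φ ρ₂ (lkE 0x60004000500070001000300020000)
      (lk 0xe000c000d000f0009000b000a000800060004000500070001000300020000) :=
    acF H.inj n2 (x := gt) (y := gt) (by
      simp only [List.forall_mem_cons, List.not_mem_nil, false_imp_iff, implies_true, and_true]
      refine ⟨p1 ▸ L.l2.pz.to ?_, p2 ▸ L.l2.pa.to ?_, p3 ▸ pu.to ?_⟩ <;>
        simp only [Dat.sw, H.all, ← map_mul] <;> exact congrArg _ (BD.of (by decide +kernel)))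
      (p7 ▸ L.l2.pt) (BD.of (by decide +kernel))
  have mA : ∀ v, Msk 120 v → φ v ∈ d.A2 := fun v hv => H.memU (subset_closure (by simp)) h.b_A2
    (subset_closure (by simp)) hv
  have tA : d.t ∈ d.A2 := subset_closure (by simp)
  cases β
  · simp only [bp_false, mul_one, one_mul, inv_one] at r1 r3 r4 y1 y4
    have A1 : AcF φ (y * ρ₁ * y⁻¹) (lkE 0x50007000600040001000300020000)
        (lk 0xe000c000d000f000a00080009000b00050007000600040001000300020000) :=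
      acF H.inj hy (x := gt * ge) (y := gt * ge) (by
        simp only [List.forall_mem_cons, List.not_mem_nil, false_imp_iff, implies_true, and_true]
        refine ⟨p1 ▸ r3.to ?_, p2 ▸ r4.to ?_, p3 ▸ r2.to ?_⟩ <;>
          simp only [H.all, ← map_mul] <;> exact congrArg _ (BD.of (by decide +kernel)))
        (by rw [map_mul, ← p7, ← p4]; exact r1) (BD.of (by decide +kernel))
    obtain ⟨c, c1, c2⟩ := (A1.comp A2).adj (x := gt * ge) (by decide +kernel)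
    rw [map_mul, ← p7, ← p4] at c1
    refine h.noswap (sy.resolve_right (by simp)) (y1.comp c1) (map_le_iff_le_comap.2
      ((closure_le _).2 ?_))
    have g : ∀ v, Msk 120 v → ∀ s, Cj y s (φ v) → c * y * s * (c * y)⁻¹ ∈ d.A2 := fun v hv s hs =>
      rg_cm (hs.comp (c2 v hv).2) (mA _ (c2 v hv).1)
    rintro _ (rfl | rfl | rfl | rfl)
    · exact rg_cm (y1.comp c1) tA
    · exact g gu (BD.of (by decide +kernel)) _ (p3 ▸ y2)
    · exact g gz (BD.of (by decide +kernel)) _ (p1 ▸ y3)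
    · exact g gb (BD.of (by decide +kernel)) _ (p2 ▸ y4)
  · simp only [bp_true, mul_assoc, inv_mul_cancel_left] at r1 r3 r4
    have A1 : AcF φ (y * ρ₁ * y⁻¹) (lkE 0x10007000200040005000300060000)
        (lk 0xe0008000d000b000a000c0009000f00010007000200040005000300060000) :=
      acF H.inj hy (x := gt * (ge * gu)) (y := gt * (ge * gu)) (by
        simp only [List.forall_mem_cons, List.not_mem_nil, false_imp_iff, implies_true, and_true,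
          mul_assoc]
        refine ⟨p1 ▸ r3.to ?_, p2 ▸ r4.to ?_, p3 ▸ (mul_assoc y _ _ ▸ r2).to ?_⟩ <;>
          simp only [H.all, ← map_mul] <;> exact congrArg _ (BD.of (by decide +kernel)))
        (by rw [map_mul, map_mul, ← p7, ← p4, ← p3, mul_assoc y]; exact r1) (BD.of (by decide +kernel))
    obtain ⟨c, c1, c2⟩ := ((A1.comp A2).comp A1).adj (x := gt) (by decide +kernel)
    rw [← p7] at c1
    have g : ∀ v, Msk 120 v → ∀ s, s = φ v → c * s * c⁻¹ ∈ d.A2 := fun v hv s hs =>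
      rg_cm (hs ▸ (c2 v hv).2) (mA _ (c2 v hv).1)
    have n := (h.stab2 ε c1 (mem_norm_closure (by
      rintro _ (rfl | rfl | rfl | rfl)
      · exact rg_cm c1 tA
      · exact g gu (BD.of (by decide +kernel)) _ p3
      · exact g gz (BD.of (by decide +kernel)) _ p1
      · exact g gb (BD.of (by decide +kernel)) _ p2))).2
    have c3 : Cj c d.z d.u := p1 ▸ p3 ▸ (c2 gz (BD.of (by decide +kernel))).2.to
      (congrArg _ (BD.of (by decide +kernel)))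
    obtain ⟨l, m, e1⟩ := h.mem_V2.1 (c3.mem n (subset_closure (by simp)))
    simp [h.el_u, h.el_eq_iff] at e1

end Cfsg.Agent.HSD.I1
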