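import Cfsg.Agent.HSD.I1a

/-! Type (I, I), `4 × 4 × 4` layers: actions on `S₁` and `Q₂`. -/

set_option autoImplicit false
set_option linter.unusedSectionVars false
set_option linter.unusedVariables false
set_option linter.unusedSimpArgs false
set_option maxRecDepth 100000

namespace Cfsg.Agent.HSD.I1

open Cfsg Subgroup Cfsg.Agent.PLocal Cfsg.Agent.PLocal.Amb Cfsg.Agent.MacW
open Cfsg.Agent.Comp Cfsg.Agent.X32 Pc

variable {G : Type*} [Group G] [Finite G] {d : Dat G}

/-- `g` acts on the image of `ψ` by `O` -/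
def Act {K : Type*} [Group K] (ψ : K →* G) (g : G) (O : K → K) : Prop := ∀ x, Cj g (ψ x) (ψ (O x))

section
variable {K : Type*} [Group K] {ψ : K →* G} {g g' : G} {O O' : K → K}

theorem Act.comp (h : Act ψ g O) (h' : Act ψ g' O') : Act ψ (g * g') fun x => O (O' x) :=
  fun x => (h' x).comp (h _)
theorem Act.inner (ψ : K →* G) (m : K) : Act ψ (ψ m) fun x => m * x * m⁻¹ := fun x => map_cj ψ rfl
theorem Act.inn {m : K} (e : g = ψ m) : Act ψ g fun x => m * x * m⁻¹ := e ▸ Act.inner ψ m
theorem Act.norm (h : Act ψ g O) : g ∈ 𝐍[ψ.range] := norm_range fun x => ⟨_, h x⟩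
theorem Act.cent' (h : Act ψ g O) (h' : Act ψ g' O') (e : ∀ x, O x = O' x) :
    g'⁻¹ * g ∈ 𝐂[ψ.range] := by
  rintro _ ⟨x, rfl⟩
  exact ((h x).comp (e x ▸ (h' x).symm)).comm.symm
theorem Act.cent (h : Act ψ g O) (h' : Act ψ g' O') (e : ∀ x, O x = O' x) :
    g * g'⁻¹ ∈ 𝐂[ψ.range] := by
  have := conj_mem_of_mem_normalizer (normalizer_le_normalizer_centralizer _ h'.norm) (h.cent' h' e)
  simpa [mul_assoc] using this
theorem Act.cent1 (h : Act ψ g O) (e : ∀ x, O x = x) : g ∈ 𝐂[ψ.range] := by
  rintro _ ⟨x, rfl⟩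
  exact ((h x).to (congrArg ψ (e x))).comm.symm
theorem Act.of_cent (h : Act ψ g O) (hc : g' * g⁻¹ ∈ 𝐂[ψ.range]) : Act ψ g' O := fun x => by
  simpa using (h x).comp (Cj.of_cent hc ⟨_, rfl⟩)
theorem Act.congr (h : Act ψ g O) (e : ∀ x, O x = O' x) : Act ψ g O' := fun x => e x ▸ h x
theorem Act.inv (h : Act ψ g O) (e : ∀ x, O (O' x) = x) : Act ψ g⁻¹ O' := fun x => by
  have := (h (O' x)).symm
  rwa [e] at this
theorem Act.cj (h : Act ψ g O) {x y : G} {a b : K} (h1 : x = ψ a) (h2 : y = ψ b) (e : O a = b) :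
    Cj g x y := h1 ▸ h2 ▸ e ▸ h a

end

theorem mem_ext {D : Subgroup G} {c g : G} (hn : c ∈ 𝐍[D]) (h2 : c * c ∈ D) (hg : g ∈ D ⊔ zpowers c) :
    g ∈ D ∨ g * c⁻¹ ∈ D := by
  obtain ⟨a, ha, _, ⟨n, rfl⟩, rfl⟩ := (mem_sup_of_le_normalizer_left (zpowers_le.2 hn)).1 hg
  obtain ⟨m, rfl | rfl⟩ := Int.even_or_odd' n
  · exact .inl (mul_mem ha (by simpa only [zpow_mul, zpow_two] using zpow_mem h2 m))
  · exact .inr (by
      simpa only [zpow_add_one, mul_assoc, mul_inv_cancel, mul_one, zpow_mul, zpow_two] using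
        mul_mem ha (zpow_mem h2 m))

theorem sq_ext {D : Subgroup G} {c g : G} (hn : c ∈ 𝐍[D]) (h2 : c * c ∈ D) (hg : g ∈ D ⊔ zpowers c) :
    g * g ∈ D := by
  rcases mem_ext hn h2 hg with h | h
  · exact mul_mem h h
  · convert mul_mem (mul_mem h (conj_mem_of_mem_normalizer hn h)) h2 using 1
    group

theorem norm_ext {D : Subgroup G} {c g : G} (hg : g ∈ 𝐍[D]) (h : g * c * g⁻¹ ∈ D ⊔ zpowers c) :
    g ∈ 𝐍[D ⊔ zpowers c] :=
  mem_normalizer_of_cj_le (by
    rw [cj_sup, cj_of_mem_normalizer hg, MonoidHom.map_zpowers]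
    exact sup_le le_sup_left (zpowers_le.2 h))

theorem pow_D {A : Subgroup G} (hA : IsPGroup 2 A) {g : G} (hg : g ∈ A ⊔ 𝐂[A]) :
    ∃ k : ℕ, g ^ 2 ^ k ∈ 𝐂[A] := by
  obtain ⟨a, ha, c, hc, rfl⟩ := (mem_sup_of_le_normalizer_left (centralizer_le_normalizer' A)).1 hg
  obtain ⟨k, hk⟩ := isPGroup_iff.1 hA a ha
  refine ⟨k, ?_⟩
  rw [Commute.mul_pow (hc a ha), hk, one_mul]
  exact pow_mem hc _

theorem norm_D {A : Subgroup G} {g : G} (hg : g ∈ 𝐍[A]) : g ∈ 𝐍[A ⊔ 𝐂[A]] :=
  le_normalizer_sup le_rfl (normalizer_le_normalizer_centralizer A) hg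

theorem D_le (A : Subgroup G) : A ⊔ 𝐂[A] ≤ 𝐍[A] := sup_le le_normalizer (centralizer_le_normalizer' A)

theorem mem_D {A : Subgroup G} {g a : G} (ha : a ∈ A) (h : g * a⁻¹ ∈ 𝐂[A]) : g ∈ A ⊔ 𝐂[A] := by
  simpa using mul_mem (mem_sup_right h : _ ∈ A ⊔ 𝐂[A]) (mem_sup_left ha)

theorem act_gs {T : Tab} [Fact T.OK] (ψ : TG T →* G) {g : G} (C : ℕ) (gs : List (TG T))
    (hg : ∀ s ∈ gs, Cj g (ψ s) (ψ (lkE C s)))
    (h : ∀ k : TG T, (k = 1 ∧ lkE C k = 1) ∨
      ∃ s ∈ gs, True ∧ (s * k).v < k.v ∧ lkE C (s * k) = lkE C s * lkE C k) : Act ψ g (lkE C) :=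
  fun k => act_tab ψ g (fun _ => True) _ gs hg (fun k _ => h k) k trivial

section S
open I1S
variable {ψ : K →* G} {e k : G}

theorem SH.act (S : SH d ψ e k) (C : ℕ) {g z' u' e' k' t' a' b' : G} (h1 : Cj g d.z z') (h2 : Cj g d.u u')
    (h3 : Cj g e e') (h4 : Cj g k k') (h5 : Cj g d.t t') (h6 : Cj g d.a a') (h7 : Cj g d.b b')
    (h : (z' = ψ (lkE C gz) ∧ u' = ψ (lkE C gu) ∧ e' = ψ (lkE C ge) ∧ k' = ψ (lkE C gh) ∧
      t' = ψ (lkE C gt) ∧ a' = ψ (lkE C ga) ∧ b' = ψ (lkE C gb)) ∧ ∀ k : K, (k = 1 ∧ lkE C k = 1) ∨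
      ∃ s ∈ gs, True ∧ (s * k).v < k.v ∧ lkE C (s * k) = lkE C s * lkE C k) : Act ψ g (lkE C) := by
  obtain ⟨⟨rfl, rfl, rfl, rfl, rfl, rfl, rfl⟩, h⟩ := h
  obtain ⟨p1, p2, p3, p4, p5, p6, p7⟩ := S.all
  refine act_gs ψ C gs ?_ h
  simp only [List.forall_mem_cons, List.not_mem_nil, false_imp_iff, implies_true, and_true]
  exact ⟨p1 ▸ h1, p2 ▸ h2, p3 ▸ h3, p4 ▸ h4, p5 ▸ h5, p6 ▸ h6, p7 ▸ h7⟩

theorem SH.card (S : SH d ψ e k) : Nat.card ψ.range = 128 := (card_range S.inj).trans I1S.card
theorem SH.pgrp (S : SH d ψ e k) : IsPGroup 2 ψ.range := .of_card (n := 7) S.card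
theorem SH.S0 (S : SH d ψ e k) : d.S0 ≤ ψ.range := (closure_le _).2 (by
  obtain ⟨p1, p2, p3, p4, p5, p6, p7⟩ := S.all
  rintro _ (rfl | rfl | rfl | rfl)
  exacts [⟨_, p5.symm⟩, ⟨_, p2.symm⟩, ⟨_, p6.symm⟩, ⟨_, p7.symm⟩])

end S

section Q
open I1Q
variable {φ : K →* G} {c e f k : G}

theorem QH.act (S : QH d φ c e f k) (C : ℕ) {g z' c' u' e' f' k' t' : G} (h1 : Cj g d.z z')
    (h2 : Cj g c c') (h3 : Cj g d.u u') (h4 : Cj g e e') (h5 : Cj g f f') (h6 : Cj g k k')
    (h7 : Cj g d.t t')
    (h : (z' = φ (lkE C gz) ∧ c' = φ (lkE C gb) ∧ u' = φ (lkE C gu) ∧ e' = φ (lkE C ge) ∧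
      f' = φ (lkE C gf) ∧ k' = φ (lkE C gh) ∧ t' = φ (lkE C gt)) ∧ ∀ k : K, (k = 1 ∧ lkE C k = 1) ∨
      ∃ s ∈ gs, True ∧ (s * k).v < k.v ∧ lkE C (s * k) = lkE C s * lkE C k) : Act φ g (lkE C) := by
  obtain ⟨⟨rfl, rfl, rfl, rfl, rfl, rfl, rfl⟩, h⟩ := h
  obtain ⟨p1, p2, p3, p4, p5, p6, p7⟩ := S.all
  refine act_gs φ C gs ?_ h
  simp only [List.forall_mem_cons, List.not_mem_nil, false_imp_iff, implies_true, and_true]
  exact ⟨p1 ▸ h1, p2 ▸ h2, p3 ▸ h3, p4 ▸ h4, p5 ▸ h5, p6 ▸ h6, p7 ▸ h7⟩

theorem QH.A2 (H : QH d φ d.b e f k) : d.A2 ≤ φ.range := (closure_le _).2 (by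
  obtain ⟨p1, p2, p3, p4, p5, p6, p7⟩ := H.all
  rintro _ (rfl | rfl | rfl | rfl)
  exacts [⟨_, p7.symm⟩, ⟨_, p3.symm⟩, ⟨_, p1.symm⟩, ⟨_, p2.symm⟩])

def sF1 : ℕ := 0x7b007a00790078007e007f007c007d00730072007100700076007700740075004a004b00480049004f004e004d004c00420043004000410047004600450044005b005a00590058005e005f005c005d00530052005100500056005700540055006a006b00680069006f006e006d006c00620063006000610067006600650064001f001e001d001c001b001a0019001800170016001500140013001200110010002f002e002d002c002b002a0029002800270026002500240023002200210020003f003e003d003c003b003a0039003800370036003500340033003200310030000f000e000d000c000b000a0009000800070006000500040003000200010000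
def sF2 : ℕ := 0x7b007a00790078007e007f007c007d00730072007100700076007700740075002b002a00290028002e002f002c002d00230022002100200026002700240025001f001e001d001c001b001a0019001800170016001500140013001200110010004f004e004d004c004b004a0049004800470046004500440043004200410040003b003a00390038003e003f003c003d00330032003100300036003700340035006b006a00690068006e006f006c006d00630062006100600066006700640065005f005e005d005c005b005a0059005800570056005500540053005200510050000f000e000d000c000b000a0009000800070006000500040003000200010000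
def sW : ℕ := 0x780079007b007a007d007c007e007f0077007600740075007300720070007100680069006b006a006d006c006e006f0067006600640065006300620060006100390038003a003b003c003d003f003e0036003700350034003200330031003000290028002a002b002c002d002f002e0026002700250024002200230021002000590058005a005b005c005d005f005e0056005700550054005200530051005000490048004a004b004c004d004f004e0046004700450044004200430041004000190018001a001b001c001d001f001e0016001700150014001200130011001000090008000a000b000c000d000f000e00060007000500040002000300010000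
def qR : ℕ := 0x77007500740076007000720073007100670065006400660060006200630061006d006f006e006c006a00680069006b007f007d007c007e0078007a007b0079004f004d004c004e0048004a004b0049005d005f005e005c005a00580059005b00560054005500570051005300520050004600440045004700410043004200400037003500340036003000320033003100270025002400260020002200230021002d002f002e002c002a00280029002b003f003d003c003e0038003a003b0039000f000d000c000e0008000a000b0009001d001f001e001c001a00180019001b0016001400150017001100130012001000060004000500070001000300020000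
def qK : ℕ := 0x7b007a00790078007e007f007c007d00730072007100700076007700740075006a006b00680069006f006e006d006c0062006300600061006700660065006400570056005500540052005300500051005e005f005c005d005b005a0059005800460047004400450043004200410040004f004e004d004c004a004b0048004900320033003000310037003600350034003b003a00390038003e003f003c003d00230022002100200026002700240025002a002b00280029002f002e002d002c001f001e001d001c001a001b0018001900170016001500140012001300100011000e000f000c000d000b000a0009000800060007000400050003000200010000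
def qK0 : ℕ := 0x7a007b00780079007f007e007d007c00720073007000710077007600750074006a006b00680069006f006e006d006c0062006300600061006700660065006400560057005400550053005200510050005f005e005d005c005a005b0058005900460047004400450043004200410040004f004e004d004c004a004b0048004900330032003100300036003700340035003a003b00380039003f003e003d003c00230022002100200026002700240025002a002b00280029002f002e002d002c001e001f001c001d001b001a0019001800160017001400150013001200110010000e000f000c000d000b000a0009000800060007000400050003000200010000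
def qA : ℕ := 0x740075007700760070007100730072007d007c007e007f00790078007a007b006e006f006d006c006a006b006900680066006700650064006200630061006000540055005700560050005100530052005d005c005e005f00590058005a005b004e004f004d004c004a004b004900480046004700450044004200430041004000340035003700360030003100330032003d003c003e003f00390038003a003b002e002f002d002c002a002b002900280026002700250024002200230021002000140015001700160010001100130012001d001c001e001f00190018001a001b000e000f000d000c000a000b0009000800060007000500040002000300010000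
def qL : ℕ := 0x7a007b00780079007c007d007e007f00700071007200730076007700740075006a006b00680069006c006d006e006f00600061006200630066006700640065004f004e004d004c00490048004b004a00450044004700460043004200410040005d005c005f005e005b005a005900580057005600550054005100500053005200280029002a002b002e002f002c002d00220023002000210024002500260027003a003b00380039003c003d003e003f00300031003200330036003700340035001f001e001d001c00190018001b001a00150014001700160013001200110010000f000e000d000c00090008000b000a00050004000700060003000200010000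

/-- `ρ` on `Q₂` -/
theorem QH.actR (h : d.Cfg) (H : QH d φ d.b e f k) {ρ : G} (L : d.sw.Lay e f ρ true)
    (ph : Cj ρ (k * e * d.u) (k * e * d.u)) : Act φ ρ (lkE qR) := by
  have pu : Cj ρ d.u (d.u * d.z * d.b) := by
    have : Cj ρ (d.u * d.z * d.z) (d.u * d.z * d.b) := L.pu.mul L.pz
    rwa [← h.u_sw] at this
  exact H.act qR L.pz L.pa pu L.pe L.pf (by simpa using (ph.mul pu.inv).mul L.pe.inv) L.pt (by
    simp only [Dat.sw, H.all, ← map_mul, ← map_inv, H.inj.eq_iff]; exact BD.of (by decide +kernel))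

/-- `a` on `Q₂` -/
theorem QH.actA (h : d.Cfg) (H : QH d φ d.b e f k) {ρ : G} (L : d.sw.Lay e f ρ true)
    (ka : Cj k d.a d.a) : Act φ d.a (lkE qA) :=
  H.act qA (.of_comm h.za.symm) (show Cj d.a d.b (d.b * d.z) by
      rw [Cj, h.ab, mul_assoc, mul_assoc, ← mul_assoc d.a, ← h.za]; group) (.of_comm h.au)
    L.ac.b.flip L.fb.flipL ka.flip (.of_comm h.at') (by
    simp only [Dat.sw, bp_true, H.all, ← map_mul, ← map_inv, H.inj.eq_iff]
    exact BD.of (by decide +kernel))

theorem QH.actK (h : d.Cfg) (H : QH d φ d.b e f k) {x : G}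
    (ack : d.Ac x (d.t * e) (d.u * d.z) d.a d.b) (ke : Cj x e e) (kh : Cj x k (e * k⁻¹))
    (kf : Cj x f (f * d.z)) : Act φ x (lkE qK) :=
  H.act qK (h.cz' ack.a ack.b) ack.b ack.u ke kf kh ack.t (by
    simp only [H.all, ← map_mul, ← map_inv, H.inj.eq_iff]; exact BD.of (by decide +kernel))

theorem QH.notK0 (h : d.Cfg) (ε : d.Eps) (H : QH d φ d.b e f k) {ρ x : G} (R : Act φ ρ (lkE qR))
    (ack : d.Ac x (d.t * e) (d.u * d.z) d.a d.b) (ke : Cj x e e) (kh : Cj x k (e * k⁻¹))
    (kf : Cj x f f) : False := by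
  have A : Act φ x (lkE qK0) := H.act qK0 (h.cz' ack.a ack.b) ack.b ack.u ke kf kh ack.t (by
    simp only [H.all, ← map_mul, ← map_inv, H.inj.eq_iff]; exact BD.of (by decide +kernel))
  have B := (R.comp A).comp ((R.comp A).comp (R.comp A))
  set g := ρ * x * (ρ * x * (ρ * x))
  have B2 : g * g ∈ 𝐂[φ.range] := (B.comp B).cent1 (BD.of (by decide +kernel))
  obtain ⟨m, j, ⟨i, rfl⟩, hm⟩ := exists_two_part g
  have B3 := B.of_cent (g' := g ^ (2 * i + 1)) (by
    rw [pow_succ, mul_inv_cancel_right, pow_mul, pow_two]; exact pow_mem B2 i)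
  obtain ⟨p1, p2, p3, p4, p5, p6, p7⟩ := H.all
  have c1 : g ^ (2 * i + 1) ∈ 𝐂[d.A2] := mem_cent_closure (by
    rintro _ (rfl | rfl | rfl | rfl)
    exacts [B3.cj p7 p7 (BD.of (by decide +kernel)), B3.cj p3 p3 (BD.of (by decide +kernel)),
      B3.cj p1 p1 (BD.of (by decide +kernel)), B3.cj p2 p2 (BD.of (by decide +kernel))])
  have c2 := (h.sylA2 ε).max _ (two_sup (h.sylA2 ε).pgrp (centralizer_le_normalizer' _ c1) hm)
    le_sup_left (sup_le (h.sylA2 ε).le (zpowers_le.2 c1)) (mem_sup_right (mem_zpowers _))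
  obtain ⟨y, hy⟩ := H.A2 c2
  have c3 := H.inj ((B3 gh).unique (hy ▸ Act.inner φ y gh))
  revert c3
  exact (BD.of (by decide +kernel) : ∀ y : K, ¬ lkE qR (lkE qK0 (lkE qR (lkE qK0 (lkE qR (lkE qK0 gh))))) =
    y * gh * y⁻¹) y

end Q

end Cfsg.Agent.HSD.I1
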