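import Cfsg.Agent.HSD.I1e

/-! Type (I, I), `4 × 4 × 4` layers: the table `s = false` is excluded by transfer. -/

set_option autoImplicit false
set_option linter.unusedSectionVars false
set_option linter.unusedVariables false
set_option linter.unusedSimpArgs false
set_option maxRecDepth 100000
set_option synthInstance.maxSize 4000

namespace Cfsg.Agent.HSD.I1

open Cfsg Subgroup Cfsg.Agent.PLocal Cfsg.Agent.PLocal.Amb Cfsg.Agent.MacW
open Cfsg.Agent.Comp Cfsg.Agent.X32 Pc Dat.Cfg

variable {G : Type*} [Group G] [Finite G] {d : Dat G} {e k f ρ o c l w : G}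

theorem relIndex_two {P M Y : Subgroup G} (hM : M.relIndex P = 2) (hY : Y ≤ P) {y : G} (hy : y ∈ Y)
    (hy' : y ∉ M) : (M ⊓ Y).relIndex Y = 2 := by
  rw [inf_relIndex_right]
  have h1 := relIndex_le_of_le_right (H := M) hY (by omega)
  have h2 : M.relIndex Y ≠ 1 := fun e => hy' (relIndex_eq_one.1 e hy)
  have h3 : M.relIndex Y ≠ 0 := index_ne_zero_of_finite
  omega

theorem two_of_card {H Y : Subgroup G} (hle : H ≤ Y) (hc : Nat.card Y = 2 * Nat.card H) {a b : G}
    (ha : a ∈ Y) (hb : b ∈ Y) : a ∈ H ∨ b ∈ H ∨ a * b ∈ H := by
  have e := (H.subgroupOf Y).card_mul_index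
  rw [Nat.card_congr (subgroupOfEquivOfLe hle).toEquiv, hc, mul_comm 2] at e
  have := mul_mem_iff_of_index_two (Nat.eq_of_mul_eq_mul_left Nat.card_pos e) (a := ⟨a, ha⟩)
    (b := ⟨b, hb⟩)
  simp only [mem_subgroupOf, coe_mul] at this
  tauto

section
variable {T : Tab} [Fact T.OK]

theorem mul_on {A : Type*} [Group A] (p : TG T → Prop) (c : TG T → A) (gs : List (TG T))
    (pm : ∀ x y, p x → p y → p (x * y)) (h0 : c 1 = 1)
    (hg : ∀ k, p k → k = 1 ∨ ∃ g ∈ gs, p (g * k) ∧ (g * k).v < k.v)
    (hm : ∀ g ∈ gs, ∀ k, p k → c (g * k) = c g * c k) (x y : TG T) (hx : p x) (hy : p y) :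
    c (x * y) = c x * c y := by
  induction hn : x.v using Nat.strong_induction_on generalizing x with
  | _ n ih =>
    rcases hg x hx with rfl | ⟨g, h1, h2, h3⟩
    · rw [one_mul, h0, one_mul]
    · have := ih _ (hn ▸ h3) _ h2 rfl
      rw [mul_assoc, hm g h1 _ (pm x y hx hy), hm g h1 x hx, mul_assoc] at this
      exact mul_left_cancel this

def Md (C : ℕ) (x y : TG T) : Prop := lk C (x * y).v % 4 = (lk C x.v + lk C y.v) % 4

instance instMd (C : ℕ) (x y : TG T) {a b : ℕ} [TG.EV x a] [TG.EV y b] : BD (Md C x y)
    (Nat.beq (Nat.mod (lk C (T.mu a b)) 4) (Nat.mod (Nat.add (lk C a) (lk C b)) 4)) := ⟨by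
  rw [← TG.EV.h (a := x), ← TG.EV.h (a := y), beq_iff]; rfl⟩

end

open I1F

def c4 : ℕ := 0x300030003000300010001000100010003000300030003000100010001000100030003000300030001000100010001000300030003000300010001000100010002000200020002000000000000000000020002000200020000000000000000000200020002000200000000000000000002000200020002000000000000000000010001000100010003000300030003000100010001000100030003000300030001000100010001000300030003000300010001000100010003000300030003000000000000000000020002000200020000000000000000000200020002000200000000000000000002000200020002000000000000000000020002000200020000000000000000000000000000000000000000000000000000000000000000000000000000000000000000000000000000000000000000000000000000000000000000000000000000000000000000000000000000000000000000000000000000000000000000000000000000000000000000000000000000000000000000000100010001000100030003000300030001000100010001000300030003000300010001000100010003000300030003000100010001000100030003000300030000000000000000000200020002000200000000000000000002000200020002000000000000000000020002000200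0200000000000000000002000200020002000000000000000000000000000000000000000000000000000000000000000000000000000000000000000000000000000000000000000000000000000000000000000000000000000000000000000000000000000000000000000000000000000000000000000000000000000000000000000000000000000000000000000000000000000000000000000000000000000000000000000000000000000000000000000000000000000000000000000000000000000000000000000000000000000000000000000000000000000000000000000000000000000000000000000000000000000000000000000000000000000000000000000000000000000000000003000300030003000100010001000100030003000300030001000100010001000300030003000300010001000100010003000300030003000100010001000100020002000200020000000000000000000200020002000200000000000000000002000200020002000000000000000000020002000200020000000000000000000000000000000000000000000000000000000000000000000000000000000000000000000000000000000000000000000000000000000000000000000000000000000000000000000000000000000000000000000000000000000000000000000000000000000000000000000000000000000000000000000000000000000000030003000300030001000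1000100010003000300030003000100010001000100030003000300030001000100010001000300030003000300010001000100010002000200020002000000000000000000020002000200020000000000000000000200020002000200000000000000000002000200020002000000000000000000010001000100010003000300030003000100010001000100030003000300030001000100010001000300030003000300010001000100010003000300030003000000000000000000020002000200020000000000000000000200020002000200000000000000000002000200020002000000000000000000020002000200020000000000000000000000000000000000000000000000000000000000000000000000000000000000000000000000000000000000000000000000000000000000000000000000000000000000000000000000000000000000000000000000000000000000000000000000000000000000000000000000000000000000000000000100010001000100030003000300030001000100010001000300030003000300010001000100010003000300030003000100010001000100030003000300030000000000000000000200020002000200000000000000000002000200020002000000000000000000020002000200020000000000000000000200020002000200000000000000000000000000000000000000000000000000000000000000000000000000000000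0000000000000000000000000000000000000000000000000000000000000000000000000000000000000000000000000000000000000000000000000000000000000000000000000000000000000000000000000000000000000000000000000000000000000000000000000000000000000000000000000000000000000000000000000000000000000000000000000000000000000000000000000000000000000000000000000000000000000000000000000000000000000000000000000000000000000000000000000000000000000000000000000003000300030003000100010001000100030003000300030001000100010001000300030003000300010001000100010003000300030003000100010001000100020002000200020000000000000000000200020002000200000000000000000002000200020002000000000000000000020002000200020000000000000000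

theorem f_ix (m : ℕ) (h : Evn m (1 : K) ∧ ¬ Evn m (kt : K) ∧
    ∀ g ∈ (ks : List K), ∀ k, Evn m (g * k) ↔ (Evn m g ↔ Evn m k)) :
    ∃ M : Subgroup K, M.index = 2 ∧ ∀ k, k ∈ M ↔ Evn m k :=
  exists_index_two ks _ h.1 (fun k => by simpa using ffF.gen k trivial) h.2.2 h.2.1

theorem f_g2 : ∀ k : K, Evn 448 k → k = 1 ∨ ∃ g ∈ [kz, kb, ku, ke, kf, kh, kt * kk, kt * kl, ka],
    Evn 448 (g * k) ∧ (g * k).v < k.v := BD.of (by decide +kernel)
theorem f_g3 : ∀ k : K, Evn 480 k → k = 1 ∨ ∃ g ∈ [kz, kb, ku, ke, kf, kh * kt, kh * kk, kh * kl, ka],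
    Evn 480 (g * k) ∧ (g * k).v < k.v := BD.of (by decide +kernel)
theorem f_md : ∀ g ∈ ([kz, kb, ku, ke, kf, kh, kt * kk, kt * kl, ka] : List K), ∀ k, Evn 448 k →
    Md c4 g k := BD.of (by decide +kernel)
theorem f_E : ∀ k : K, Msk 960 k → k * ku = ku * k ∧
    (k * k = 1 → k ∈ [1, kz, kb, kb * kz] ∨ Ent c4 2 k) := BD.of (by decide +kernel)
theorem f_y : ∀ r : K, r * (ku * kh * kk) = ku * kh * kk * r → Evn 480 r ∧ r * r ≠ ku * kh * kk :=
  BD.of (by decide +kernel)
theorem f_c : Nat.card (centralizer {(ku * kh * kk : K)}) = 256 :=
  (Nat.card_congr (Equiv.subtypeEquivRight fun _ => mem_centralizer_singleton_iff)).trans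
    ((TG.card_eq fun k : K => k * (ku * kh * kk) = ku * kh * kk * k).trans (by decide +kernel))
theorem f_p : ∀ y : K, y * y = 1 → Evn 448 y → y = 1 ∨ ∃ a ∈ (TG.es [9, 213, 524, 1011] : List K),
    ∃ b ∈ (TG.es [9, 213, 524, 1011] : List K), ¬ Evn 480 y ∨ Evn 480 a ∧ Evn 480 b ∧
      ∀ x ∈ [a, b, a * b], x * y = y * x → x * x = y := BD.of (by decide +kernel)

variable {φ : K →* G}

theorem memX {X M : Subgroup K} (hM : M.index = 2) (h1 : M ≤ X) (h2 : kt ∉ X) {y : K} :
    y ∈ X ↔ y ∈ M :=
  ⟨fun hy => by_contra fun c => h2 ((mul_mem_cancel_right hy).1 (h1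
    ((mul_mem_iff_of_index_two hM).2 (iff_of_false (fun a => h2 (h1 a)) c)))), fun hy => h1 hy⟩

theorem caseF (h : d.Cfg) (W : d.E2 w) (J : TI d e k f ρ o c l false) : False := by
  have : Fact (Nat.Prime 2) := ⟨Nat.prime_two⟩
  obtain ⟨φ, H⟩ := thF h J
  obtain ⟨p0, p1, p2, p3, p4, p5, p6, p7, p8, p9⟩ := H.all
  have hP := ffF.syl h H J W
  obtain ⟨M, iM, mM⟩ := f_ix 448 (BD.of (by decide +kernel))
  obtain ⟨N, iN, mN⟩ := f_ix 480 (BD.of (by decide +kernel))
  have rM := (relIndex_map_range H.inj M).trans iM
  have tX : d.t ∉ d.X := h.thompson hP (map_le_range φ M) rM h.tt (R := ⊥) IsPGroup.of_bot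
    (fun r hr => by rw [mem_bot.1 hr, mul_one, one_mul]) fun g ⟨y, hy, e⟩ _ =>
      (ffF.invT h H J W (e ▸ d.T_t.cj rfl)).1 ((mM y).1 hy)
  obtain ⟨eX, fX, -⟩ := h.sw.lay_mem J.lay
  have uX : d.u ∈ d.X := J.hh ▸ h.sq_mem k
  have zX := h.KX h.z_K
  have bX := h.KX h.b_K
  have aX := h.KX h.a_K
  have cX : c ∉ d.X := fun a => by
    have a1 := (h.cj_X J.pk).2 a
    have a2 := mul_mem (mul_mem a a1) ((h.cj_X J.pl).2 a1)
    rw [J.m] at a2
    exact tX ((mul_mem_cancel_left (mul_mem uX fX)).1 a2)
  have lX : l ∉ d.X := mt (h.cj_X J.pk).1 cX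
  have hY := h.sylX hP
  by_cases kX : k ∈ d.X
  · have mX : ∀ y, φ y ∈ d.X ↔ Evn 448 y := fun y => by
      rw [← mM]
      refine memX (X := d.X.comap φ) iM (fun x hx => mem_of_gen φ _ _ f_g2 ?_ x ((mM x).1 hx))
        (p6 ▸ tX :)
      simp only [List.forall_mem_cons, List.not_mem_nil, false_imp_iff, implies_true, and_true,
        map_mul, ← p0, ← p1, ← p2, ← p3, ← p4, ← p5, ← p6, ← p7, ← p8, ← p9]
      exact ⟨zX, bX, uX, eX, fX, kX, h.mul_mem_X tX cX, h.mul_mem_X tX lX, aX⟩
    have li := Function.leftInverse_invFun H.inj
    let χ : ↥(φ.range ⊓ d.X) →* Multiplicative (ZMod 4) := MonoidHom.mk'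
      (fun y => .ofAdd (lk c4 (Function.invFun φ y.1).v : ℕ)) (by
        rintro ⟨_, ⟨x, rfl⟩, hx⟩ ⟨_, ⟨y, rfl⟩, hy⟩
        change Multiplicative.ofAdd ((lk c4 (Function.invFun φ (φ x * φ y)).v : ℕ) : ZMod 4) =
          .ofAdd ((lk c4 (Function.invFun φ (φ x)).v : ℕ) : ZMod 4) *
          .ofAdd ((lk c4 (Function.invFun φ (φ y)).v : ℕ) : ZMod 4)
        rw [← map_mul, li x, li y, li (x * y)]
        exact mul_on (Evn 448) (fun x => Multiplicative.ofAdd ((lk c4 x.v : ℕ) : ZMod 4)) _
          (fun x y a b => (mM _).1 (mul_mem ((mM x).2 a) ((mM y).2 b)))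
          (by rw [show lk c4 (1 : K).v = 0 by decide +kernel]; rfl) f_g2 (fun g a k b => by
            rw [← ofAdd_add, ← Nat.cast_add]
            exact congrArg _ ((ZMod.natCast_eq_natCast_iff' _ _ _).2 (f_md g a k b))) x y
          ((mX x).1 hx) ((mX y).1 hy))
    refine absurd (xfer h.perf hY χ uX h.uu (R := sub φ kE) (hP.pgrp.to_le (sub_le φ _))
      ((closure_le _).2 ?_) (fun r hr => ?_) (.ofAdd 2) fun g _ ⟨⟨y, hy⟩, _⟩ a => ?_) (by decide)
    · rintro _ ⟨s, hs, rfl⟩
      revert s
      simp only [Set.mem_ofPred_eq, List.forall_mem_cons, List.not_mem_nil, false_imp_iff,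
        implies_true, and_true, ← p0, ← p1, ← p2, ← p3, ← p4, ← p5]
      exact ⟨zX, bX, uX, eX, fX, kX⟩
    · obtain ⟨y, hy, rfl⟩ := ffF.memE.1 hr
      rw [p2, ← map_mul, (f_E y hy).1, map_mul]
    · have n := ffF.uniq H (a.trans inf_le_left)
      obtain ⟨x, hx, e⟩ := ffF.memE.1 (conj_mem_of_mem_normalizer n (ffF.mu H))
      rcases (f_E x hx).2 (H.inj (by rw [map_mul, e, conj_mul, h.uu]; simp)) with b | b
      · have mz : d.z ∈ d.V2 := subset_closure (by simp)
        have mb : d.b ∈ d.V2 := subset_closure (by simp)
        have : φ x ∈ d.V2 := by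
          simp only [List.mem_cons, List.not_mem_nil, or_false] at b
          rcases b with rfl | rfl | rfl | rfl <;> simp [← p0, ← p1, mz, mb, mul_mem]
        rw [e, ← mem_normalizer_iff.1 (ffF.nV h H J W n)] at this
        simp [h.mem_V2, h.el_u, h.el_eq_iff] at this
      · change Multiplicative.ofAdd ((lk c4 (Function.invFun φ (g * d.u * g⁻¹)).v : ℕ) : ZMod 4) = _
        rw [← e, li x, show lk c4 x.v = 2 from b]; rfl
  · have mX : ∀ y, φ y ∈ d.X ↔ Evn 480 y := fun y => by
      rw [← mN]
      refine memX (X := d.X.comap φ) iN (fun x hx => mem_of_gen φ _ _ f_g3 ?_ x ((mN x).1 hx))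
        (p6 ▸ tX :)
      simp only [List.forall_mem_cons, List.not_mem_nil, false_imp_iff, implies_true, and_true,
        map_mul, ← p0, ← p1, ← p2, ← p3, ← p4, ← p5, ← p6, ← p7, ← p8, ← p9]
      exact ⟨zX, bX, uX, eX, fX, h.mul_mem_X kX tX, h.mul_mem_X kX cX, h.mul_mem_X kX lX, aX⟩
    set y₀ : K := ku * kh * kk
    have yX : φ y₀ ∈ d.X := (mX _).2 (BD.of (by decide +kernel))
    have yy : φ y₀ * φ y₀ = 1 := by
      rw [← map_mul, show y₀ * y₀ = 1 from BD.of (by decide +kernel), map_one]
    obtain ⟨g, -, ⟨⟨y, m1, e⟩, -, m2⟩, a⟩ := h.thompsonX hY inf_le_right (relIndex_two rM inf_le_left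
      (mem_inf.2 ⟨⟨y₀, rfl⟩, yX⟩) fun a => absurd ((mM _).1 ((mem_map_iff_mem H.inj).1 a))
        (BD.of (by decide +kernel))) yX yy (R := (centralizer {y₀}).map φ)
      ((ffF.pg.to_subgroup _).map φ) (by
        rintro _ ⟨r, hr, rfl⟩
        exact (mX r).2 (f_y r (mem_centralizer_singleton_iff.1 hr)).1) (by
        rintro _ ⟨r, hr, rfl⟩
        rw [← map_mul, mem_centralizer_singleton_iff.1 hr, map_mul])
    rcases f_p y (H.inj (by rw [map_mul, e, conj_mul, yy]; simp)) ((mM y).1 m1) with
      rfl | ⟨x, -, x', -, b | ⟨b1, b2, b3⟩⟩
    · rw [map_one, eq_comm, conj_eq_one_iff, map_eq_one_iff φ H.inj] at e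
      exact absurd e (BD.of (by decide +kernel))
    · exact b ((mX y).1 (e ▸ m2))
    have key : ∀ v ∈ [x, x', x * x'], φ v ∉ cj(g, (centralizer {y₀}).map φ) := by
      rintro v hx ⟨_, ⟨r, hr, rfl⟩, e'⟩
      have r1 := mem_centralizer_singleton_iff.1 hr
      have e1 : Cj g (φ r) (φ v) := e'
      have e2 : Cj g (φ y₀) (φ y) := e.symm
      have e3 := b3 v hx (H.inj (by
        rw [map_mul, map_mul]
        exact (e1.mul e2).unique (by rw [← map_mul, r1, map_mul]; exact e2.mul e1)))
      refine (f_y r r1).2 (H.inj ?_)
      rw [map_mul]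
      exact (e1.mul e1).symm.unique (by rw [← map_mul, e3]; exact e2.symm)
    have := two_of_card a (by
      have := h.relIndex_X tX (P := φ.range) ⟨_, p6.symm⟩
      rw [card_range H.inj, I1F.card] at this
      rw [card_cj, card_map H.inj, f_c]; omega) (mem_inf.2 ⟨⟨x, rfl⟩, (mX x).2 b1⟩)
      (mem_inf.2 ⟨⟨x', rfl⟩, (mX x').2 b2⟩)
    rw [← map_mul] at this
    rcases this with a | a | a <;> exact key _ (by simp) a

end Cfsg.Agent.HSD.I1
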