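import Mathlib
import Cfsg.Agent.HSD.Rig
import Cfsg.Agent.Z2S.Par

/-! Transfer lemmas for `G = X ⟨t⟩`. -/

set_option autoImplicit false
set_option linter.unusedSectionVars false
set_option linter.unusedVariables false

namespace Cfsg.Agent.HSD

open Cfsg Subgroup Cfsg.Agent.PLocal Cfsg.Agent.PLocal.Amb Cfsg.Agent.MacW

variable {G : Type*} [Group G] [Finite G]

namespace Dat.Cfg

variable {d : Dat G} (h : d.Cfg)
include h

theorem perf : ⁅d.X, d.X⁆ = d.X := by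
  have := h.sX
  rw [← map_subtype_commutator, commutator_def, (commutator_normal ⊤ ⊤).eq_bot_or_eq_top.resolve_left fun e => h.ncX
    ⟨⟨fun a b => commutatorElement_eq_one_iff_mul_comm.1 (mem_bot.1
      (e ▸ commutator_mem_commutator (mem_top a) (mem_top b)))⟩⟩, ← MonoidHom.range_eq_map,
    range_subtype]
theorem mul_mem_X {g k : G} (hg : g ∉ d.X) (hk : k ∉ d.X) : g * k ∈ d.X := by
  have := mul_mem ((h.gen g).resolve_left hg) (h.nX.conj_mem _ ((h.gen k).resolve_left hk) d.t)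
  rwa [mul_assoc, mul_assoc, mul_inv_cancel_right, ← mul_assoc d.t, h.tt, one_mul] at this
theorem eq_X {M : Subgroup G} (hM : M.index = 2) : M = d.X := by
  have l : d.X ≤ M := h.perf ▸ commutator_le.2 fun x _ y _ => by
    rw [commutatorElement_def, mul_assoc, mul_mem_iff_of_index_two hM, mul_mem_iff_of_index_two hM,
      mul_mem_iff_of_index_two hM, inv_mem_iff, inv_mem_iff]
  refine le_antisymm (fun m hm => by_contra fun c => ?_) l
  have : M = ⊤ := eq_top_iff.2 fun g _ => by_contra fun c' =>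
    c' ((M.mul_mem_cancel_right hm).1 (l (h.mul_mem_X (fun k => c' (l k)) c)))
  rw [this, index_top] at hM
  omega
theorem sq_mem (g : G) : g * g ∈ d.X :=
  by_contra fun c => c (h.mul_mem_X (fun k => c (mul_mem k k)) fun k => c (mul_mem k k))
theorem cm_mem (g k : G) : g * k * g⁻¹ * k⁻¹ ∈ d.X := by
  by_cases hk : k ∈ d.X
  · exact mul_mem (h.nX.conj_mem _ hk g) (inv_mem hk)
  · exact h.mul_mem_X (fun c => hk (by simpa [mul_assoc] using h.nX.conj_mem _ c g⁻¹))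
      (mt inv_mem_iff.1 hk)
theorem odd_mem {g : G} (ho : Odd (orderOf g)) : g ∈ d.X :=
  mem_of_pow_mem_of_coprime (n := 2) (by rw [sq]; exact h.sq_mem g) (Nat.coprime_two_right.2 ho)
theorem sylX {P : Subgroup G} (hP : IsSyl 2 P ⊤) : IsSyl 2 (P ⊓ d.X) d.X :=
  have := Fact.mk Nat.prime_two
  have := h.nX
  hP.inf_of_le le_top le_normalizer_of_normal
/-- Thompson transfer, extremal form, for any involution `y` -/
theorem thompson {P M R : Subgroup G} (hP : IsSyl 2 P ⊤) (hM : M ≤ P) (hi : M.relIndex P = 2)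
    {y : G} (yy : y * y = 1) (hR : IsPGroup 2 R) (hc : ∀ r ∈ R, r * y = y * r)
    (hn : ∀ g, g * y * g⁻¹ ∈ M → ¬ cj(g, R) ≤ P) : y ∉ d.X := by
  have := Fact.mk Nat.prime_two
  have ho := hP.not_dvd_relIndex
  rw [relIndex_top_right] at ho
  rcases Transfer.thompson_transfer_extremal (Nat.odd_iff.2 (by omega)) hM hi (by rw [sq, yy]) hR hc
    with ⟨N, -, h1, h2⟩ | ⟨g, h1, h2⟩
  · exact h.eq_X h1 ▸ h2
  · exact absurd h2 (hn g h1)
/-- Thompson transfer inside `X` -/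
theorem thompsonX {Y M R : Subgroup G} (hY : IsSyl 2 Y d.X) (hM : M ≤ Y) (hi : M.relIndex Y = 2)
    {y : G} (hy : y ∈ d.X) (yy : y * y = 1) (hR : IsPGroup 2 R) (hRX : R ≤ d.X)
    (hc : ∀ r ∈ R, r * y = y * r) : ∃ g ∈ d.X, g * y * g⁻¹ ∈ M ∧ cj(g, R) ≤ Y :=
  by_contra fun c => absurd (xfer h.perf hY (Transfer.signHom hi) hy yy hR hRX hc (-1)
    fun g hg _ h2 => Transfer.signHom_of_not_mem hi fun h1 => c ⟨g, hg, h1, h2⟩) (by decide)
/-- If `t` transfers out through `M`, involutions all of whose extremal conjugates in `P` lie in `M`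
are in `X`.  Proof: let `χ : G → ±1` have kernel `X` (`t ∉ X` by `thompson`), `χ_M : P → ±1` kernel `M`.  By
`xfer0` the transfer `V` of `χ_M` has `V t = -1`, `V y = 1`; `ker V` has index two so equals `X`
(`eq_X`). -/
theorem mem_X {P M R : Subgroup G} (hP : IsSyl 2 P ⊤) (hM : M ≤ P) (hi : M.relIndex P = 2)
    (ht : ∀ y ∈ M, ¬ d.T y) {y : G} (yy : y * y = 1) (hR : IsPGroup 2 R)
    (hc : ∀ r ∈ R, r * y = y * r)
    (hy : ∀ g, g * y * g⁻¹ ∈ P → cj(g, R) ≤ P → g * y * g⁻¹ ∈ M) : y ∈ d.X := by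
  rw [← h.eq_X (Transfer.index_ker_eq_two (xfer0 hP (Transfer.signHom hi) h.tt (R := ⊥)
    IsPGroup.of_bot (fun r hr => by rw [mem_bot.1 hr, mul_one, one_mul]) (-1)
    fun g _ _ => Transfer.signHom_of_not_mem hi fun c => ht _ c (isConj_iff.2 ⟨g, rfl⟩)))]
  exact xfer0 hP (Transfer.signHom hi) yy hR hc 1
    fun g h1 h2 => Transfer.signHom_of_mem hi (hy g h1 h2)
/-- if `u' ∉ X` for some `u'` then `t ∉ X` -/
theorem t_notMem {y : G} (hy : y ∉ d.X) : d.t ∉ d.X := fun c =>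
  hy ((d.X.mul_mem_cancel_right c).1 ((h.gen y).resolve_left hy))
theorem cj_X {g x y : G} (c : Cj g x y) : y ∈ d.X ↔ x ∈ d.X :=
  ⟨fun k => c.symm ▸ h.nX.conj_mem _ k g⁻¹, fun k => c ▸ h.nX.conj_mem _ k g⟩
theorem T_notMem (ht : d.t ∉ d.X) {y : G} (hy : d.T y) : y ∉ d.X :=
  let ⟨_, c⟩ := hy.exists
  mt (h.cj_X c).1 ht
theorem relIndex_X (ht : d.t ∉ d.X) {P : Subgroup G} (hP : d.t ∈ P) :
    Nat.card P = 2 * Nat.card ↥(P ⊓ d.X) := by
  have : (d.X.subgroupOf P).index = 2 := index_eq_two_iff.2 ⟨⟨d.t, hP⟩, fun b => by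
    by_cases c : b.1 ∈ d.X
    · exact .inr ⟨c, fun k => ht ((d.X.mul_mem_cancel_left c).1 k)⟩
    · exact .inl ⟨h.mul_mem_X c ht, c⟩⟩
  rw [← card_mul_index (d.X.subgroupOf P), this, ← inf_subgroupOf_left,
    Nat.card_congr (subgroupOfEquivOfLe inf_le_left).toEquiv, mul_comm]
/-- counting form of the transfer of `t` into `P / M` for an arbitrary `2`-subgroup `P`.
Proof: `t ∈ X` gives `X = ⊤` perfect.  `G` acts on `G/M` by even permutations and on `G/P` by even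
permutations.  `G/M → G/P` is a double cover; for the involution `t`: `#(G/M) = 2 #(G/P)`,
`fix_{G/M} = 2 (fix_{G/P} - n)`, where `n` = number of cosets `gP` with `g⁻¹ t g ∈ P ∖ M`; evenness on
`G/M` means `4 ∣ #(G/M) - fix_{G/M}`, and `2 ∣ #(G/P) - fix_{G/P}`; hence `n` is even.
`n |P| = |C(t)| · N` (`N` the set in the statement), `|C(t)| = |S| · odd`, `|P| = 2 |M|`.
(see `Z2S.Par` `fix_count`, `fix_mod`) -/
theorem parity (hX : d.t ∈ d.X) {P M : Subgroup G} (hP : IsPGroup 2 P) (hM : M ≤ P)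
    (hi : M.relIndex P = 2) :
    4 * Nat.card M ∣ Nat.card d.S * {y | y ∈ P ∧ y ∉ M ∧ d.T y}.ncard := by
  have := Fact.mk Nat.prime_two
  have hG : ∀ H : Subgroup G, H.index ≠ 2 := fun H e => by
    have : d.X = ⊤ := eq_top_iff.2 fun g _ => by_contra fun c => h.t_notMem c hX
    rw [h.eq_X e, this, index_top] at e
    omega
  have a1 := Z2S.fix_count M d.t
  have a2 := Z2S.fix_count P d.t
  obtain ⟨k1, b1⟩ := Z2S.fix_mod hG M h.tt
  obtain ⟨k2, b2⟩ := Z2S.fix_mod hG P h.tt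
  have c1 := relIndex_mul_index hM
  have c2 := card_mul_index (M.subgroupOf P)
  rw [Nat.card_congr (subgroupOfEquivOfLe hM).toEquiv, ← relIndex, hi] at c2
  have c3 : Z2S.N d.t P 1 = Z2S.N d.t M 1 + {y | y ∈ P ∧ y ∉ M ∧ d.T y}.ncard := by
    rw [Z2S.N, Z2S.N, ← Set.ncard_union_eq (Set.disjoint_left.2 fun y h1 h2 => h2.2.1 h1.1)]
    congr 1
    ext y
    have := @hM y
    simp only [mul_one, Set.mem_ofPred_eq, Set.mem_union, T]
    tauto
  have c4 := card_mul_index (d.S.subgroupOf d.C)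
  rw [Nat.card_congr (subgroupOfEquivOfLe h.syl.le).toEquiv, ← relIndex] at c4
  have c5 := h.syl.not_dvd_relIndex
  obtain ⟨j, hj⟩ := IsPGroup.iff_card.1 (hP.to_le hM)
  change _ = Nat.card d.C * _ at a1 a2
  rw [hi] at c1
  rw [c3, ← c2, mul_add, ← a1, ← c4] at a2
  refine Nat.Coprime.dvd_of_dvd_mul_right (k := 4 * Nat.card M) (n := d.S.relIndex d.C) (by
    rw [hj, show 4 * 2 ^ j = 2 ^ (j + 2) by ring]
    exact Nat.Coprime.pow_left _ ((Nat.Prime.coprime_iff_not_dvd Nat.prime_two).2 c5)) ?_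
  generalize Nat.card (MulAction.fixedBy (G ⧸ M) d.t) = f1 at *
  generalize Nat.card (MulAction.fixedBy (G ⧸ P) d.t) = f2 at *
  have e : (2 * f2 : ℤ) - f1 = 4 * (k1 - 2 * k2) := by omega
  refine Int.natCast_dvd_natCast.1 ⟨k1 - 2 * k2, ?_⟩
  zify at a2
  push_cast
  linear_combination -a2 + (Nat.card M : ℤ) * e
theorem out_sr {Y : Subgroup G} (hY : IsSyl 2 Y d.X) (hs : SR 4 Y) : d.Out := Or.inl (hs.syl hY)
theorem out_srP {P : Subgroup G} (hP : IsSyl 2 P ⊤) (hs : SR 4 P) : d.Out :=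
  h.out_sr (h.sylX hP) (hs.mono inf_le_left)
/-- `C(X) = 1` (`C(X) ⊓ X = 1`; an element `g ∉ X` of `C(X)` is a central involution of `G`, so lies in
`S` and centralizes `K ∋ a, b, r₁, r₂`, hence `g = t`) -/
theorem cent_X (e : d.Eps) {g : G} (hg : g ∈ 𝐂[d.X]) (hm : d.t ∉ 𝐂[d.X]) : g = 1 := by
  have := Fact.mk Nat.prime_two
  have z : ∀ g ∈ d.X, g ∈ 𝐂[d.X] → g = 1 := fun g h1 h2 => by
    have := h.sX
    have := ((center d.X).normal_of_characteristic.eq_bot_or_eq_top).resolve_right fun e =>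
      h.ncX ⟨⟨fun a b => mem_center_iff.1 (e.ge (mem_top b)) a⟩⟩
    exact congrArg Subtype.val (mem_bot.1 (this.le (show (⟨g, h1⟩ : d.X) ∈ center d.X from
      mem_center_iff.2 fun x => Subtype.ext (h2 x x.2))))
  by_cases c : g ∈ d.X
  · exact z g c hg
  have g2 := z _ (h.sq_mem g) (mul_mem hg hg)
  have cen : ∀ x, Cj x g g := fun x => Cj.of_comm (by
    by_cases k : x ∈ d.X
    · exact hg x k
    · have := hg _ (h.mul_mem_X k c)
      rwa [← mul_assoc, mul_right_cancel_iff] at this)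
  have hS : g ∈ d.S := h.syl.le_of_normalizes (isPGroup_zpowers ⟨1, by rw [pow_one, sq, g2]⟩)
    (zpowers_le.2 (mem_centralizer_singleton_iff.2 (cen _).comm.symm))
    (zpowers_le.2 (centralizer_le_normalizer' _ fun x _ => (cen x).comm)) (mem_zpowers g)
  have h0 : g ∈ d.S0 := by
    rcases e with e | ⟨w, e⟩
    · exact e ▸ hS
    refine (e.cov g hS).resolve_right fun k => ?_
    obtain ⟨i, j, k, l, m, k⟩ := h.mem_S0.1 k
    have : g * w⁻¹ * d.b = d.a * (g * w⁻¹) := by rw [← e.a, ← mul_assoc d.a, (cen d.a).comm]; group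
    rw [k, h.el_a, h.el_b, h.el_mul, h.el_mul, h.el_eq_iff] at this
    simp at this
  obtain ⟨i, j, k, l, m, rfl⟩ := h.mem_S0.1 h0
  have c1 := (cen d.a).comm
  have c2 := (cen d.b).comm
  rw [h.el_a, h.el_mul, h.el_mul, h.el_eq_iff] at c1
  rw [h.el_b, h.el_mul, h.el_mul, h.el_eq_iff] at c2
  obtain rfl : l = false := by revert c1; cases l <;> simp
  obtain rfl : k = false := by revert c2; cases k <;> simp
  have c3 := (cen d.r₁).unique (((((h.r1t.bp i).mul (h.r1u.bp j)).mul (Cj.one _)).mul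
    (Cj.one _)).mul (h.r1z.bp m))
  obtain rfl : false = m :=
    (h.el_inj (c3.trans (show _ = d.el i j m false false by simp [el]))).2.2.1
  have c4 := (cen d.r₂).unique (((((h.r2t.bp i).mul ((show Cj d.r₂ d.u (d.u * d.z * d.b) by
    have := h.r2u.mul h.r2z; rwa [← h.u_sw] at this).bp j)).mul (Cj.one _)).mul (Cj.one _)).mul (Cj.one _))
  obtain rfl : false = j := (h.el_inj (c4.trans (show _ = d.el i j false j j by
    cases j <;> simp [el, mul_assoc, h.zb]))).2.2.2.1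
  cases i
  exacts [h.el_one.symm, absurd (h.el_t ▸ hg) hm]
theorem A1_norm {g v z' a' : G} (ht : Cj g d.t (d.t * v)) (hu : Cj g d.u d.u) (hz : Cj g d.z z')
    (ha : Cj g d.a a') (hv : v ∈ d.A1) (h1 : z' ∈ d.A1) (h2 : a' ∈ d.A1) : g ∈ 𝐍[d.A1] :=
  mem_norm_closure (by
    unfold Cj at *
    rintro x (rfl | rfl | rfl | rfl)
    exacts [ht.symm ▸ mul_mem (subset_closure (by simp)) hv, hu.symm ▸ subset_closure (by simp),
      hz.symm ▸ h1, ha.symm ▸ h2])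
/-- an element of `N(A₁)` mapping `t` into `t V₁` fixes `u` -/
theorem fix_u (ε : d.Eps) {e : G} (he : d.Ac e (d.t * d.z) d.u d.a d.b) {c : G} {k m : Bool}
    (hn : c ∈ 𝐍[d.A1]) (hc : Cj c d.t (d.t * (bp d.a k * bp d.z m))) : Cj c d.u d.u := by
  have z : d.z ∈ d.A1 := subset_closure (by simp)
  have a : d.a ∈ d.A1 := subset_closure (by simp)
  have ne := h.A1_norm he.t he.u (h.cz' he.a he.b) he.a z z a
  have nr := h.A1_norm (h.r1t.to (mul_one _).symm) h.r1u h.r1z h.r1a (one_mem _) a (mul_mem a z)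
  have key : ∀ {e v}, e ∈ 𝐍[d.A1] → Cj e d.t (d.t * v) → Cj e d.u d.u → Cj c d.t (d.t * v) →
      Cj c d.u d.u := fun {e v} h1 h2 h3 h4 => by
    have := (h.stab1 ε (h4.comp h2.symm) (mul_mem (inv_mem h1) hn)).1.comp h3
    rwa [mul_inv_cancel_left] at this
  have st : ∀ {e v v'}, e ∈ 𝐍[d.A1] ∧ Cj e d.t (d.t * v) ∧ Cj e d.u d.u → Cj d.r₁ v v' →
      d.r₁ * (e * d.r₁⁻¹) ∈ 𝐍[d.A1] ∧ Cj (d.r₁ * (e * d.r₁⁻¹)) d.t (d.t * v') ∧
        Cj (d.r₁ * (e * d.r₁⁻¹)) d.u d.u := fun ⟨h1, h2, h3⟩ h4 =>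
    ⟨mul_mem nr (mul_mem h1 (inv_mem nr)), (h.r1t.symm.comp h2).comp (h.r1t.mul h4),
      (h.r1u.symm.comp h3).comp h.r1u⟩
  have s1 := st ⟨ne, he.t, he.u⟩ h.r1z
  have s2 := st s1 h.r1a
  cases k <;> cases m <;> simp only [bp_true, bp_false, mul_one, one_mul] at hc
  exacts [(h.stab1 ε hc hn).1, key ne he.t he.u hc, key s1.1 s1.2.1 s1.2.2 hc,
    key s2.1 s2.2.1 s2.2.2 hc]
/-- Early exit.  `t, u ∉ X`; `E = ⟨t u, z, a⟩ ≤ X` has order 8.  `A₁` is Sylow in `C(E)`: otherwise a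
2-element `c ∈ C(E) ⊓ N(A₁) ∖ C(A₁)` (`sylA1`) maps `t ↦ t x`, `u ↦ u x`, `1 ≠ x ∈ E`.  If `x ∈ V₁`, then a conjugate
`e'` of `e` by a power of `r₁` maps `t ↦ t x`, `u ↦ u`, and `e'⁻¹ c` contradicts `stab1`.  If `x = t u v`,
then `u v ~ u, u z` (by `r₁`) is conjugate to `t`, against `NT`.  So for a Sylow `Y ≥ E` of `X`,
`C_Y(E) = E` and `SR.harada` applies. -/
theorem early (ε : d.Eps) (nt : d.NT) {e : G} (he : d.Ac e (d.t * d.z) d.u d.a d.b)
    (hu : d.u ∉ d.X) : SR 4 d.X := by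
  have := Fact.mk Nat.prime_two
  have := h.nX
  have ht := h.t_notMem hu
  have tu := h.mul_mem_X ht hu
  have zX := h.KX h.z_K
  have aX := h.KX h.a_K
  have mX : ∀ i j k m, d.el i j k false m ∈ d.X ↔ i = j := fun i j k m => by
    rw [el, d.X.mul_mem_cancel_right (bp_mem zX m), bp_false, mul_one,
      d.X.mul_mem_cancel_right (bp_mem aX k)]
    cases i <;> cases j <;> simp [ht, hu, tu]
  have mE : ∀ x, x ∈ d.A1 ⊓ d.X ↔ ∃ p : Bool × Bool × Bool, x = d.el p.1 p.1 p.2.1 false p.2.2 :=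
    fun x => ⟨fun ⟨h1, h2⟩ => by
      obtain ⟨i, j, k, m, rfl⟩ := h.mem_A1.1 h1
      obtain rfl := (mX ..).1 h2
      exact ⟨(i, k, m), rfl⟩, by
      rintro ⟨p, rfl⟩
      exact ⟨h.mem_A1.2 ⟨_, _, _, _, rfl⟩, (mX ..).2 rfl⟩⟩
  have cA : d.A1 ≤ 𝐂[d.A1] := fun x hx y hy => by
    obtain ⟨i, j, k, m, rfl⟩ := h.mem_A1.1 hx
    obtain ⟨i', j', k', m', rfl⟩ := h.mem_A1.1 hy
    simp [h.el_mul, Bool.xor_comm]
  have tA : d.t ∈ d.A1 := subset_closure (by simp)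
  have uA : d.u ∈ d.A1 := subset_closure (by simp)
  have zA : d.z ∈ d.A1 := subset_closure (by simp)
  have aA : d.a ∈ d.A1 := subset_closure (by simp)
  have pA := h.pS0.to_le h.A1_le
  have le : d.A1 ≤ 𝐂[d.A1 ⊓ d.X] := cA.trans (centralizer_le (SetLike.coe_subset_coe.2 inf_le_left))
  have s : IsSyl 2 d.A1 𝐂[d.A1 ⊓ d.X] := isSyl_of_isSyl_normalizer ⟨le_inf le le_normalizer, pA,
    fun R hR h1 h2 c hc => (h.sylA1 ε).max (R ⊓ 𝐂[d.A1]) (hR.to_le inf_le_left) (le_inf h1 cA)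
      inf_le_right ⟨hc, by
      have c1 : Cj c (d.t * d.u) (d.t * d.u) := Cj.of_cent (h2 hc).1 ⟨mul_mem tA uA, tu⟩
      have c2 : Cj c d.t d.t := by
        obtain ⟨i, j, k, m, y⟩ := h.mem_A1.1 (conj_mem_of_mem_normalizer (h2 hc).2 tA)
        have T : d.T (d.el i j k false m) := d.T_t.cj y
        have := mt (mX i j k m).2 (h.T_notMem ht T)
        cases i <;> cases j
        · exact absurd rfl this
        rotate_left 2
        · exact absurd rfl this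
        · cases k <;> cases m <;> simp only [el, bp_true, bp_false, mul_one, one_mul] at T
          exacts [absurd T nt.u, absurd T nt.uz, absurd (T.cj' (h.r1u.mul h.r1z)) nt.uz,
            absurd ((T.cj' ((h.r1u.mul h.r1a).to (mul_assoc _ _ _).symm)).cj'
              (h.r1u.mul h.r1z)) nt.uz]
        · have := h.fix_u ε he (k := k) (m := m) (h2 hc).2 (Cj.to y (by simp [el, mul_assoc]))
          exact Cj.to (mul_right_cancel (((Cj.to rfl rfl : Cj c d.t _).mul this).unique c1)) rfl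
      refine mem_cent_closure ?_
      rintro x (rfl | rfl | rfl | rfl)
      exacts [c2, h.u_tw ▸ c2.mul c1, Cj.of_cent (h2 hc).1 ⟨zA, zX⟩, Cj.of_cent (h2 hc).1 ⟨aA, aX⟩]⟩⟩
  have s' := s.inf (N := d.X) le_normalizer_of_normal
  obtain ⟨Y, hY, hE⟩ := exists_isSyl_ge (pA.to_le (inf_le_left : d.A1 ⊓ d.X ≤ _)) inf_le_right
  refine SR.syl hY (SR.harada hY.pgrp hE (fun x hx => ?_) ?_ fun x hx hc => s'.max (Y ⊓ 𝐂[d.A1 ⊓ d.X])
    (hY.pgrp.to_le inf_le_left) (le_inf hE (inf_le_left.trans le))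
    (le_inf inf_le_right (inf_le_left.trans hY.le)) ⟨hx, fun a ha => (hc a ha).symm⟩)
  · obtain ⟨p, rfl⟩ := (mE x).1 hx
    simp [sq, h.el_mul, h.el_one]
  · rw [h.card_of _ (fun x y e => by simpa [h.el_eq_iff, Prod.ext_iff] using e) mE]
    simp

/-- `e f (ρ f ρ⁻¹) = 1` with three conjugates gives `e ∈ X` -/
theorem lay_mem {e f ρ : G} {l : Bool} (L : d.Lay e f ρ l) : e ∈ d.X ∧ f ∈ d.X ∧ ρ ∈ d.X := by
  have : e ∈ d.X := by_contra fun c =>
    have c' := mt (h.cj_X L.pe).1 c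
    c' ((h.cj_X L.pf).1 (inv_mem (h.mul_mem_X c c')))
  exact ⟨this, (h.cj_X L.pe).2 this, h.odd_mem L.odd⟩
theorem layII_mem {r s k ρ : G} {μ ν : Bool} (L : d.LayII r s k ρ μ ν) :
    r ∈ d.X ∧ s ∈ d.X ∧ d.u ∈ d.X ∧ ρ ∈ d.X := by
  have : r ∈ d.X := by_contra fun c =>
    have c' := mt (h.cj_X L.pr).1 c
    c' ((h.cj_X L.ps).1 (h.mul_mem_X c c'))
  exact ⟨this, (h.cj_X L.pr).2 this, (d.X.mul_mem_cancel_left (h.KX h.z_K)).1
    ((h.cj_X L.sz).2 (h.KX h.z_K)), h.odd_mem L.odd⟩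


end Dat.Cfg

end Cfsg.Agent.HSD
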